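import Mathlib

/-!
Finite modules, torsion-free over a valuation ring, over algebras essentially of finite type are
finitely presented: saturated submodules of free modules over polynomial rings are finitely generated,
because their degree filtration stabilises over the residue field.
-/

set_option autoImplicit false

namespace Groth.Calg7.ValFlatFP

open MvPolynomial

universe u

section Field

variable {k σ : Type u} [Field k] [Finite σ] {r : ℕ}

/-- Homogenisation variable. -/
noncomputable def θ : MvPolynomial (Option σ) k →ₐ[k] Polynomial (MvPolynomial σ k) :=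
  aeval fun o => Option.elim o Polynomial.X fun i => Polynomial.X * Polynomial.C (X i)

omit [Finite σ] in
theorem totalDegree_coeff_θ (q : MvPolynomial (Option σ) k) (e : ℕ) :
    ((θ q).coeff e).totalDegree ≤ e := by
  induction q using MvPolynomial.induction_on generalizing e with
  | C a =>
    rw [θ, aeval_C, IsScalarTower.algebraMap_apply k (MvPolynomial σ k), Polynomial.algebraMap_eq,
      Polynomial.coeff_C, MvPolynomial.algebraMap_eq]
    split <;> simp
  | add p q hp hq =>
    rw [map_add, Polynomial.coeff_add]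
    exact (totalDegree_add _ _).trans (max_le (hp e) (hq e))
  | mul_X p o hp =>
    rw [map_mul]
    match o with
    | none =>
      rw [θ, aeval_X, Option.elim_none, ← θ]
      match e with
      | 0 => simp
      | e + 1 => rw [Polynomial.coeff_mul_X]; exact (hp e).trans e.le_succ
    | some i =>
      rw [θ, aeval_X, Option.elim_some, ← θ, ← mul_assoc, Polynomial.coeff_mul_C]
      match e with
      | 0 => simp
      | e + 1 =>
        rw [Polynomial.coeff_mul_X]
        exact (totalDegree_mul _ _).trans (add_le_add (hp e) (totalDegree_X i).le)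

omit [Finite σ] in
theorem exists_θ_eq (p : MvPolynomial σ k) (d : ℕ) (hp : p.totalDegree ≤ d) :
    ∃ q : MvPolynomial (Option σ) k, θ q = Polynomial.C p * Polynomial.X ^ d := by
  classical
  refine ⟨∑ α ∈ p.support, C (p.coeff α) * (X none ^ (d - α.sum fun _ e => e)) * α.prod fun i e => X (some i) ^ e, ?_⟩
  conv_rhs => rw [p.as_sum, map_sum, Finset.sum_mul]
  rw [map_sum]
  refine Finset.sum_congr rfl fun α hα => ?_
  have hle : (α.sum fun _ e => e) ≤ d := (le_totalDegree hα).trans hp
  rw [map_mul, map_mul, map_pow, map_finsuppProd]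
  simp only [θ, map_pow, aeval_X, aeval_C, Option.elim_none, Option.elim_some, mul_pow]
  rw [Finsupp.prod, Finset.prod_mul_distrib, Finset.prod_pow_eq_pow_sum]
  rw [show (∑ a ∈ α.support, α a) = α.sum fun _ e => e from rfl]
  rw [monomial_eq, Finsupp.prod, map_mul, map_prod]
  simp only [map_pow]
  rw [IsScalarTower.algebraMap_apply k (MvPolynomial σ k), Polynomial.algebraMap_eq, MvPolynomial.algebraMap_eq]
  rw [show d = (d - α.sum fun _ e => e) + α.sum fun _ e => e from (Nat.sub_add_cancel hle).symm, pow_add,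
    Nat.add_sub_cancel]
  ring

theorem stabilise (W : ℕ → Submodule k (Fin r → MvPolynomial σ k))
    (hdeg : ∀ d, ∀ w ∈ W d, ∀ i, (w i).totalDegree ≤ d) (hmono : Monotone W)
    (hX : ∀ d, ∀ w ∈ W d, ∀ i : σ, (X i : MvPolynomial σ k) • w ∈ W (d + 1)) :
    ∃ D, ∀ d ≥ D, W (d + 1) ≤ W d ⊔ Submodule.span k {v | ∃ i : σ, ∃ w ∈ W d, v = (X i : MvPolynomial σ k) • w} := by
  classical
  -- multiplying by a polynomial
  have hmul : ∀ (e a : ℕ), ∀ v ∈ W a, ∀ p : MvPolynomial σ k, p.totalDegree ≤ e → p • v ∈ W (a + e) := by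
    intro e
    induction e with
    | zero =>
      intro a v hv p hp
      rw [totalDegree_eq_zero_iff_eq_C.1 (Nat.le_zero.1 hp), ← MvPolynomial.algebraMap_eq, algebraMap_smul]
      exact (W a).smul_mem _ hv
    | succ e ih =>
      intro a v hv p hp
      rw [p.as_sum, Finset.sum_smul]
      refine Submodule.sum_mem _ fun α hα => ?_
      by_cases hα0 : α = 0
      · subst hα0
        rw [monomial_zero', ← MvPolynomial.algebraMap_eq, algebraMap_smul]
        exact hmono (Nat.le_add_right _ _) ((W a).smul_mem _ hv)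
      obtain ⟨i, hi⟩ : ∃ i, α i ≠ 0 := by
        by_contra h; push Not at h; exact hα0 (Finsupp.ext h)
      obtain ⟨β, rfl⟩ : ∃ β, α = Finsupp.single i 1 + β := ⟨α - Finsupp.single i 1,
        (add_tsub_cancel_of_le (Finsupp.single_le_iff.2 (Nat.one_le_iff_ne_zero.2 hi))).symm⟩
      rw [show monomial (Finsupp.single i 1 + β) (p.coeff (Finsupp.single i 1 + β)) =
        X i * monomial β (p.coeff (Finsupp.single i 1 + β)) by rw [X, monomial_mul, one_mul], mul_smul]
      refine hX (a + e) _ (ih a v hv _ ((totalDegree_monomial_le _ _).trans ?_)) i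
      have h1 := (le_totalDegree hα).trans hp
      rw [Finsupp.sum_add_index' (fun _ => rfl) (fun _ _ _ => rfl), Finsupp.sum_single_index rfl] at h1
      have e1 : (β.sum fun _ => id) = β.sum fun _ e => e := rfl
      omega
  let S : Set (Fin r → MvPolynomial (Option σ) k) :=
    {F | ∃ d, ∃ w ∈ W d, ∀ i, θ (F i) = Polynomial.C (w i) * Polynomial.X ^ d}
  obtain ⟨T, hTS, hT⟩ := (Submodule.fg_span_iff_fg_span_finset_subset (R := MvPolynomial (Option σ) k) S).1
    (IsNoetherian.noetherian _)
  choose dj wj hwj hθj using fun j : T => hTS j.2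
  refine ⟨Finset.univ.sup dj, fun d hd w hw => ?_⟩
  obtain ⟨F, hF⟩ : ∃ F : Fin r → MvPolynomial (Option σ) k, ∀ i, θ (F i) = Polynomial.C (w i) * Polynomial.X ^ (d + 1) :=
    Classical.axiom_of_choice fun i => exists_θ_eq (w i) (d + 1) (hdeg _ w hw i)
  have hFs : F ∈ Submodule.span (MvPolynomial (Option σ) k) (T : Set _) :=
    hT ▸ Submodule.subset_span ⟨d + 1, w, hw, hF⟩
  rw [show (T : Set (Fin r → MvPolynomial (Option σ) k)) = Set.range ((↑) : T → _) by simp,
    Submodule.mem_span_range_iff_exists_fun] at hFs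
  obtain ⟨q, hq⟩ := hFs
  have hw' : w = ∑ j : T, (θ (q j)).coeff (d + 1 - dj j) • wj j := by
    funext i
    have h1 := congrArg (fun x => (θ x).coeff (d + 1)) (congrFun hq i)
    simp only [Finset.sum_apply, Pi.smul_apply, smul_eq_mul, map_sum, map_mul, hθj, hF,
      Polynomial.finset_sum_coeff, Polynomial.coeff_C_mul_X_pow, if_true] at h1
    rw [← h1, Finset.sum_apply]
    refine Finset.sum_congr rfl fun j _ => ?_
    rw [← mul_assoc, Polynomial.coeff_mul_X_pow', if_pos (by
      have := Finset.le_sup (f := dj) (Finset.mem_univ j); omega), Polynomial.coeff_mul_C, Pi.smul_apply, smul_eq_mul]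
  rw [hw']
  refine Submodule.sum_mem _ fun j _ => ?_
  have hjd : dj j ≤ d := (Finset.le_sup (f := dj) (Finset.mem_univ j)).trans hd
  rw [((θ (q j)).coeff (d + 1 - dj j)).as_sum, Finset.sum_smul]
  refine Submodule.sum_mem _ fun α hα => ?_
  by_cases hα0 : α = 0
  · subst hα0
    rw [monomial_zero', ← MvPolynomial.algebraMap_eq, algebraMap_smul]
    exact Submodule.mem_sup_left (hmono hjd ((W _).smul_mem _ (hwj j)))
  obtain ⟨i, hi⟩ : ∃ i, α i ≠ 0 := by
    by_contra h; push Not at h; exact hα0 (Finsupp.ext h)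
  obtain ⟨β, rfl⟩ : ∃ β, α = Finsupp.single i 1 + β := ⟨α - Finsupp.single i 1,
    (add_tsub_cancel_of_le (Finsupp.single_le_iff.2 (Nat.one_le_iff_ne_zero.2 hi))).symm⟩
  refine Submodule.mem_sup_right (Submodule.subset_span ⟨i,
    monomial β (((θ (q j)).coeff (d + 1 - dj j)).coeff (Finsupp.single i 1 + β)) • wj j, ?_, ?_⟩)
  · have h1 := (le_totalDegree hα).trans (totalDegree_coeff_θ _ _)
    rw [Finsupp.sum_add_index' (fun _ => rfl) (fun _ _ _ => rfl), Finsupp.sum_single_index rfl] at h1
    have e1 : (β.sum fun _ => id) = β.sum fun _ e => e := rfl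
    have h2 := hmul (d - dj j) (dj j) (wj j) (hwj j) (monomial β _)
      ((totalDegree_monomial_le β (((θ (q j)).coeff (d + 1 - dj j)).coeff (Finsupp.single i 1 + β))).trans (by omega))
    rwa [Nat.add_sub_cancel' hjd] at h2
  · rw [← mul_smul, X, monomial_mul, one_mul]

end Field

section Val

variable {V σ : Type u} [CommRing V] [IsDomain V] [ValuationRing V] [Finite σ] {r : ℕ}

theorem fg_of_saturated (K : Submodule (MvPolynomial σ V) (Fin r → MvPolynomial σ V))
    (hsat : ∀ (c : V) (f : Fin r → MvPolynomial σ V), c ≠ 0 → c • f ∈ K → f ∈ K) : K.FG := by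
  classical
  let k := IsLocalRing.ResidueField V
  let red : (Fin r → MvPolynomial σ V) → (Fin r → MvPolynomial σ k) := fun f i => map (IsLocalRing.residue V) (f i)
  let Fd : ℕ → Submodule V (Fin r → MvPolynomial σ V) := fun d => Submodule.pi Set.univ fun _ => restrictTotalDegree σ V d
  let Kd : ℕ → Submodule V (Fin r → MvPolynomial σ V) := fun d => K.restrictScalars V ⊓ Fd d
  have hFd : ∀ d f, f ∈ Fd d ↔ ∀ i, (f i).totalDegree ≤ d := fun d f => by
    simp [Fd, Submodule.mem_pi, mem_restrictTotalDegree]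
  let img : Submodule V (Fin r → MvPolynomial σ V) → Submodule k (Fin r → MvPolynomial σ k) := fun L =>
    { carrier := red '' L
      add_mem' := by
        rintro _ _ ⟨a, ha, rfl⟩ ⟨b, hb, rfl⟩
        exact ⟨a + b, L.add_mem ha hb, funext fun i => by simp [red]⟩
      zero_mem' := ⟨0, L.zero_mem, funext fun i => by simp [red]⟩
      smul_mem' := by
        rintro c _ ⟨a, ha, rfl⟩
        obtain ⟨c, rfl⟩ := IsLocalRing.residue_surjective c
        exact ⟨c • a, L.smul_mem _ ha, funext fun i => by
          simp [red, MvPolynomial.smul_eq_C_mul]⟩ }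
  have himg : ∀ L v, v ∈ img L ↔ ∃ h ∈ L, red h = v := fun L v => Iff.rfl
  have hXmem : ∀ d (i : σ), ∀ f ∈ Kd d, (X i : MvPolynomial σ V) • f ∈ Kd (d + 1) := by
    intro d i f hf
    refine ⟨K.smul_mem _ hf.1, (hFd _ _).2 fun j => ?_⟩
    refine (totalDegree_mul _ _).trans ?_
    rw [totalDegree_X, add_comm]
    exact Nat.add_le_add_right ((hFd _ _).1 hf.2 j) 1
  have hKmono : Monotone Kd := fun a b hab f hf => ⟨hf.1, (hFd _ _).2 fun i => ((hFd _ _).1 hf.2 i).trans hab⟩
  obtain ⟨D, hD⟩ := stabilise (fun d => img (Kd d))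
    (fun d v hv i => by
      obtain ⟨f, hf, rfl⟩ := (himg _ _).1 hv
      exact (Finset.sup_mono (support_map_subset _ _)).trans ((hFd _ _).1 hf.2 i))
    (fun a b hab v hv => by
      obtain ⟨f, hf, rfl⟩ := (himg _ _).1 hv
      exact ⟨f, hKmono hab hf, rfl⟩)
    (fun d v hv i => by
      obtain ⟨f, hf, rfl⟩ := (himg _ _).1 hv
      exact ⟨(X i : MvPolynomial σ V) • f, hXmem d i f hf, funext fun j => by simp [red]⟩)
  have hFfin : ∀ d, Module.Finite V (Fd d) := fun d =>
    Module.Finite.iff_fg.2 (Submodule.fg_pi fun _ => Module.Finite.iff_fg.1 inferInstance)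
  -- the retractions onto the saturated pieces
  have hret : ∀ d, ∃ ρ : Fd d →ₗ[V] Fd d, (∀ f, (ρ f).1 ∈ K) ∧ ∀ f, f.1 ∈ K → ρ f = f := by
    intro d
    haveI := hFfin d
    let N : Submodule V (Fd d) := (K.restrictScalars V).comap (Fd d).subtype
    haveI : Module.IsTorsionFree V ((Fd d) ⧸ N) := .of_smul_eq_zero fun c x hx => by
      obtain ⟨x, rfl⟩ := N.mkQ_surjective x
      rw [← map_smul, Submodule.mkQ_apply, Submodule.Quotient.mk_eq_zero] at hx
      rw [Submodule.mkQ_apply, Submodule.Quotient.mk_eq_zero]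
      exact or_iff_not_imp_left.2 fun hc => hsat c x.1 hc hx
    haveI : Module.Flat V ((Fd d) ⧸ N) :=
      Module.Flat.flat_iff_torsion_eq_bot_of_isBezout.2 (Submodule.isTorsionFree_iff_torsion_eq_bot.1 inferInstance)
    haveI : Module.Free V ((Fd d) ⧸ N) := Module.free_of_flat_of_isLocalRing
    obtain ⟨s, hs⟩ := Module.projective_lifting_property N.mkQ LinearMap.id N.mkQ_surjective
    refine ⟨LinearMap.id - s ∘ₗ N.mkQ, fun f => ?_, fun f hf => ?_⟩
    · have h1 : N.mkQ (f - s (N.mkQ f)) = 0 := by
        rw [map_sub, ← LinearMap.comp_apply, hs, LinearMap.id_apply, sub_self]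
      exact (Submodule.Quotient.mk_eq_zero N).1 h1
    · show f - s (N.mkQ f) = f
      rw [Submodule.mkQ_apply, (Submodule.Quotient.mk_eq_zero N).2 (show f ∈ N from hf), map_zero, sub_zero]
  have hKfin : ∀ d, (Kd d).FG := by
    intro d
    obtain ⟨ρ, hρ, hρ'⟩ := hret d
    haveI := hFfin d
    rw [show Kd d = LinearMap.range ((Fd d).subtype ∘ₗ ρ) from le_antisymm
      (fun f hf => ⟨⟨f, hf.2⟩, congrArg Subtype.val (hρ' ⟨f, hf.2⟩ hf.1)⟩)
      (by rintro _ ⟨f, rfl⟩; exact ⟨hρ f, (ρ f).2⟩)]
    exact Module.Finite.iff_fg.1 inferInstance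
  let G : Submodule (MvPolynomial σ V) (Fin r → MvPolynomial σ V) := Submodule.span _ (Kd D : Set _)
  have hGK : G ≤ K := Submodule.span_le.2 fun f hf => hf.1
  have hKG : ∀ d, Kd d ≤ G.restrictScalars V := by
    intro d
    induction d with
    | zero => exact fun f hf => Submodule.subset_span (hKmono (Nat.zero_le D) hf)
    | succ d ih =>
      by_cases hdD : d + 1 ≤ D
      · exact fun f hf => Submodule.subset_span (hKmono hdD hf)
      refine Submodule.le_of_le_smul_of_le_jacobson_bot (I := IsLocalRing.maximalIdeal V) (hKfin _)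
        (IsLocalRing.maximalIdeal_le_jacobson _) ?_
      intro g hg
      have hgW : red g ∈ img (Kd d ⊔ Submodule.span V {f | ∃ i : σ, ∃ h ∈ Kd d, f = (X i : MvPolynomial σ V) • h}) := by
        have hD' := hD d (by omega) ((himg _ _).2 ⟨g, hg, rfl⟩)
        suffices hle : img (Kd d) ⊔ Submodule.span k {v | ∃ i : σ, ∃ w ∈ img (Kd d), v = (X i : MvPolynomial σ k) • w}
            ≤ img (Kd d ⊔ Submodule.span V {f | ∃ i : σ, ∃ h ∈ Kd d, f = (X i : MvPolynomial σ V) • h}) from hle hD'
        refine sup_le ?_ (Submodule.span_le.2 ?_)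
        · intro v hv
          obtain ⟨f, hf, rfl⟩ := (himg _ _).1 hv
          exact ⟨f, Submodule.mem_sup_left hf, rfl⟩
        · rintro v ⟨i, w, hw, rfl⟩
          obtain ⟨f, hf, rfl⟩ := (himg _ _).1 hw
          exact ⟨(X i : MvPolynomial σ V) • f, Submodule.mem_sup_right (Submodule.subset_span ⟨i, f, hf, rfl⟩),
            funext fun j => by simp [red]⟩
      obtain ⟨h, hh, hhg⟩ := (himg _ _).1 hgW
      have hhG : h ∈ G.restrictScalars V := by
        refine (sup_le ih (Submodule.span_le.2 ?_)) hh
        rintro _ ⟨i, f, hf, rfl⟩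
        exact G.smul_mem _ (ih hf)
      have hhK : h ∈ Kd (d + 1) := by
        refine (sup_le (hKmono d.le_succ) (Submodule.span_le.2 ?_)) hh
        rintro _ ⟨i, f, hf, rfl⟩
        exact hXmem d i f hf
      have hx : g - h ∈ Kd (d + 1) := sub_mem hg hhK
      obtain ⟨ρ, hρ, hρ'⟩ := hret (d + 1)
      have hcoef : ∀ i α, ((g - h) i).coeff α ∈ IsLocalRing.maximalIdeal V := fun i α => by
        rw [← IsLocalRing.residue_eq_zero_iff, ← MvPolynomial.coeff_map, Pi.sub_apply, map_sub]
        rw [show map (IsLocalRing.residue V) (g i) = map (IsLocalRing.residue V) (h i) from (congrFun hhg i).symm,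
          sub_self, coeff_zero]
      have hsum : (⟨g - h, hx.2⟩ : Fd (d + 1)) ∈ IsLocalRing.maximalIdeal V • (⊤ : Submodule V (Fd (d + 1))) := by
        have : (⟨g - h, hx.2⟩ : Fd (d + 1)) = ∑ i : Fin r, ∑ α ∈ ((g - h) i).support.attach,
            ((g - h) i).coeff α.1 • (⟨Pi.single i (monomial α.1 1), (hFd _ _).2 fun j => by
              by_cases hj : j = i
              · subst hj
                rw [Pi.single_eq_same]
                exact (totalDegree_monomial_le _ _).trans ((le_totalDegree α.2).trans ((hFd _ _).1 hx.2 j))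
              · rw [Pi.single_eq_of_ne hj]; simp⟩ : Fd (d + 1)) := by
          apply Subtype.ext
          simp only [AddSubmonoidClass.coe_finsetSum, SetLike.val_smul]
          funext j
          rw [Finset.sum_apply, Finset.sum_eq_single j]
          · rw [Finset.sum_apply]
            simp only [Pi.smul_apply, Pi.single_eq_same, smul_monomial, smul_eq_mul, mul_one]
            rw [Finset.sum_attach _ (fun α => monomial α (((g - h) j).coeff α))]
            exact ((g - h) j).as_sum
          · intro b _ hbj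
            simp [Finset.sum_apply, Pi.single_eq_of_ne' hbj]
          · simp
        rw [this]
        exact Submodule.sum_mem _ fun i _ => Submodule.sum_mem _ fun α _ =>
          Submodule.smul_mem_smul (hcoef i α.1) Submodule.mem_top
      have h2 := Submodule.mem_map_of_mem (f := (Fd (d + 1)).subtype ∘ₗ ρ) hsum
      rw [Submodule.map_smul''] at h2
      rw [Submodule.mem_sup]
      have h3 := congrArg Subtype.val (hρ' ⟨g - h, hx.2⟩ hx.1)
      simp only [LinearMap.comp_apply, Submodule.subtype_apply, h3] at h2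
      have hle : Submodule.map ((Fd (d + 1)).subtype ∘ₗ ρ) ⊤ ≤ Kd (d + 1) := by
        rintro _ ⟨f, -, rfl⟩
        exact ⟨hρ f, (ρ f).2⟩
      exact ⟨h, hhG, g - h, Submodule.smul_mono le_rfl hle h2, by abel⟩
  have hK : K = G := by
    refine le_antisymm (fun f hf => hKG (Finset.univ.sup fun i => (f i).totalDegree) ⟨hf, (hFd _ _).2 fun i => ?_⟩) hGK
    exact Finset.le_sup (f := fun i => (f i).totalDegree) (Finset.mem_univ i)
  obtain ⟨s, hs⟩ := hKfin D
  refine ⟨s, ?_⟩
  rw [hK]
  show _ = Submodule.span (MvPolynomial σ V) ((Kd D : Submodule V (Fin r → MvPolynomial σ V)) : Set (Fin r → MvPolynomial σ V))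
  rw [← hs]
  exact (Submodule.span_span_of_tower V (MvPolynomial σ V) (s : Set (Fin r → MvPolynomial σ V))).symm

end Val

theorem finitePresentation (V B M : Type u) [CommRing V] [IsDomain V] [ValuationRing V] [CommRing B]
    [Algebra V B] [Algebra.EssFiniteType V B] [AddCommGroup M] [Module B M] [Module V M] [IsScalarTower V B M]
    [Module.Finite B M] [Module.IsTorsionFree V M] : Module.FinitePresentation B M := by
  classical
  obtain ⟨t, ht⟩ := (Algebra.essFiniteType_iff V B).1 inferInstance
  let σ := (t : Set B)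
  let φ : MvPolynomial σ V →ₐ[V] B := aeval Subtype.val
  have hφ : ∀ x ∈ Algebra.adjoin V (t : Set B), ∃ p, φ p = x := fun x hx => by
    rwa [show (t : Set B) = Set.range (Subtype.val : σ → B) by simp [σ],
      Algebra.adjoin_range_eq_range_aeval] at hx
  obtain ⟨r, π, hπ⟩ := Module.Finite.exists_fin' B M
  letI : Algebra (MvPolynomial σ V) B := φ.toRingHom.toAlgebra
  haveI : IsScalarTower V (MvPolynomial σ V) B := IsScalarTower.of_algebraMap_eq fun c => (φ.commutes c).symm
  let ι : (Fin r → MvPolynomial σ V) →ₗ[MvPolynomial σ V] (Fin r → B) :=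
    LinearMap.compLeft (Algebra.linearMap (MvPolynomial σ V) B) (Fin r)
  let K : Submodule (MvPolynomial σ V) (Fin r → MvPolynomial σ V) :=
    (LinearMap.ker π).restrictScalars (MvPolynomial σ V) |>.comap ι
  have hιs : ∀ (c : V) f, ι (c • f) = c • ι f := fun c f => LinearMap.map_smul_of_tower ι c f
  have hK : K.FG := fg_of_saturated K fun c f hc hcf => by
    rw [Submodule.mem_comap, Submodule.restrictScalars_mem, LinearMap.mem_ker] at hcf ⊢
    rw [hιs, LinearMap.map_smul_of_tower] at hcf
    exact (smul_eq_zero.1 hcf).resolve_left hc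
  refine Module.finitePresentation_of_surjective π hπ ?_
  obtain ⟨s, hs⟩ := hK
  refine ⟨s.image ι, le_antisymm (Submodule.span_le.2 ?_) fun x hx => ?_⟩
  · rintro _ h
    obtain ⟨f, hf, rfl⟩ := Finset.mem_image.1 h
    exact (hs ▸ Submodule.subset_span hf : f ∈ K)
  · choose u hu hun hux using ht
    let U : B := ∏ i, u (x i)
    have hUu : IsUnit U := IsUnit.prod_univ_iff.2 fun i => hun _
    choose p hp using fun i => hφ _ (show U * x i ∈ Algebra.adjoin V (t : Set B) by
      rw [show U = (∏ j ∈ Finset.univ.erase i, u (x j)) * u (x i) from (Finset.prod_erase_mul _ _ (Finset.mem_univ i)).symm,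
        mul_assoc, mul_comm (u (x i)) (x i)]
      exact Subalgebra.mul_mem _ (Subalgebra.prod_mem _ fun j _ => hu _) (hux _))
    have hιp : ι p = U • x := funext hp
    have hpK : p ∈ K := by
      rw [Submodule.mem_comap, Submodule.restrictScalars_mem, hιp]
      exact Submodule.smul_mem _ _ hx
    rw [← hs] at hpK
    have hmem : ι p ∈ Submodule.span B ((s.image ι : Finset _) : Set (Fin r → B)) := by
      have h1 := Submodule.mem_map_of_mem (f := ι) hpK
      rw [Submodule.map_span, ← Finset.coe_image] at h1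
      exact Submodule.span_le_restrictScalars (MvPolynomial σ V) B _ h1
    rw [hιp] at hmem
    exact (Submodule.smul_mem_iff_of_isUnit _ hUu).1 hmem

end Groth.Calg7.ValFlatFP
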