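import Mathlib

/-! The Abhyankar inequality. -/

set_option autoImplicit false

namespace Groth.Calg7.Abhyankar

open MvPolynomial

universe u

variable {K L Γ₀ Γ₁ : Type u} [Field K] [Field L] [Algebra K L]
  [LinearOrderedCommGroupWithZero Γ₀] [LinearOrderedCommGroupWithZero Γ₁]
  (vK : Valuation K Γ₀) (vL : Valuation L Γ₁) [vK.HasExtension vL]

/-- the subgroup generated by units of the valuation ring and `K^×` -/
noncomputable abbrev H : Subgroup Lˣ :=
  vL.valuationSubring.unitGroup ⊔ (Units.map (algebraMap K L).toMonoidHom).range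

/-- value groups quotient -/
noncomputable abbrev Q : Type u := Additive Lˣ ⧸ Subgroup.toAddSubgroup (H (K := K) vL)

/-- class of a unit -/
noncomputable def cls (w : Lˣ) : Q (K := K) vL := QuotientAddGroup.mk (Additive.ofMul w)

omit [vK.HasExtension vL] in
theorem cls_eq_of_val_eq (w₁ w₂ : Lˣ) (c₁ c₂ : K) (h₁ : c₁ ≠ 0) (h₂ : c₂ ≠ 0)
    (h : vL ((w₁ : L) * algebraMap K L c₁) = vL ((w₂ : L) * algebraMap K L c₂)) :
    cls (K := K) vL w₁ = cls (K := K) vL w₂ := by
  let k₁ : Lˣ := Units.map (algebraMap K L).toMonoidHom (Units.mk0 c₁ h₁)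
  let k₂ : Lˣ := Units.map (algebraMap K L).toMonoidHom (Units.mk0 c₂ h₂)
  have hu : (w₁ * k₁)⁻¹ * (w₂ * k₂) ∈ vL.valuationSubring.unitGroup := by
    rw [ValuationSubring.mem_unitGroup_iff,
      ← (vL.isEquiv_valuation_valuationSubring).eq_one_iff_eq_one, Units.val_mul,
      Units.val_inv_eq_inv_val, map_mul, map_inv₀]
    change (vL ((w₁ : L) * algebraMap K L c₁))⁻¹ * vL ((w₂ : L) * algebraMap K L c₂) = 1
    rw [h, inv_mul_cancel₀]
    exact (Valuation.ne_zero_iff vL).2 (mul_ne_zero w₂.ne_zero ((_root_.map_ne_zero _).2 h₂))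
  have hmem : w₁⁻¹ * w₂ ∈ H (K := K) vL := by
    have e : w₁⁻¹ * w₂ = ((w₁ * k₁)⁻¹ * (w₂ * k₂)) * (k₁ * k₂⁻¹) := by
      refine Units.ext ?_
      simp only [Units.val_mul, Units.val_inv_eq_inv_val]
      field_simp
    rw [e]
    exact Subgroup.mul_mem _ (Subgroup.mem_sup_left hu)
      (Subgroup.mem_sup_right (mul_mem ⟨_, rfl⟩ (inv_mem ⟨_, rfl⟩)))
  exact QuotientAddGroup.eq.2 hmem

theorem exists_monomial_value {κ : Type u} (y : κ → vL.valuationSubring)
    (hy : AlgebraicIndependent (IsLocalRing.ResidueField vK.valuationSubring)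
      (fun j => IsLocalRing.residue vL.valuationSubring (y j)))
    (f : MvPolynomial κ K) (hf : f ≠ 0) :
    ∃ c : K, c ≠ 0 ∧ vL (aeval (fun j => (y j : L)) f) = vL (algebraMap K L c) := by
  classical
  obtain ⟨m, hm, hmax⟩ := f.support.exists_max_image (fun m => vK (MvPolynomial.coeff m f))
    (Finset.nonempty_iff_ne_empty.2 fun h => hf (MvPolynomial.support_eq_empty.1 h))
  have hc : MvPolynomial.coeff m f ≠ 0 := mem_support_iff.1 hm
  refine ⟨MvPolynomial.coeff m f, hc, ?_⟩
  set g : MvPolynomial κ K := C (MvPolynomial.coeff m f)⁻¹ * f with hg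
  have hgO : (g.coeffs : Set K) ⊆ Set.range vK.valuationSubring.subtype := by
    intro a ha
    rw [Finset.mem_coe, mem_coeffs_iff] at ha
    obtain ⟨n, hn, rfl⟩ := ha
    refine ⟨⟨_, ?_⟩, rfl⟩
    rw [Valuation.mem_valuationSubring_iff]
    change vK (coeff n g) ≤ 1
    rw [hg, coeff_C_mul, map_mul, map_inv₀,
      inv_mul_le_one₀ (zero_lt_iff.2 ((Valuation.ne_zero_iff vK).2 hc))]
    refine hmax n (mem_support_iff.2 fun h0 => ?_)
    rw [mem_support_iff, hg, coeff_C_mul, h0, mul_zero] at hn
    exact hn rfl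
  obtain ⟨g₀, hg₀⟩ := mem_range_map_iff_coeffs_subset.2 hgO
  have hres : MvPolynomial.map (IsLocalRing.residue vK.valuationSubring) g₀ ≠ 0 := by
    intro h0
    have h1 := congrArg (coeff m) h0
    rw [coeff_map, coeff_zero] at h1
    have h2 : MvPolynomial.coeff m g₀ = 1 := Subtype.ext (by
      have h3 := congrArg (coeff m) hg₀
      rw [coeff_map, hg, coeff_C_mul, inv_mul_cancel₀ hc] at h3
      exact h3)
    rw [h2, map_one] at h1
    exact one_ne_zero h1
  set E : vL.valuationSubring := eval₂ (algebraMap vK.valuationSubring vL.valuationSubring) y g₀ with hE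
  have hu : IsUnit E := by
    rw [← IsLocalRing.residue_ne_zero_iff_isUnit, hE, eval₂_comp_left]
    intro h0
    apply hres
    apply hy.eq_zero_of_aeval_eq_zero
    rw [aeval_def, eval₂_map]
    exact h0
  have hEL : (E : L) = aeval (fun j => (y j : L)) g := by
    rw [hE, ← hg₀, aeval_def, eval₂_map]
    exact eval₂_comp_left vL.valuationSubring.subtype _ _ g₀
  have h1 : vL (E : L) = 1 :=
    (vL.isEquiv_valuation_valuationSubring).eq_one_iff_eq_one.2
      ((vL.valuationSubring.valuation_eq_one_iff E).1 hu)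
  have ef : f = C (MvPolynomial.coeff m f) * g := by
    rw [hg, ← mul_assoc, ← map_mul, mul_inv_cancel₀ hc, map_one, one_mul]
  conv_lhs => rw [ef, map_mul, aeval_C, ← hEL, map_mul, h1, mul_one]

theorem algebraicIndependent_sum {ι κ : Type u} (x : ι → Lˣ)
    (hx : LinearIndependent ℤ (fun i => cls (K := K) vL (x i)))
    (y : κ → vL.valuationSubring)
    (hy : AlgebraicIndependent (IsLocalRing.ResidueField vK.valuationSubring)
      (fun j => IsLocalRing.residue vL.valuationSubring (y j))) :
    AlgebraicIndependent K (Sum.elim (fun i => (x i : L)) (fun j => (y j : L))) := by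
  classical
  rw [algebraicIndependent_iff]
  intro P hP
  by_contra hne
  set Qp := sumAlgEquiv K ι κ P with hQ
  have hQne : Qp ≠ 0 := by
    intro h0
    exact hne ((sumAlgEquiv K ι κ).injective (h0.trans (map_zero _).symm))
  have heval : aeval (Sum.elim (fun i => (x i : L)) (fun j => (y j : L))) P =
      eval₂ (aeval (fun j => (y j : L))).toRingHom (fun i => (x i : L)) Qp := by
    have e : (aeval (Sum.elim (fun i => (x i : L)) (fun j => (y j : L))) :
        MvPolynomial (ι ⊕ κ) K →ₐ[K] L).toRingHom =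
      (eval₂Hom (aeval (fun j => (y j : L))).toRingHom (fun i => (x i : L))).comp
        (sumAlgEquiv K ι κ).toAlgHom.toRingHom := by
      refine MvPolynomial.ringHom_ext (fun r => ?_) (fun s => ?_)
      · simp [sumAlgEquiv_C_inl]
      · cases s with
        | inl i => simp [sumAlgEquiv_X_inl]
        | inr j => simp [sumAlgEquiv_X_inr]
    exact congrArg (fun φ : MvPolynomial (ι ⊕ κ) K →+* L => φ P) e
  rw [heval, eval₂_eq] at hP
  let w : (ι →₀ ℕ) → Lˣ := fun a => ∏ i ∈ a.support, x i ^ a i
  have hw : ∀ a : ι →₀ ℕ, ∏ i ∈ a.support, (x i : L) ^ a i = (w a : L) := fun a => by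
    simp only [w, Units.coe_prod, Units.val_pow_eq_pow_val]
  simp only [hw] at hP
  have hc : ∀ a ∈ Qp.support, ∃ c : K, c ≠ 0 ∧
      vL (aeval (fun j => (y j : L)) (MvPolynomial.coeff a Qp) * (w a : L)) = vL ((w a : L) * algebraMap K L c) := by
    intro a ha
    obtain ⟨c, hc, he⟩ := exists_monomial_value vK vL y hy (MvPolynomial.coeff a Qp) (mem_support_iff.1 ha)
    exact ⟨c, hc, by rw [map_mul, map_mul, he, mul_comm]⟩
  choose c hc0 hce using hc
  set t : (ι →₀ ℕ) → L := fun a => aeval (fun j => (y j : L)) (MvPolynomial.coeff a Qp) * (w a : L) with ht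
  have hinj : ∀ a ∈ Qp.support, ∀ b ∈ Qp.support, vL (t a) = vL (t b) → a = b := by
    intro a ha b hb hab
    rw [ht] at hab
    simp only [hce a ha, hce b hb] at hab
    have h1 := cls_eq_of_val_eq (K := K) vL _ _ _ _ (hc0 a ha) (hc0 b hb) hab
    have hsum : ∀ a : ι →₀ ℕ, cls (K := K) vL (w a) =
        Finsupp.linearCombination ℤ (fun i => cls (K := K) vL (x i))
          (a.mapRange (fun n : ℕ => (n : ℤ)) Nat.cast_zero) := by
      intro a
      rw [Finsupp.linearCombination_apply, Finsupp.sum_mapRange_index (fun i => zero_smul ℤ (cls (K := K) vL (x i))),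
        Finsupp.sum]
      simp only [w]
      generalize a.support = u
      induction u using Finset.induction_on with
      | empty =>
        rw [Finset.prod_empty, Finset.sum_empty]
        exact (QuotientAddGroup.eq_zero_iff _).2 (zero_mem _)
      | insert i u hi ih =>
        rw [Finset.prod_insert hi, Finset.sum_insert hi, ← ih, natCast_zsmul]
        rfl
    rw [hsum, hsum] at h1
    exact Finsupp.mapRange_injective _ Nat.cast_zero Nat.cast_injective (hx h1)
  obtain ⟨a, ha, hmax⟩ := Qp.support.exists_max_image (fun a => vL (t a))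
    (Finset.nonempty_iff_ne_empty.2 fun h => hQne (MvPolynomial.support_eq_empty.1 h))
  have h2 : vL (∑ b ∈ Qp.support, t b) = vL (t a) := by
    refine vL.map_sum_eq_of_lt ha fun b hb => ?_
    rw [Finset.mem_sdiff, Finset.mem_singleton] at hb
    exact lt_of_le_of_ne (hmax b hb.1) fun h => hb.2 (hinj b hb.1 a ha h)
  have h3 : (∑ b ∈ Qp.support, t b) = 0 := hP
  rw [h3, map_zero] at h2
  have h4 : vL (t a) ≠ 0 := by
    rw [ht]
    simp only [hce a ha]
    exact (Valuation.ne_zero_iff vL).2 (mul_ne_zero (w a).ne_zero ((_root_.map_ne_zero _).2 (hc0 a ha)))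
  exact h4 h2.symm

theorem abhyankar : Module.rank ℤ (Q (K := K) vL) +
      Algebra.trdeg (IsLocalRing.ResidueField vK.valuationSubring)
        (IsLocalRing.ResidueField vL.valuationSubring) ≤ Algebra.trdeg K L := by
  obtain ⟨s, hs, hli⟩ := exists_set_linearIndependent ℤ (Q (K := K) vL)
  haveI : FaithfulSMul (IsLocalRing.ResidueField vK.valuationSubring)
      (IsLocalRing.ResidueField vL.valuationSubring) :=
    (faithfulSMul_iff_algebraMap_injective _ _).2 (RingHom.injective _)
  obtain ⟨t, ht⟩ := exists_isTranscendenceBasis (IsLocalRing.ResidueField vK.valuationSubring)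
    (IsLocalRing.ResidueField vL.valuationSubring)
  rw [← hs, ← ht.cardinalMk_eq_trdeg]
  choose x hx using fun a : s => QuotientAddGroup.mk_surjective (a : Q (K := K) vL)
  choose y hy using fun b : t => IsLocalRing.residue_surjective (R := vL.valuationSubring) (b : IsLocalRing.ResidueField vL.valuationSubring)
  have h := algebraicIndependent_sum (K := K) vK vL (fun a => Additive.toMul (x a))
    (by simpa only [cls, ofMul_toMul, hx] using hli) y (by simpa only [hy] using ht.1)
  simpa using h.cardinalMk_le_trdeg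

end Groth.Calg7.Abhyankar
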