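/-
The Cartier operator on polynomial rings over a perfect ring of characteristic `p`, in coordinates.
-/
import Mathlib.Algebra.MvPolynomial.PDeriv
import Mathlib.Algebra.MvPolynomial.CommRing
import Mathlib.RingTheory.MvPolynomial.Basic
import Mathlib.RingTheory.Derivation.Basic
import Mathlib.Algebra.CharP.Lemmas
import Mathlib.FieldTheory.Perfect
import Mathlib.FieldTheory.Finite.Basic

noncomputable section

open MvPolynomial

universe u v

namespace Groth.Calg7.Cartier

/-- the binomial identity, universally -/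
theorem exists_add_identity (p : ℕ) [hp : Fact p.Prime] {R : Type u} [CommRing R] (a b : R) :
    ∃ w : R, ∀ {M : Type v} [AddCommGroup M] [Module R M] (D : Derivation ℤ R M),
      D w = (a + b) ^ (p - 1) • D (a + b) - a ^ (p - 1) • D a - b ^ (p - 1) • D b := by
  obtain ⟨r, hr⟩ := exists_add_pow_prime_eq hp.out (X 0 : MvPolynomial (Fin 2) ℤ) (X 1)
  set P : MvPolynomial (Fin 2) ℤ := X 0 * X 1 * r with hP
  refine ⟨aeval ![a, b] P, fun {M} _ _ D => ?_⟩
  have hmain : ∀ Q : MvPolynomial (Fin 2) ℤ,
      D (aeval ![a, b] Q) = aeval ![a, b] (pderiv 0 Q) • D a + aeval ![a, b] (pderiv 1 Q) • D b := by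
    intro Q
    induction Q using MvPolynomial.induction_on with
    | C z => simp
    | add f g hf hg => simp only [map_add, hf, hg, add_smul]; abel
    | mul_X f i hf =>
      rw [map_mul, aeval_X, Derivation.leibniz, hf]
      fin_cases i <;>
        simp [pderiv_mul, pderiv_X, smul_add, smul_smul, add_smul, mul_comm] <;> abel
  have hp0 : ((p : ℕ) : MvPolynomial (Fin 2) ℤ) ≠ 0 := Nat.cast_ne_zero.2 hp.out.ne_zero
  have hd : ∀ i : Fin 2, pderiv i P =
      (X 0 + X 1) ^ (p - 1) * pderiv i (X 0 + X 1) - X 0 ^ (p - 1) * pderiv i (X 0)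
        - X 1 ^ (p - 1) * pderiv i (X 1) := by
    intro i
    refine mul_left_cancel₀ hp0 ?_
    have h := congrArg (pderiv i) hr
    simp only [map_add, Derivation.leibniz_pow, smul_eq_mul, nsmul_eq_mul] at h
    rw [show (p : MvPolynomial (Fin 2) ℤ) * X 0 * X 1 * r = (p : MvPolynomial (Fin 2) ℤ) * P by rw [hP]; ring,
      Derivation.leibniz, Derivation.map_natCast, smul_zero, add_zero, smul_eq_mul] at h
    rw [map_add]
    linear_combination -h
  rw [hmain, hd 0, hd 1]
  simp [pderiv_X, map_add, sub_smul, smul_smul]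
  abel

variable (p : ℕ) [hp : Fact p.Prime] {A : Type u} [CommRing A] [CharP A p] [PerfectRing A p]
  {n : ℕ}

/-- the inverse Frobenius on coefficients -/
def root : A ≃+* A := (frobeniusEquiv A p).symm

theorem root_pow (c : A) : root p c ^ p = c := frobeniusEquiv_symm_pow_p A p c

theorem root_of_pow (c : A) : root p (c ^ p) = c := frobeniusEquiv_symm_pow A p c

/-- the condition on exponents selected by the Cartier operator -/
def Sel (i : Fin n) (m : Fin n →₀ ℕ) : Prop := ∀ ν, p ∣ (m + Finsupp.single i 1 : Fin n →₀ ℕ) ν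

/-- the exponent after applying the Cartier operator -/
def down (i : Fin n) (m : Fin n →₀ ℕ) : Fin n →₀ ℕ :=
  (m + Finsupp.single i 1).mapRange (· / p) (Nat.zero_div p) - Finsupp.single i 1

open Classical in
/-- value on a monomial -/
def term (i : Fin n) (m : Fin n →₀ ℕ) : A →+ MvPolynomial (Fin n) A :=
  if Sel p i m then (monomial (down p i m) : A →ₗ[A] _).toAddMonoidHom.comp (root p (A := A)).toAddEquiv.toAddMonoidHom
  else 0

/-- the `i`-th coordinate of the Cartier operator -/
def T (i : Fin n) : MvPolynomial (Fin n) A →+ MvPolynomial (Fin n) A :=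
  (Finsupp.liftAddHom (term p i)).comp AddMonoidAlgebra.coeffAddEquiv.toAddMonoidHom

open Classical in
theorem T_monomial (i : Fin n) (m : Fin n →₀ ℕ) (c : A) :
    T p i (monomial m c) = if Sel p i m then monomial (down p i m) (root p c) else 0 := by
  change Finsupp.liftAddHom (term p i) (AddMonoidAlgebra.coeff (monomial m c)) = _
  rw [show AddMonoidAlgebra.coeff (monomial m c) = Finsupp.single m c from rfl,
    Finsupp.liftAddHom_apply_single, term]
  split_ifs <;> rfl

theorem one_le_of_sel {i : Fin n} {m : Fin n →₀ ℕ} (h : Sel p i m) :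
    1 ≤ ((m + Finsupp.single i 1 : Fin n →₀ ℕ) i) / p := by
  obtain ⟨k, hk⟩ := h i
  rw [hk, Nat.mul_div_cancel_left _ hp.out.pos]
  rcases k with _ | k
  · simp at hk
  · omega

theorem down_spec {i : Fin n} {m : Fin n →₀ ℕ} (h : Sel p i m) :
    m + Finsupp.single i 1 = p • (down p i m + Finsupp.single i 1) := by
  ext ν
  have h1 := one_le_of_sel p h
  obtain ⟨k, hk⟩ := h ν
  simp only [Finsupp.add_apply, Finsupp.smul_apply, down, Finsupp.tsub_apply, Finsupp.mapRange_apply,
    smul_eq_mul] at *
  rw [hk, Nat.mul_div_cancel_left _ hp.out.pos]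
  rcases eq_or_ne ν i with rfl | hne
  · rw [hk, Nat.mul_div_cancel_left _ hp.out.pos] at h1
    rw [Finsupp.single_eq_same, Nat.sub_add_cancel h1]
  · rw [Finsupp.single_eq_of_ne hne, Nat.sub_zero, add_zero]

theorem down_eq {i : Fin n} {m k : Fin n →₀ ℕ} (hk : m + Finsupp.single i 1 = p • (k + Finsupp.single i 1)) :
    Sel p i m ∧ down p i m = k := by
  have h : Sel p i m := fun ν => ⟨(k + Finsupp.single i 1 : Fin n →₀ ℕ) ν, by rw [hk]; rfl⟩
  refine ⟨h, ?_⟩
  have := (down_spec p h).symm.trans hk
  ext ν
  have h2 := DFunLike.congr_fun this ν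
  simp only [Finsupp.smul_apply, smul_eq_mul, Finsupp.add_apply] at h2
  have := Nat.eq_of_mul_eq_mul_left hp.out.pos h2
  omega

theorem T_pow_mul (i : Fin n) (h q : MvPolynomial (Fin n) A) : T p i (h ^ p * q) = h * T p i q := by
  classical
  haveI : CharP (MvPolynomial (Fin n) A) p := inferInstance
  induction q using MvPolynomial.induction_on' with
  | add a b ha hb => rw [mul_add, map_add, ha, hb, map_add, mul_add]
  | monomial m c =>
    induction h using MvPolynomial.induction_on' with
    | add a b ha hb => rw [add_pow_char, add_mul, map_add, ha, hb, add_mul]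
    | monomial k d =>
      rw [monomial_pow, monomial_mul, T_monomial, T_monomial]
      by_cases hs : Sel p i m
      · have hk : p • k + m + Finsupp.single i 1 = p • ((k + down p i m) + Finsupp.single i 1) := by
          rw [add_assoc, down_spec p hs, ← smul_add, ← add_assoc]
        obtain ⟨h1, h2⟩ := down_eq p hk
        rw [if_pos h1, if_pos hs, h2, monomial_mul, map_mul, root_of_pow]
      · rw [if_neg hs, mul_zero, if_neg]
        intro h'
        refine hs fun ν => ?_
        have := h' ν
        simp only [Finsupp.add_apply, Finsupp.smul_apply, smul_eq_mul, add_assoc] at this ⊢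
        exact (Nat.dvd_add_right (dvd_mul_right p _)).1 this

theorem T_pderiv (i : Fin n) (g : MvPolynomial (Fin n) A) : T p i (pderiv i g) = 0 := by
  classical
  induction g using MvPolynomial.induction_on' with
  | add a b ha hb => rw [map_add, map_add, ha, hb, add_zero]
  | monomial m c =>
    rw [pderiv_monomial]
    rcases Nat.eq_zero_or_pos (m i) with h0 | h0
    · rw [h0, Nat.cast_zero, mul_zero, monomial_zero, map_zero]
    · rw [T_monomial]
      split_ifs with hs
      · have hm : m - Finsupp.single i 1 + Finsupp.single i 1 = m :=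
          tsub_add_cancel_of_le (Finsupp.single_le_iff.2 h0)
        have := hs i
        rw [hm] at this
        rw [(CharP.cast_eq_zero_iff A p (m i)).2 this, mul_zero, map_zero, monomial_zero]
      · rfl

theorem T_pow_mul_pderiv (i : Fin n) (h : MvPolynomial (Fin n) A) :
    T p i (h ^ (p - 1) * pderiv i h) = pderiv i h := by
  classical
  induction h using MvPolynomial.induction_on' with
  | add a b ha hb =>
    obtain ⟨w, hw⟩ := exists_add_identity.{u, u} p a b
    have h1 := hw ((pderiv i).restrictScalars ℤ)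
    simp only [Derivation.restrictScalars_apply, smul_eq_mul] at h1
    have h2 := congrArg (T p i) h1
    rw [T_pderiv, map_sub, map_sub, ha, hb, sub_sub, eq_comm, sub_eq_zero, ← map_add] at h2
    rw [h2]
  | monomial m c =>
    rw [pderiv_monomial, monomial_pow, monomial_mul]
    rcases Nat.eq_zero_or_pos (m i) with h0 | h0
    · simp [h0]
    · have hle : Finsupp.single i 1 ≤ m := Finsupp.single_le_iff.2 h0
      have hm : m - Finsupp.single i 1 + Finsupp.single i 1 = m := tsub_add_cancel_of_le hle
      have hp1 : p - 1 + 1 = p := Nat.sub_add_cancel hp.out.one_le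
      have hk : (p - 1) • m + (m - Finsupp.single i 1) + Finsupp.single i 1 =
          p • ((m - Finsupp.single i 1) + Finsupp.single i 1) := by
        rw [add_assoc, hm, ← succ_nsmul, hp1]
      obtain ⟨hs, hd⟩ := down_eq p hk
      rw [T_monomial, if_pos hs, hd, ← mul_assoc, ← pow_succ, hp1, map_mul, root_of_pow, map_natCast]

/-- Euler eigen-operator on the `i`-th coordinate -/
def S (i ν : Fin n) : AddMonoid.End (MvPolynomial (Fin n) A) :=
  HAdd.hAdd (α := AddMonoid.End (MvPolynomial (Fin n) A))
    ((AddMonoidHom.mulLeft (X ν)).comp (pderiv ν).toLinearMap.toAddMonoidHom) (if i = ν then 1 else 0)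

theorem S_monomial (i ν : Fin n) (m : Fin n →₀ ℕ) (c : A) :
    S (A := A) i ν (monomial m c) = monomial m ((((m + Finsupp.single i 1 : Fin n →₀ ℕ) ν : ℕ) : A) * c) := by
  classical
  change X ν * pderiv ν (monomial m c) +
    (if i = ν then (1 : AddMonoid.End (MvPolynomial (Fin n) A)) else 0) (monomial m c) = _
  rw [X_mul_pderiv_monomial, Finsupp.add_apply, Nat.cast_add, add_mul, map_add, smul_monomial, nsmul_eq_mul]
  congr 1
  rcases eq_or_ne i ν with rfl | hne
  · rw [if_pos rfl, Finsupp.single_eq_same, Nat.cast_one, one_mul]; rfl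
  · rw [if_neg hne, Finsupp.single_eq_of_ne hne.symm, Nat.cast_zero, zero_mul, map_zero]; rfl

/-- projection to weight zero -/
def Pr (l : List (Fin n)) (i : Fin n) : AddMonoid.End (MvPolynomial (Fin n) A) :=
  (l.map fun ν => 1 - S i ν ^ (p - 1)).prod

theorem Pr_cons (ν : Fin n) (l : List (Fin n)) (i : Fin n) (q : MvPolynomial (Fin n) A) :
    Pr p (ν :: l) i q = Pr p l i q - (S i ν ^ (p - 1)) (Pr p l i q) := by
  simp only [Pr, List.map_cons, List.prod_cons]
  rfl

theorem Pr_monomial (l : List (Fin n)) (i : Fin n) (m : Fin n →₀ ℕ) (c : A) :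
    Pr p l i (monomial m c) =
      monomial m ((l.map fun ν => 1 - (((m + Finsupp.single i 1 : Fin n →₀ ℕ) ν : ℕ) : A) ^ (p - 1)).prod * c) := by
  induction l with
  | nil => simp [Pr]
  | cons ν l ih =>
    have h : ∀ (k : ℕ) (e : A), (S (A := A) i ν ^ k) (monomial m e) =
        monomial m ((((m + Finsupp.single i 1 : Fin n →₀ ℕ) ν : ℕ) : A) ^ k * e) := by
      intro k
      induction k with
      | zero => intro e; simp
      | succ k ihk =>
        intro e
        change (S i ν ^ (k + 1)) _ = _
        rw [pow_succ']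
        change S i ν ((S i ν ^ k) (monomial m e)) = _
        rw [ihk, S_monomial, pow_succ', mul_assoc]
    rw [Pr_cons, ih, h, ← map_sub, List.map_cons, List.prod_cons]
    congr 1
    ring

theorem Pr_finRange (i : Fin n) (q : MvPolynomial (Fin n) A) :
    Pr p (List.finRange n) i q = T p i q ^ p * X i ^ (p - 1) := by
  classical
  induction q using MvPolynomial.induction_on' with
  | add a b ha hb => rw [map_add, map_add, add_pow_char, add_mul, ha, hb]
  | monomial m c =>
    rw [Pr_monomial, T_monomial]
    have hp1 : p - 1 + 1 = p := Nat.sub_add_cancel hp.out.one_le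
    by_cases hs : Sel p i m
    · rw [if_pos hs, monomial_pow, root_pow, X_pow_eq_monomial, monomial_mul, mul_one,
        List.prod_eq_one (fun z hz => by
          obtain ⟨ν, -, rfl⟩ := List.mem_map.1 hz
          rw [(CharP.cast_eq_zero_iff A p _).2 (hs ν), zero_pow (by have := hp.out.two_le; omega), sub_zero]),
        one_mul]
      congr 2
      have h := down_spec p hs
      rw [smul_add, show p • Finsupp.single i 1 = Finsupp.single i (p - 1) + Finsupp.single i 1 by
        rw [Finsupp.smul_single, smul_eq_mul, mul_one, ← Finsupp.single_add, hp1], ← add_assoc] at h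
      exact add_right_cancel h
    · rw [if_neg hs, zero_pow hp.out.ne_zero, zero_mul]
      simp only [Sel, not_forall] at hs
      obtain ⟨ν, hν⟩ := hs
      rw [List.prod_eq_zero (List.mem_map.2 ⟨ν, List.mem_finRange ν, by
        rw [← map_natCast (ZMod.castHom (dvd_refl p) A), ← map_pow,
          ZMod.pow_card_sub_one_eq_one (fun h => hν ((ZMod.natCast_eq_zero_iff _ _).1 h)), map_one, sub_self]⟩),
        zero_mul, monomial_zero]

/-- exact vectors modulo `J` -/
def IsEx (J : Ideal (MvPolynomial (Fin n) A)) (w : Fin n → MvPolynomial (Fin n) A) : Prop :=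
  ∃ g, ∀ i, w i - pderiv i g ∈ J

theorem sub_cartier_isEx (J : Ideal (MvPolynomial (Fin n) A)) (hJ : ∀ i, ∀ f ∈ J, pderiv i f ∈ J)
    (w : Fin n → MvPolynomial (Fin n) A) (hw : ∀ i j, pderiv j (w i) - pderiv i (w j) ∈ J) :
    IsEx J fun i => w i - T p i (w i) ^ p * X i ^ (p - 1) := by
  classical
  have hS : ∀ (i ν : Fin n) (q : MvPolynomial (Fin n) A),
      S i ν q = X ν * pderiv ν q + if i = ν then q else 0 := fun i ν q => by
    change X ν * pderiv ν q + (if i = ν then (1 : AddMonoid.End (MvPolynomial (Fin n) A)) else 0) q = _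
    split_ifs <;> rfl
  have hSgrad : ∀ (ν i : Fin n) (g : MvPolynomial (Fin n) A),
      S i ν (pderiv i g) = pderiv i (X ν * pderiv ν g) := fun ν i g => by
    have hc : pderiv ν (pderiv i g) = pderiv i (pderiv ν g) := by
      induction g using MvPolynomial.induction_on with
      | C a => simp
      | add a b ha hb => simp only [map_add, ha, hb]
      | mul_X f j hf =>
        simp only [pderiv_mul, pderiv_X, map_add, hf, Pi.single_apply]
        split_ifs <;> simp <;> ring
    rw [hS, pderiv_mul, pderiv_X, hc, Pi.single_apply]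
    rcases eq_or_ne i ν with rfl | hne
    · simp [add_comm]
    · simp [hne.symm, hne]
  have hEx : ∀ ν (v : Fin n → MvPolynomial (Fin n) A), IsEx J v → IsEx J fun i => S i ν (v i) := by
    rintro ν v ⟨g, hg⟩
    refine ⟨X ν * pderiv ν g, fun i => ?_⟩
    rw [← hSgrad, ← map_sub, hS]
    refine add_mem (J.mul_mem_left _ (hJ _ _ (hg i))) ?_
    split_ifs
    · exact hg i
    · exact zero_mem _
  have hclosed : ∀ ν, IsEx J fun i => S i ν (w i) := fun ν => by
    refine ⟨X ν * w ν, fun i => ?_⟩
    dsimp only
    rw [hS, pderiv_mul, pderiv_X, Pi.single_apply]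
    convert J.mul_mem_left (X ν) (hw i ν) using 1
    rcases eq_or_ne i ν with rfl | hne
    · simp; ring
    · simp [hne.symm, hne]; ring
  have hadd : ∀ v v', IsEx J v → IsEx J v' → IsEx J fun i => v i + v' i := by
    rintro v v' ⟨g, hg⟩ ⟨g', hg'⟩
    exact ⟨g + g', fun i => by
      rw [map_add, add_sub_add_comm]; exact add_mem (hg i) (hg' i)⟩
  have hsub : ∀ v v', IsEx J v → IsEx J v' → IsEx J fun i => v i - v' i := by
    rintro v v' ⟨g, hg⟩ ⟨g', hg'⟩
    exact ⟨g - g', fun i => by
      rw [map_sub, sub_sub_sub_comm]; exact sub_mem (hg i) (hg' i)⟩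
  suffices h : ∀ l : List (Fin n), IsEx J fun i => w i - Pr p l i (w i) by
    simpa only [Pr_finRange] using h (List.finRange n)
  intro l
  induction l with
  | nil => exact ⟨0, fun i => by simp [Pr]⟩
  | cons ν l ih =>
    have h1 : IsEx J fun i => S i ν (Pr p l i (w i)) := by
      have := hsub _ _ (hclosed ν) (hEx ν _ ih)
      simpa [map_sub] using this
    have h2 : ∀ k : ℕ, IsEx J fun i => (S i ν ^ (k + 1)) (Pr p l i (w i)) := by
      intro k
      induction k with
      | zero => simpa using h1
      | succ k ihk =>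
        have := hEx ν _ ihk
        convert this using 2 with i
        rw [pow_succ' (S i ν) (k + 1)]
        rfl
    have h3 := hadd _ _ ih (h2 (p - 2))
    convert h3 using 2 with i
    rw [Pr_cons, show p - 2 + 1 = p - 1 by have := hp.out.two_le; omega]
    abel

theorem pderiv_mem_map_frobenius (I : Ideal (MvPolynomial (Fin n) A)) (i : Fin n) :
    ∀ f ∈ Ideal.span ((fun x => x ^ p) '' (I : Set (MvPolynomial (Fin n) A))),
      pderiv i f ∈ Ideal.span ((fun x => x ^ p) '' (I : Set (MvPolynomial (Fin n) A))) := by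
  intro f hf
  induction hf using Submodule.span_induction with
  | mem x hx =>
    obtain ⟨y, -, rfl⟩ := hx
    dsimp only
    rw [Derivation.leibniz_pow, nsmul_eq_mul, CharP.cast_eq_zero, zero_mul]
    exact zero_mem _
  | zero => simp
  | add a b _ _ ha hb => rw [map_add]; exact add_mem ha hb
  | smul a x hx ha =>
    rw [smul_eq_mul, pderiv_mul]
    exact add_mem (Ideal.mul_mem_left _ _ hx) (Ideal.mul_mem_left _ _ ha)

theorem T_mem_of_mem (I : Ideal (MvPolynomial (Fin n) A)) (i : Fin n) :
    ∀ f ∈ Ideal.span ((fun x => x ^ p) '' (I : Set (MvPolynomial (Fin n) A))), T p i f ∈ I := by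
  intro f hf
  suffices h : ∀ r, T p i (r * f) ∈ I by simpa using h 1
  induction hf using Submodule.span_induction with
  | mem x hx =>
    obtain ⟨y, hy, rfl⟩ := hx
    intro r
    rw [mul_comm, T_pow_mul]
    exact I.mul_mem_right _ hy
  | zero => simp
  | add a b _ _ ha hb => intro r; rw [mul_add, map_add]; exact add_mem (ha r) (hb r)
  | smul a x hx ha => intro r; rw [smul_eq_mul, ← mul_assoc]; exact ha _

end Groth.Calg7.Cartier
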