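/-
The Cartier operator in degree one for smooth algebras over perfect rings.
-/
import Groth.Agent.Calg7.CartierPoly
import Groth.Agent.DR.Basic
import Mathlib.RingTheory.Kaehler.Basic
import Mathlib.RingTheory.Smooth.Basic
import Mathlib.RingTheory.Finiteness.Ideal
import Mathlib.LinearAlgebra.ExteriorPower.Basic
import Mathlib.LinearAlgebra.Multilinear.Basic

noncomputable section

open MvPolynomial exteriorPower

universe u

namespace Groth.Calg7.Cartier

variable (p : ℕ) [hp : Fact p.Prime] {A B : Type u} [CommRing A] [CharP A p] [CommRing B] [Algebra A B]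

omit hp [CharP A p] in
theorem natCast_zero (A : Type u) [CommRing A] [CharP A p] [Algebra A B] : (p : B) = 0 := by
  rw [← map_natCast (algebraMap A B) p, CharP.cast_eq_zero, map_zero]

/-- Frobenius of an algebra of characteristic `p` -/
def frobB (A : Type u) [CommRing A] [CharP A p] (B : Type u) [CommRing B] [Algebra A B] : B →+* B where
  toFun x := x ^ p
  map_one' := one_pow p
  map_zero' := zero_pow hp.out.ne_zero
  map_mul' x y := mul_pow x y p
  map_add' x y := by
    obtain ⟨r, hr⟩ := exists_add_pow_prime_eq hp.out x y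
    rw [hr, natCast_zero p A, zero_mul, zero_mul, zero_mul, add_zero]

/-- forms with Frobenius twisted scalars -/
def Fr (p : ℕ) (A B : Type u) [CommRing A] [CommRing B] [Algebra A B] : Type u := Ω[B⁄A]

instance : AddCommGroup (Fr p A B) := inferInstanceAs (AddCommGroup Ω[B⁄A])

/-- identity -/
def toFr : Ω[B⁄A] ≃+ Fr p A B := AddEquiv.refl _

instance instModB : Module B (Fr p A B) := Module.compHom Ω[B⁄A] (frobB p A B)

instance instModA : Module A (Fr p A B) := Module.compHom (Fr p A B) (algebraMap A B)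

instance : IsScalarTower A B (Fr p A B) :=
  ⟨fun a b x => by
    change (a • b) • x = algebraMap A B a • (b • x)
    rw [Algebra.smul_def, mul_smul]⟩

theorem smul_toFr (b : B) (ω : Ω[B⁄A]) : b • toFr p ω = toFr p (b ^ p • ω) := rfl

/-- exact forms -/
def exactFr : Submodule B (Fr p A B) where
  carrier := Set.range fun g : B => toFr p (KaehlerDifferential.D A B g)
  zero_mem' := ⟨0, by dsimp only; rw [map_zero, map_zero]⟩
  add_mem' := by rintro _ _ ⟨a, rfl⟩ ⟨b, rfl⟩; exact ⟨a + b, by simp only [map_add]⟩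
  smul_mem' := by
    rintro b _ ⟨g, rfl⟩
    refine ⟨b ^ p * g, ?_⟩
    dsimp only
    rw [smul_toFr, Derivation.leibniz, Derivation.leibniz_pow, ← Nat.cast_smul_eq_nsmul B p,
      natCast_zero p A, zero_smul, smul_zero, add_zero]

/-- `g ↦ g^(p-1) dg` modulo exact forms -/
def invCartierD : Derivation A B (Fr p A B ⧸ exactFr p (A := A) (B := B)) :=
  Derivation.mk'
    { toFun := fun g => Submodule.Quotient.mk (toFr p (g ^ (p - 1) • KaehlerDifferential.D A B g))
      map_add' := fun a b => by
        obtain ⟨w, hw⟩ := exists_add_identity.{u, u} p a b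
        have h := hw ((KaehlerDifferential.D A B).restrictScalars ℤ)
        simp only [Derivation.restrictScalars_apply] at h
        rw [← Submodule.Quotient.mk_add, Submodule.Quotient.eq, ← map_add, ← map_sub]
        exact ⟨w, by dsimp only; rw [h, sub_sub]⟩
      map_smul' := fun a g => by
        rw [RingHom.id_apply, ← Submodule.Quotient.mk_smul]
        refine congrArg Submodule.Quotient.mk ?_
        change _ = algebraMap A B a • (toFr p (A := A) (B := B)) _
        rw [smul_toFr]
        refine congrArg (toFr p) ?_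
        rw [Derivation.map_smul, ← algebraMap_smul B a (KaehlerDifferential.D A B g), Algebra.smul_def,
          smul_smul, smul_smul]
        congr 1
        have hp1 : p - 1 + 1 = p := Nat.sub_add_cancel hp.out.one_le
        rw [show algebraMap A B a ^ p = algebraMap A B a ^ (p - 1) * algebraMap A B a by rw [← pow_succ, hp1]]
        ring }
    fun a b => by
      change Submodule.Quotient.mk _ = _
      simp only [LinearMap.coe_mk, AddHom.coe_mk, ← Submodule.Quotient.mk_smul, smul_toFr, ← Submodule.Quotient.mk_add,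
        ← map_add]
      refine congrArg (fun z => Submodule.Quotient.mk (toFr p z)) ?_
      have hp1 : p - 1 + 1 = p := Nat.sub_add_cancel hp.out.one_le
      rw [Derivation.leibniz, smul_add, smul_smul, smul_smul, smul_smul, smul_smul]
      rw [show a ^ p = a ^ (p - 1) * a by rw [← pow_succ, hp1], show b ^ p = b ^ (p - 1) * b by rw [← pow_succ, hp1]]
      congr 1 <;> congr 1 <;> ring

/-- inverse Cartier operator -/
def invCartier : Ω[B⁄A] →ₗ[B] Fr p A B ⧸ exactFr p (A := A) (B := B) :=
  (invCartierD p).liftKaehlerDifferential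

theorem invCartier_smul_D (c g : B) :
    invCartier p (c • KaehlerDifferential.D A B g) =
      Submodule.Quotient.mk (toFr p (c ^ p • g ^ (p - 1) • KaehlerDifferential.D A B g)) := by
  rw [map_smul, invCartier, Derivation.liftKaehlerDifferential_comp_D]
  rfl

section Lift

variable [PerfectRing A p] {n : ℕ}

theorem exists_operator [Algebra.FormallySmooth A B] (f : MvPolynomial (Fin n) A →ₐ[A] B)
    (hf : Function.Surjective f) (hfg : (RingHom.ker f.toRingHom).FG)
    (d : ∀ q : ℕ, ↥(⋀[B]^q (Ω[B⁄A])) →ₗ[A] ↥(⋀[B]^(q + 1) (Ω[B⁄A])))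
    (hd : DeRham.IsRule (KaehlerDifferential.D A B) d) :
    ∃ C : Ω[B⁄A] →+ Ω[B⁄A],
      (∀ (b : B) (ω : Ω[B⁄A]), C (b ^ p • ω) = b • C ω) ∧ (∀ g, C (KaehlerDifferential.D A B g) = 0) ∧
      (∀ g : B, C (g ^ (p - 1) • KaehlerDifferential.D A B g) = KaehlerDifferential.D A B g) ∧
      ∀ ω, d 1 ((oneEquiv B (Ω[B⁄A])).symm ω) = 0 → ∃ (g : B) (c x : Fin n → B),
        ω = KaehlerDifferential.D A B g + ∑ i, c i ^ p • x i ^ (p - 1) • KaehlerDifferential.D A B (x i) ∧
        C ω = ∑ i, c i • KaehlerDifferential.D A B (x i) := by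
  classical
  let I : Ideal (MvPolynomial (Fin n) A) := RingHom.ker f.toRingHom
  let J : Ideal (MvPolynomial (Fin n) A) := Ideal.span ((fun x => x ^ p) '' (I : Set _))
  have hJI : J ≤ I := Ideal.span_le.2 (by
    rintro _ ⟨y, hy, rfl⟩
    exact I.pow_mem_of_mem hy p hp.out.pos)
  have hJpd : ∀ i, ∀ z ∈ J, pderiv i z ∈ J := fun i => pderiv_mem_map_frobenius p I i
  have hJT : ∀ i, ∀ z ∈ J, T p i z ∈ I := fun i => T_mem_of_mem p I i
  obtain ⟨N, hN⟩ := Ideal.exists_pow_le_of_le_radical_of_fg (I := I) (J := J)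
    (fun y hy => ⟨p, Ideal.subset_span ⟨y, hy, rfl⟩⟩) hfg
  let q : MvPolynomial (Fin n) A →ₐ[A] MvPolynomial (Fin n) A ⧸ J := Ideal.Quotient.mkₐ A J
  have hq : Function.Surjective q := Ideal.Quotient.mkₐ_surjective A J
  have hq0 : ∀ z, q z = 0 ↔ z ∈ J := fun z => Ideal.Quotient.eq_zero_iff_mem
  let π : (MvPolynomial (Fin n) A ⧸ J) →ₐ[A] B := Ideal.Quotient.liftₐ J f fun z hz => hJI hz
  have hπq : ∀ z, π (q z) = f z := fun z => rfl
  have hπ : Function.Surjective π := fun b => ⟨q (hf b).choose, (hf b).choose_spec⟩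
  have hnil : IsNilpotent (RingHom.ker (π : (MvPolynomial (Fin n) A ⧸ J) →+* B)) := by
    refine ⟨N, le_bot_iff.1 ?_⟩
    have : RingHom.ker (π : (MvPolynomial (Fin n) A ⧸ J) →+* B) ≤ I.map (Ideal.Quotient.mk J) := by
      intro y hy
      obtain ⟨z, rfl⟩ := hq y
      exact Ideal.mem_map_of_mem _ (show z ∈ I from hy)
    refine (pow_le_pow_left' this N).trans ?_
    rw [← Ideal.map_pow]
    exact (Ideal.map_mono hN).trans (Ideal.map_quotient_self J).le
  let s : B →ₐ[A] MvPolynomial (Fin n) A ⧸ J :=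
    Algebra.FormallySmooth.liftOfSurjective (AlgHom.id A B) π hπ hnil
  have hs : ∀ b, π (s b) = b := Algebra.FormallySmooth.liftOfSurjective_apply (AlgHom.id A B) π hπ hnil
  letI : Algebra B (MvPolynomial (Fin n) A ⧸ J) := s.toRingHom.toAlgebra
  haveI : IsScalarTower A B (MvPolynomial (Fin n) A ⧸ J) :=
    IsScalarTower.of_algebraMap_eq fun a => (s.commutes a).symm
  let pd : Fin n → Derivation A (MvPolynomial (Fin n) A ⧸ J) (MvPolynomial (Fin n) A ⧸ J) := fun i =>
    Derivation.liftOfSurjective hq (d := pderiv i) fun z hz => (hq0 _).2 (hJpd i z ((hq0 z).1 hz))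
  have hpd : ∀ i z, pd i (q z) = q (pderiv i z) := fun i z => Derivation.liftOfSurjective_apply hq _ z
  have hcomm : ∀ i j y, pd i (pd j y) = pd j (pd i y) := by
    intro i j y
    obtain ⟨z, rfl⟩ := hq y
    rw [hpd, hpd, hpd, hpd]
    congr 1
    induction z using MvPolynomial.induction_on with
    | C a => simp
    | add a b ha hb => simp only [map_add, ha, hb]
    | mul_X g k hg =>
      simp only [pderiv_mul, pderiv_X, map_add, hg, Pi.single_apply]
      split_ifs <;> simp <;> ring
  let ζ : Fin n → Ω[B⁄A] →ₗ[B] (MvPolynomial (Fin n) A ⧸ J) := fun i =>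
    ((pd i).compAlgebraMap B).liftKaehlerDifferential
  have hζ : ∀ i b, ζ i (KaehlerDifferential.D A B b) = pd i (s b) := fun i b =>
    Derivation.liftKaehlerDifferential_comp_D _ _
  have hζs : ∀ i (b : B) ω, ζ i (b • ω) = s b * ζ i ω := fun i b ω => by
    rw [map_smul, Algebra.smul_def]; rfl
  let x : Fin n → B := fun i => f (X i)
  have hdf : ∀ z, KaehlerDifferential.D A B (f z) = ∑ i, f (pderiv i z) • KaehlerDifferential.D A B (x i) := by
    intro z
    induction z using MvPolynomial.induction_on with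
    | C a =>
      rw [show (C a : MvPolynomial (Fin n) A) = algebraMap A _ a from rfl, f.commutes, Derivation.map_algebraMap]
      simp
    | add a b ha hb => simp only [map_add, ha, hb, add_smul, Finset.sum_add_distrib]
    | mul_X g k hg =>
      rw [map_mul, Derivation.leibniz, hg]
      simp only [pderiv_mul, pderiv_X, map_add, map_mul, add_smul, Finset.sum_add_distrib, Finset.smul_sum,
        smul_smul]
      rw [add_comm]
      congr 1
      · exact Finset.sum_congr rfl fun i _ => by rw [mul_comm]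
      · rw [Finset.sum_eq_single k]
        · simp [x]
        · intro j _ hj; simp [Pi.single_eq_of_ne hj.symm]
        · simp
  have hrecon : ∀ ω : Ω[B⁄A], ∑ i, π (ζ i ω) • KaehlerDifferential.D A B (x i) = ω := by
    intro ω
    have hω : ω ∈ Submodule.span B (Set.range (KaehlerDifferential.D A B)) := by
      rw [KaehlerDifferential.span_range_derivation]; trivial
    induction hω using Submodule.span_induction with
    | mem y hy =>
      obtain ⟨b, rfl⟩ := hy
      obtain ⟨z, hz⟩ := hq (s b)
      simp only [hζ, ← hz, hpd, hπq]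
      rw [← hdf, ← hπq, hz, hs]
    | zero => simp
    | add a b _ _ ha hb => simp only [map_add, add_smul, Finset.sum_add_distrib, ha, hb]
    | smul c a _ ha => simp only [hζs, map_mul, hs, mul_smul, ← Finset.smul_sum, ha]
  let T' : Fin n → (MvPolynomial (Fin n) A ⧸ J) → B := fun i y => f (T p i (Function.surjInv hq y))
  have hT' : ∀ i z, T' i (q z) = f (T p i z) := by
    intro i z
    have h : Function.surjInv hq (q z) - z ∈ J :=
      (hq0 _).1 (by rw [map_sub, Function.surjInv_eq hq, sub_self])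
    have h2 : f (T p i (Function.surjInv hq (q z) - z)) = 0 := hJT i _ h
    rwa [map_sub, map_sub, sub_eq_zero] at h2
  have hT'add : ∀ i y y', T' i (y + y') = T' i y + T' i y' := fun i y y' => by
    obtain ⟨z, rfl⟩ := hq y
    obtain ⟨z', rfl⟩ := hq y'
    rw [← map_add, hT', hT', hT', map_add, map_add]
  let C : Ω[B⁄A] →+ Ω[B⁄A] := AddMonoidHom.mk'
    (fun ω => ∑ i, T' i (ζ i ω) • KaehlerDifferential.D A B (x i))
    fun a b => by simp only [map_add, hT'add, add_smul, Finset.sum_add_distrib]
  have hC : ∀ ω, C ω = ∑ i, T' i (ζ i ω) • KaehlerDifferential.D A B (x i) := fun ω => rfl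
  refine ⟨C, fun b ω => ?_, fun g => ?_, fun g => ?_, fun ω hω => ?_⟩
  · rw [hC, hC, Finset.smul_sum]
    refine Finset.sum_congr rfl fun i _ => ?_
    obtain ⟨h, hh⟩ := hq (s b)
    obtain ⟨z, hz⟩ := hq (ζ i ω)
    rw [hζs, map_pow, ← hh, ← hz, ← map_pow, ← map_mul, hT', hT', T_pow_mul, map_mul, mul_smul,
      show f h = b by rw [← hπq, hh, hs]]
  · rw [hC]
    refine Finset.sum_eq_zero fun i _ => ?_
    obtain ⟨h, hh⟩ := hq (s g)
    rw [hζ, ← hh, hpd, hT', T_pderiv, map_zero, zero_smul]
  · obtain ⟨h, hh⟩ := hq (s g)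
    rw [hC]
    conv_rhs => rw [← hs g, ← hh, hπq, hdf]
    refine Finset.sum_congr rfl fun i _ => ?_
    rw [hζs, hζ, map_pow, ← hh, hpd, ← map_pow, ← map_mul, hT', T_pow_mul_pderiv]
  · let Λ : Fin n → Fin n → ↥(⋀[B]^2 (Ω[B⁄A])) →ₗ[B] (MvPolynomial (Fin n) A ⧸ J) := fun i j =>
      alternatingMapLinearEquiv
        (MultilinearMap.alternatization
          ((MultilinearMap.mkPiAlgebra B (Fin 2) (MvPolynomial (Fin n) A ⧸ J)).compLinearMap ![ζ i, ζ j]))
    have hΛ : ∀ i j (v : Fin 2 → Ω[B⁄A]), Λ i j (ιMulti B 2 v) = ζ i (v 0) * ζ j (v 1) - ζ i (v 1) * ζ j (v 0) := by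
      intro i j v
      simp only [Λ, alternatingMapLinearEquiv_apply_ιMulti, MultilinearMap.alternatization_apply]
      rw [show (Finset.univ : Finset (Equiv.Perm (Fin 2))) = {1, Equiv.swap 0 1} by decide,
        Finset.sum_pair (by decide)]
      simp [Fin.prod_univ_two, sub_eq_add_neg]
    have key : ∀ i j (y : ↥(⋀[B]^1 (Ω[B⁄A]))),
        Λ i j (d 1 y) = pd i (ζ j (oneEquiv B _ y)) - pd j (ζ i (oneEquiv B _ y)) := by
      intro i j y
      refine Groth.DR.gen_induction (KaehlerDifferential.D A B) (KaehlerDifferential.span_range_derivation A B)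
        (P := fun y => Λ i j (d 1 y) = pd i (ζ j (oneEquiv B _ y)) - pd j (ζ i (oneEquiv B _ y)))
        (by simp) (fun a b ha hb => ?_) (fun b₀ b => ?_) y
      · simp only [map_add, ha, hb]; abel
      · rw [hd, hΛ, DeRham.gen, map_smul, oneEquiv_ιMulti]
        simp only [Fin.cons_zero, Fin.cons_one, hζ, hζs, Derivation.leibniz, smul_eq_mul,
          hcomm i j (s (b 0))]
        ring
    choose w hw using fun i => hq (ζ i ω)
    obtain ⟨g, hg⟩ := sub_cartier_isEx p J hJpd w fun i j => (hq0 _).1 (by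
      have h := key j i ((oneEquiv B _).symm ω)
      rw [hω, map_zero, LinearEquiv.apply_symm_apply] at h
      rw [map_sub, ← hpd, ← hpd, hw, hw]
      exact h.symm)
    refine ⟨f g, fun i => T' i (ζ i ω), x, ?_, hC ω⟩
    conv_lhs => rw [← hrecon ω]
    rw [hdf, ← Finset.sum_add_distrib]
    refine Finset.sum_congr rfl fun i _ => ?_
    dsimp only
    rw [smul_smul, ← add_smul, ← hw i, hT', hπq]
    congr 1
    have h : f (w i - T p i (w i) ^ p * X i ^ (p - 1) - pderiv i g) = 0 := hJI (hg i)
    simp only [map_sub, map_mul, map_pow] at h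
    linear_combination h

end Lift

end Groth.Calg7.Cartier
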