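import Mathlib
import Groth.Agent.Curves1.Units

/-!
The character group (group-like elements) of a reduced Hopf algebra of finite type over an
algebraically closed field is finitely generated.
-/

set_option autoImplicit false
universe u

noncomputable section

namespace Groth.Calg7.CharFG

theorem groupLike_fg (k A : Type u) [Field k] [IsAlgClosed k] [CommRing A] [HopfAlgebra k A]
    [Algebra.FiniteType k A] [IsReduced A] : Group.FG (GroupLike k A) := by
  classical
  haveI : IsNoetherianRing A := Algebra.FiniteType.isNoetherianRing k A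
  let ι₀ := minimalPrimes A
  haveI : Finite ι₀ := (minimalPrimes.finite_of_isNoetherianRing A).to_subtype
  have hP : ∀ P : ι₀, (P : Ideal A).IsPrime := fun P => P.2.1.1
  choose ι hι Ψ hΨ using fun P : ι₀ =>
    haveI := hP P
    Groth.Curves1.Units.exists_hom k (A ⧸ (P : Ideal A))
  haveI := hι
  let Φ : GroupLike k A →* Multiplicative ((Σ P : ι₀, ι P) → ℤ) :=
    { toFun := fun g => Multiplicative.ofAdd fun i =>
        Multiplicative.toAdd (Ψ i.1 (Units.map (Ideal.Quotient.mk (i.1 : Ideal A) : A →* A ⧸ (i.1 : Ideal A))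
          (GroupLike.toUnits k g))) i.2
      map_one' := by simp; rfl
      map_mul' := fun g h => by simp [← ofAdd_add]; rfl }
  -- the kernel is finite
  let π : A →ₗ[k] (∀ P : ι₀, A ⧸ (P : Ideal A)) :=
    LinearMap.pi fun P => (Ideal.Quotient.mkₐ k (P : Ideal A)).toLinearMap
  have hπ : Function.Injective π := by
    rw [injective_iff_map_eq_zero]
    intro a ha
    have h1 : a ∈ sInf (minimalPrimes A) :=
      Submodule.mem_sInf.2 fun P hP' => Ideal.Quotient.eq_zero_iff_mem.1 (congrFun ha ⟨P, hP'⟩)
    rw [show minimalPrimes A = (⊥ : Ideal A).minimalPrimes from rfl, Ideal.sInf_minimalPrimes] at h1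
    exact (show IsNilpotent a from mem_nilradical.1 h1).eq_zero
  let ι' : (ι₀ → k) →ₗ[k] (∀ P : ι₀, A ⧸ (P : Ideal A)) :=
    LinearMap.pi fun P => (Algebra.linearMap k (A ⧸ (P : Ideal A))).comp (LinearMap.proj P)
  let U : Submodule k A := (LinearMap.range ι').comap π
  haveI : FiniteDimensional k U :=
    FiniteDimensional.of_injective (π.restrict (p := U) (q := LinearMap.range ι') fun x hx => hx)
      fun x y h => Subtype.ext (hπ (congrArg Subtype.val h))
  have hmem : ∀ g : Φ.ker, (g : GroupLike k A).val ∈ U := by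
    intro g
    have hint : ∀ P : ι₀, ∃ c : k, algebraMap k (A ⧸ (P : Ideal A)) c =
        Ideal.Quotient.mk (P : Ideal A) (g : GroupLike k A).val := by
      intro P
      haveI := hP P
      have h1 : Ψ P (Units.map (Ideal.Quotient.mk (P : Ideal A) : A →* A ⧸ (P : Ideal A))
          (GroupLike.toUnits k (g : GroupLike k A))) = 1 := by
        apply Multiplicative.toAdd.injective
        funext i
        exact congrFun (congrArg Multiplicative.toAdd (MonoidHom.mem_ker.1 g.2)) ⟨P, i⟩
      have h2 : IsIntegral k (Ideal.Quotient.mk (P : Ideal A) (g : GroupLike k A).val) := hΨ P _ h1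
      exact minpoly.mem_range_of_degree_eq_one k _
        (IsAlgClosed.degree_eq_one_of_irreducible k (minpoly.irreducible h2))
    choose c hc using hint
    exact ⟨c, funext fun P => hc P⟩
  haveI : Finite Φ.ker := by
    have hli : LinearIndependent k (fun g : Φ.ker => (⟨_, hmem g⟩ : U)) :=
      LinearIndependent.of_comp U.subtype
        ((linearIndep_groupLikeVal (R := k) (A := A)).comp _ Subtype.val_injective)
    exact hli.finite
  obtain ⟨t, ht⟩ := (Group.fg_iff).1 (Groth.Curves1.Units.fg_quotient_of_hom Φ.ker Φ le_rfl)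
  obtain ⟨ht, htf⟩ := ht
  let lift : GroupLike k A ⧸ Φ.ker → GroupLike k A := Quotient.out
  refine Group.fg_iff.2 ⟨lift '' t ∪ (Φ.ker : Set (GroupLike k A)), ?_,
    (htf.image _).union (Set.toFinite _)⟩
  rw [eq_top_iff]
  intro g _
  set H := Subgroup.closure (lift '' t ∪ (Φ.ker : Set (GroupLike k A))) with hH
  have hker : Φ.ker ≤ H := fun x hx => Subgroup.subset_closure (Or.inr hx)
  have hg : QuotientGroup.mk' Φ.ker g ∈ H.map (QuotientGroup.mk' Φ.ker) := by
    have hle : Subgroup.closure t ≤ H.map (QuotientGroup.mk' Φ.ker) := by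
      rw [Subgroup.closure_le]
      intro q hq
      exact ⟨lift q, Subgroup.subset_closure (Or.inl ⟨q, hq, rfl⟩), QuotientGroup.out_eq' q⟩
    exact hle (ht ▸ Subgroup.mem_top _)
  obtain ⟨h, hh, he⟩ := hg
  have hmemK : h⁻¹ * g ∈ Φ.ker := QuotientGroup.eq.1 he
  simpa using mul_mem hh (hker hmemK)

end Groth.Calg7.CharFG
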