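/-
The decomposition group of a prime as the Galois group of the completed local extension.
-/
import Groth.Agent.Calg7.DecompFactor
import Mathlib.RingTheory.IsGaloisGroup.Basic
import Mathlib.RingTheory.Flat.Basic
import Mathlib.RingTheory.Flat.Stability
import Mathlib.RingTheory.DedekindDomain.IntegralClosure
import Mathlib.FieldTheory.Galois.IsGaloisGroup

set_option autoImplicit false
set_option synthInstance.maxHeartbeats 200000

noncomputable section

open TensorProduct IsLocalRing Groth.EGA41Two
open scoped Pointwise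

universe u

namespace Groth.Calg7.Decomp

variable {R S : Type u} [CommRing R] [CommRing S] [Algebra R S]

/-- `R → (R_P)^` -/
abbrev toC (P : Ideal R) [P.IsPrime] : R →+* CplAt P :=
  (algebraMap (Localization.AtPrime P) (CplAt P)).comp (algebraMap R (Localization.AtPrime P))

/-- ring maps out of a completion are determined on the ring -/
theorem hom_ext [IsNoetherianRing R] {P : Ideal R} [P.IsPrime] {D : Type u} [CommRing D] [IsLocalRing D]
    [IsNoetherianRing D] (f₁ f₂ : CplAt P →+* D)
    (h : ∀ r, f₁ (toC P r) = f₂ (toC P r)) (hm : ∀ r ∈ P, f₁ (toC P r) ∈ maximalIdeal D) (x : CplAt P) :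
    f₁ x = f₂ x := by
  have hloc : ∀ c : Localization.AtPrime P, f₁ (algebraMap _ (CplAt P) c) = f₂ (algebraMap _ (CplAt P) c) :=
    RingHom.congr_fun (f := f₁.comp (algebraMap (Localization.AtPrime P) (CplAt P)))
      (g := f₂.comp (algebraMap (Localization.AtPrime P) (CplAt P)))
      (IsLocalization.ringHom_ext P.primeCompl (RingHom.ext h))
  have hgen : maximalIdeal (CplAt P) = P.map (toC P) := by
    rw [← Ideal.map_map, Localization.AtPrime.map_eq_maximalIdeal, AdicCompletion.maximalIdeal_eq_map]
  have h1 : (maximalIdeal (CplAt P)).map f₁ ≤ maximalIdeal D := by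
    rw [hgen, Ideal.map_map]
    exact (Ideal.map_le_iff_le_comap (f := f₁.comp (toC P))).2 hm
  have h2 : (maximalIdeal (CplAt P)).map f₂ ≤ maximalIdeal D := by
    rw [hgen, Ideal.map_map]
    exact (Ideal.map_le_iff_le_comap (f := f₂.comp (toC P))).2 fun r hr => by
      change f₂ (toC P r) ∈ maximalIdeal D
      rw [← h]; exact hm r hr
  have hmem : f₁ x - f₂ x ∈ ⨅ k, maximalIdeal D ^ k := by
    rw [Ideal.mem_iInf]
    intro k
    obtain ⟨c, hc⟩ := exists_sub_mem_pow x k
    have e1 := Ideal.mem_map_of_mem f₁ hc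
    have e2 := Ideal.mem_map_of_mem f₂ hc
    rw [Ideal.map_pow] at e1 e2
    have e3 := sub_mem (Ideal.pow_right_mono h1 k e1) (Ideal.pow_right_mono h2 k e2)
    rw [map_sub, map_sub, hloc, sub_sub_sub_cancel_right] at e3
    exact e3
  rwa [Ideal.iInf_pow_eq_bot_of_isLocalRing _ (maximalIdeal.isMaximal D).ne_top, Ideal.mem_bot, sub_eq_zero] at hmem

variable {G : Type u} [Group G] [Finite G] [MulSemiringAction G S] [SMulCommClass G R S]

theorem module_finite [IsNoetherianRing R] [IsDomain R] [IsDomain S] [IsIntegrallyClosed R] [IsIntegrallyClosed S]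
    [FaithfulSMul R S] [IsGaloisGroup G R S] : Module.Finite R S := by
  letI := FractionRing.liftAlgebra R (FractionRing S)
  letI := IsFractionRing.mulSemiringAction G S (FractionRing S)
  haveI : IsGaloisGroup G (FractionRing R) (FractionRing S) := IsGaloisGroup.toFractionRing (G := G) (A := R) (B := S)
  haveI := IsGaloisGroup.finiteDimensional G (FractionRing R) (FractionRing S)
  haveI := IsGaloisGroup.isGalois G (FractionRing R) (FractionRing S)
  haveI : Algebra.IsIntegral R S := Algebra.IsInvariant.isIntegral R S G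
  haveI : IsIntegralClosure S R (FractionRing S) :=
    IsIntegralClosure.of_isIntegrallyClosed S R (FractionRing S)
  exact IsIntegralClosure.finite R (FractionRing R) (FractionRing S) S

theorem isGaloisGroup [IsNoetherianRing R] [IsDomain R] [IsDomain S] [Module.Finite R S]
    [IsGaloisGroup G R S] (P : Ideal R) [P.IsPrime] (Q : Ideal S) [Q.IsPrime] [Q.LiesOver P]
    [MulSemiringAction (MulAction.stabilizer G Q) (CplAt Q)]
    (hact : ∀ (g : MulAction.stabilizer G Q) (s : S), g • toC Q s = toC Q (g • s))
    [Algebra (CplAt P) (CplAt Q)]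
    (halg : ∀ r : R, algebraMap (CplAt P) (CplAt Q) (toC P r) = toC Q (algebraMap R S r)) :
    IsGaloisGroup (MulAction.stabilizer G Q) (CplAt P) (CplAt Q) := by
  classical
  haveI := Fintype.ofFinite G
  haveI : IsNoetherianRing S := IsNoetherianRing.of_finite R S
  haveI : IsNoetherianRing (CplAt P) := Groth.Calg1.isNoetherianRing_adicCompletion _ (IsNoetherian.noetherian _)
  haveI : IsNoetherianRing (CplAt Q) := Groth.Calg1.isNoetherianRing_adicCompletion _ (IsNoetherian.noetherian _)
  have hp : P = Q.comap (algebraMap R S) := Q.over_def P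
  have htoQ : ∀ s, algebraMap (Localization.AtPrime Q) (CplAt Q) (algebraMap S _ s) = toC Q s := fun _ => rfl
  have hQm : ∀ s ∈ Q, toC Q s ∈ maximalIdeal (CplAt Q) := fun s hs => by
    rw [AdicCompletion.maximalIdeal_eq_map]
    exact Ideal.mem_map_of_mem _ ((IsLocalization.AtPrime.to_map_mem_maximal_iff (Localization.AtPrime Q) Q s).mpr hs)
  have hPm : ∀ r ∈ P, algebraMap (CplAt P) (CplAt Q) (toC P r) ∈ maximalIdeal (CplAt Q) := fun r hr => by
    rw [halg]; exact hQm _ (by rw [hp] at hr; exact hr)
  have hfix : ∀ (g : MulAction.stabilizer G Q) (c : CplAt P),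
      g • algebraMap (CplAt P) (CplAt Q) c = algebraMap (CplAt P) (CplAt Q) c := by
    intro g c
    symm
    refine hom_ext (algebraMap (CplAt P) (CplAt Q))
      ((MulSemiringAction.toRingHom _ (CplAt Q) g).comp (algebraMap (CplAt P) (CplAt Q))) (fun r => ?_) hPm c
    change _ = (g • algebraMap (CplAt P) (CplAt Q) (toC P r) : CplAt Q)
    rw [halg, hact, show g • algebraMap R S r = algebraMap R S r from smul_algebraMap (g : G) r]
  have hinjS : Function.Injective (toC Q) := by
    rw [toC, RingHom.coe_comp]
    refine Function.Injective.comp ?_ (IsLocalization.injective (Localization.AtPrime Q) Q.primeCompl_le_nonZeroDivisors)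
    intro a b hab
    have hmem : a - b ∈ ⨅ k, maximalIdeal (Localization.AtPrime Q) ^ k := by
      rw [Ideal.mem_iInf]
      intro k
      refine mem_pow_of_algebraMap_mem_pow ?_
      rw [map_sub, hab, sub_self]
      exact zero_mem _
    rwa [Ideal.iInf_pow_eq_bot_of_isLocalRing _ (maximalIdeal.isMaximal _).ne_top, Ideal.mem_bot, sub_eq_zero] at hmem
  haveI : FaithfulSMul G S := IsGaloisGroup.faithful R
  refine ⟨⟨fun {g g'} h => Subtype.ext (eq_of_smul_eq_smul fun s : S => hinjS ?_)⟩,
    ⟨fun g c y => by rw [Algebra.smul_def, Algebra.smul_def, smul_mul', hfix]⟩, ⟨fun y hy => ?_⟩⟩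
  · have := h (toC Q s)
    rwa [hact, hact] at this
  -- the idempotent
  obtain ⟨ψ, hψl, hψsurj, e, hidem, hψe, hker⟩ := exists_factor_idem (A := R) (B := S) Q P hp
  have hψ : ∀ (s : S) (c : CplAt P), ψ (s ⊗ₜ c) = toC Q s * algebraMap (CplAt P) (CplAt Q) c := by
    intro s c
    have h1 : ψ ((1 : S) ⊗ₜ c) = algebraMap (CplAt P) (CplAt Q) c := by
      refine (hom_ext (algebraMap (CplAt P) (CplAt Q))
        (ψ.comp (Algebra.TensorProduct.includeRight (R := R) (A := S) (B := CplAt P)).toRingHom) (fun r => ?_) hPm c).symm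
      change _ = ψ ((1 : S) ⊗ₜ[R] toC P r)
      rw [halg, show toC P r = algebraMap R (CplAt P) r from
        (IsScalarTower.algebraMap_apply R (Localization.AtPrime P) (CplAt P) r).symm,
        Algebra.algebraMap_eq_smul_one, Algebra.algebraMap_eq_smul_one, ← TensorProduct.smul_tmul, hψl, htoQ]
    rw [show s ⊗ₜ[R] c = (s ⊗ₜ[R] (1 : CplAt P)) * ((1 : S) ⊗ₜ[R] c) by
      rw [Algebra.TensorProduct.tmul_mul_tmul, mul_one, one_mul], map_mul, hψl, h1]
    rfl
  let σ : G → S ⊗[R] CplAt P →ₐ[R] S ⊗[R] CplAt P := fun g =>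
    Algebra.TensorProduct.map (MulSemiringAction.toAlgHom R S g) (AlgHom.id R _)
  have hσ : ∀ g s c, σ g (s ⊗ₜ c) = (g • s) ⊗ₜ c := fun g s c => rfl
  have hσmul : ∀ g h t, σ (g * h) t = σ g (σ h t) := by
    intro g h t
    induction t using TensorProduct.induction_on with
    | zero => simp
    | tmul s c => simp only [hσ, mul_smul]
    | add a b ha hb => simp only [map_add, ha, hb]
  have hσone : ∀ t, σ 1 t = t := by
    intro t
    induction t using TensorProduct.induction_on with
    | zero => simp
    | tmul s c => simp only [hσ, one_smul]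
    | add a b ha hb => simp only [map_add, ha, hb]
  have hequiv : ∀ (g : MulAction.stabilizer G Q) t, ψ (σ g t) = g • ψ t := by
    intro g t
    induction t using TensorProduct.induction_on with
    | zero => simp
    | tmul s c => rw [hσ, hψ, hψ, smul_mul', hact, hfix]; rfl
    | add a b ha hb => rw [map_add, map_add, ha, hb, map_add, smul_add]
  -- translates of the idempotent
  have hdisj : ∀ g : G, g ∉ MulAction.stabilizer G Q → ψ (σ g e) = 0 := by
    intro g hg
    have hI : IsIdempotentElem (ψ (σ g e)) := by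
      change _ * _ = _
      rw [← map_mul, ← map_mul, hidem]
    rcases (show ψ (σ g e) = 0 ∨ ψ (σ g e) = 1 by
        rcases IsLocalRing.isUnit_or_isUnit_one_sub_self (ψ (σ g e)) with hu | hu
        · exact Or.inr (hu.mul_left_cancel (by rw [mul_one]; exact hI))
        · exact Or.inl (hu.mul_left_eq_zero.mp (by rw [mul_sub, mul_one]; exact sub_eq_zero.mpr hI.symm))) with h | h
    · exact h
    · exfalso
      apply hg
      let M := (maximalIdeal (CplAt Q)).comap ψ
      have hM : M.IsMaximal := Ideal.comap_isMaximal_of_surjective ψ hψsurj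
      have hσsurj : Function.Surjective (σ g) := fun t => ⟨σ g⁻¹ t, by rw [← hσmul, mul_inv_cancel, hσone]⟩
      let M' := M.comap (σ g).toRingHom
      have hM' : M'.IsMaximal := Ideal.comap_isMaximal_of_surjective (σ g).toRingHom hσsurj
      have he' : e ∉ M' := fun he' => by
        have h1 : ψ (σ g e) ∈ maximalIdeal (CplAt Q) := he'
        rw [h] at h1
        exact (mem_maximalIdeal _).mp h1 isUnit_one
      have hle : RingHom.ker ψ ≤ M' := fun x hx => by
        have hx0 : e * x ∈ M' := by rw [hker x hx]; exact zero_mem _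
        exact (hM'.isPrime.mem_or_mem hx0).resolve_left he'
      have heq : M' = M := by
        refine hM'.eq_of_le hM.ne_top fun x hx => ?_
        have h1 : (M'.map ψ) ≤ maximalIdeal (CplAt Q) := IsLocalRing.le_maximalIdeal fun htop => hM'.ne_top (by
          have h2 := congrArg (Ideal.comap ψ) htop
          rwa [Ideal.comap_map_of_surjective ψ hψsurj, ← RingHom.ker_eq_comap_bot, sup_eq_left.mpr hle,
            Ideal.comap_top] at h2)
        exact h1 (Ideal.mem_map_of_mem ψ hx)
      have hQiff : ∀ s : S, s ⊗ₜ[R] (1 : CplAt P) ∈ M ↔ s ∈ Q := fun s => by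
        change ψ (s ⊗ₜ 1) ∈ maximalIdeal (CplAt Q) ↔ _
        rw [hψl]
        refine ⟨fun hs => ?_, hQm s⟩
        by_contra hns
        exact (mem_maximalIdeal _).mp hs
          ((IsLocalization.map_units (Localization.AtPrime Q) (⟨s, hns⟩ : Q.primeCompl)).map _)
      have hg' : ∀ s, g • s ∈ Q ↔ s ∈ Q := fun s => by
        rw [← hQiff, ← hQiff, ← hσ g s 1]
        conv_rhs => rw [← heq]
        rfl
      rw [MulAction.mem_stabilizer_iff]
      ext s
      rw [Ideal.mem_pointwise_smul_iff_inv_smul_mem, ← hg', smul_inv_smul]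
  have habs : ∀ x, ψ x = 1 → e * x = e := fun x hx => by
    have h := hker (x - 1) (by rw [map_sub, hx, map_one, sub_self])
    rwa [mul_sub, mul_one, sub_eq_zero] at h
  have hstab : ∀ g : MulAction.stabilizer G Q, σ g e = e := fun g => by
    have h1 : e * σ g e = e := habs _ (by rw [hequiv, hψe, smul_one])
    have h2 : e * σ (g⁻¹ : MulAction.stabilizer G Q) e = e := habs _ (by rw [hequiv, hψe, smul_one])
    have h3 := congrArg (σ g) h2
    rw [map_mul, ← hσmul, Subgroup.coe_inv, mul_inv_cancel, hσone, mul_comm, h1] at h3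
    exact h3.symm
  obtain ⟨t₀, ht₀⟩ := hψsurj y
  have ht1 : ∀ g : MulAction.stabilizer G Q, σ g (e * t₀) = e * t₀ := fun g => by
    have h := hker (σ g t₀ - t₀) (by rw [map_sub, hequiv, ht₀, hy, sub_self])
    rw [map_mul, hstab]
    rwa [mul_sub, sub_eq_zero] at h
  let F : G ⧸ MulAction.stabilizer G Q → S ⊗[R] CplAt P := Quotient.lift (fun g => σ g (e * t₀)) fun a b hab => by
    have hmem : a⁻¹ * b ∈ MulAction.stabilizer G Q := QuotientGroup.leftRel_apply.mp hab
    conv_rhs => rw [show b = a * (a⁻¹ * b) by rw [mul_inv_cancel_left], hσmul, ht1 ⟨_, hmem⟩]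
  have hF : ∀ g : G, F g = σ g (e * t₀) := fun g => rfl
  let t := ∑ q, F q
  have hinv : ∀ h : G, σ h t = t := fun h => by
    rw [map_sum]
    refine Fintype.sum_equiv (MulAction.toPerm h) _ _ fun q => ?_
    induction q using QuotientGroup.induction_on with
    | H g =>
      rw [MulAction.toPerm_apply, hF]
      change _ = F ((h * g : G) : G ⧸ MulAction.stabilizer G Q)
      rw [hF, hσmul]
  have hψt : ψ t = y := by
    rw [map_sum, Finset.sum_eq_single ((1 : G) : G ⧸ MulAction.stabilizer G Q)]
    · rw [hF, hσone, map_mul, hψe, one_mul, ht₀]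
    · intro q _ hq
      induction q using QuotientGroup.induction_on with
      | H g =>
        have hg : g ∉ MulAction.stabilizer G Q := fun hg => hq (QuotientGroup.eq.mpr (by simpa using hg))
        rw [hF, map_mul, map_mul, hdisj g hg, zero_mul]
    · exact fun h => absurd (Finset.mem_univ _) h
  -- invariants of the tensor product
  haveI : Module.Flat R (CplAt P) := Module.Flat.trans R (Localization.AtPrime P) (CplAt P)
  let δ : S →ₗ[R] (G → S) := LinearMap.pi fun g => (MulSemiringAction.toAlgHom R S g).toLinearMap - LinearMap.id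
  have hex : Function.Exact (Algebra.linearMap R S) δ := fun s => ⟨fun h => by
      obtain ⟨r, hr⟩ := Algebra.IsInvariant.isInvariant (A := R) (G := G) s fun g => sub_eq_zero.1 (congrFun h g)
      exact ⟨r, hr⟩, by
      rintro ⟨r, rfl⟩
      funext g
      exact sub_eq_zero.2 (smul_algebraMap g r)⟩
  have hzero : ∀ z : (G → S) ⊗[R] CplAt P,
      (∀ g, (LinearMap.proj g : (G → S) →ₗ[R] S).rTensor (CplAt P) z = 0) → z = 0 := by
    intro z hz
    have hid : ∑ g, (LinearMap.single R (fun _ : G => S) g) ∘ₗ (LinearMap.proj g) = LinearMap.id := by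
      refine LinearMap.ext fun f => funext fun k => ?_
      simp [LinearMap.sum_apply, Pi.single_apply]
    calc z = (LinearMap.id : (G → S) →ₗ[R] G → S).rTensor (CplAt P) z := by rw [LinearMap.rTensor_id]; rfl
      _ = 0 := by
        rw [← hid]
        change LinearMap.rTensorHom (CplAt P) (∑ g, _) z = 0
        rw [map_sum, LinearMap.sum_apply]
        refine Finset.sum_eq_zero fun g _ => ?_
        rw [LinearMap.coe_rTensorHom, LinearMap.rTensor_comp, LinearMap.comp_apply, hz, map_zero]
  have hδ : δ.rTensor (CplAt P) t = 0 := hzero _ fun g => by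
    rw [← LinearMap.comp_apply, ← LinearMap.rTensor_comp,
      show LinearMap.proj g ∘ₗ δ = (MulSemiringAction.toAlgHom R S g).toLinearMap - LinearMap.id from rfl,
      LinearMap.rTensor_sub, LinearMap.rTensor_id, LinearMap.sub_apply, LinearMap.id_apply,
      show (MulSemiringAction.toAlgHom R S g).toLinearMap.rTensor (CplAt P) t = σ g t from rfl, hinv, sub_self]
  obtain ⟨u, hu⟩ := ((Module.Flat.rTensor_exact (CplAt P) hex) t).mp hδ
  obtain ⟨c, rfl⟩ := (TensorProduct.lid R (CplAt P)).symm.surjective u
  refine ⟨c, ?_⟩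
  rw [← hψt, ← hu, TensorProduct.lid_symm_apply, LinearMap.rTensor_tmul, Algebra.linearMap_apply, map_one, hψ,
    map_one, one_mul]

end Groth.Calg7.Decomp
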