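/-
Completions of localizations of integral closures in a compositum of two separable extensions.
-/
import Groth.Agent.Calg7.DecompCompletion
import Groth.Agent.LocDual.NormalExcellent
import Groth.Agent.Ega4Algebra1.GRingDescent
import Groth.Agent.Ega4Algebra1.ExcellentLoc

set_option autoImplicit false
set_option synthInstance.maxHeartbeats 200000

noncomputable section

open TensorProduct IsLocalRing Groth.EGA41Two

universe u

namespace Groth.Calg7.CplComp

theorem isNoetherian_cpl (A : Type u) [CommRing A] [IsLocalRing A] [IsNoetherianRing A] :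
    IsNoetherianRing (EGA4.Cpl A) :=
  Groth.Calg1.isNoetherianRing_adicCompletion _ (IsNoetherian.noetherian _)

theorem algebraMap_mem_maximal {A : Type u} [CommRing A] [IsLocalRing A] [IsNoetherianRing A] {a : A}
    (ha : a ∈ maximalIdeal A) : algebraMap A (EGA4.Cpl A) a ∈ maximalIdeal (EGA4.Cpl A) := by
  rw [AdicCompletion.maximalIdeal_eq_map]
  exact Ideal.mem_map_of_mem _ ha

theorem cpl_injective (A : Type u) [CommRing A] [IsLocalRing A] [IsNoetherianRing A] :
    Function.Injective (algebraMap A (EGA4.Cpl A)) := by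
  intro a b hab
  have hmem : a - b ∈ ⨅ k, maximalIdeal A ^ k := by
    rw [Ideal.mem_iInf]
    intro k
    refine mem_pow_of_algebraMap_mem_pow ?_
    rw [map_sub, hab, sub_self]
    exact zero_mem _
  rwa [Ideal.iInf_pow_eq_bot_of_isLocalRing _ (maximalIdeal.isMaximal _).ne_top, Ideal.mem_bot, sub_eq_zero] at hmem

theorem cpl_hom_ext {A D : Type u} [CommRing A] [IsLocalRing A] [IsNoetherianRing A] [CommRing D]
    [IsLocalRing D] [IsNoetherianRing D] (f₁ f₂ : EGA4.Cpl A →+* D)
    (h : ∀ a, f₁ (algebraMap A _ a) = f₂ (algebraMap A _ a))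
    (hm : ∀ a ∈ maximalIdeal A, f₁ (algebraMap A _ a) ∈ maximalIdeal D) : f₁ = f₂ := by
  ext x
  have h1 : (maximalIdeal (EGA4.Cpl A)).map f₁ ≤ maximalIdeal D := by
    rw [AdicCompletion.maximalIdeal_eq_map, Ideal.map_map]
    exact (Ideal.map_le_iff_le_comap (f := f₁.comp (algebraMap A (EGA4.Cpl A)))).2 hm
  have h2 : (maximalIdeal (EGA4.Cpl A)).map f₂ ≤ maximalIdeal D := by
    rw [AdicCompletion.maximalIdeal_eq_map, Ideal.map_map]
    exact (Ideal.map_le_iff_le_comap (f := f₂.comp (algebraMap A (EGA4.Cpl A)))).2 fun a ha => by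
      change f₂ (algebraMap A _ a) ∈ maximalIdeal D
      rw [← h]; exact hm a ha
  have hmem : f₁ x - f₂ x ∈ ⨅ k, maximalIdeal D ^ k := by
    rw [Ideal.mem_iInf]
    intro k
    obtain ⟨c, hc⟩ := exists_sub_mem_pow x k
    have e1 := Ideal.mem_map_of_mem f₁ hc
    have e2 := Ideal.mem_map_of_mem f₂ hc
    rw [Ideal.map_pow] at e1 e2
    have e3 := sub_mem (Ideal.pow_right_mono h1 k e1) (Ideal.pow_right_mono h2 k e2)
    rw [map_sub, map_sub, h, sub_sub_sub_cancel_right] at e3
    exact e3
  rwa [Ideal.iInf_pow_eq_bot_of_isLocalRing _ (maximalIdeal.isMaximal D).ne_top, Ideal.mem_bot, sub_eq_zero] at hmem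

/-- The completion of a normal local G-ring domain is a normal domain. -/
theorem cpl_normal (A : Type u) [CommRing A] [IsLocalRing A] [IsNoetherianRing A] [IsDomain A]
    [IsIntegrallyClosed A] (hG : CAlg.IsGRing A) :
    IsDomain (EGA4.Cpl A) ∧ IsIntegrallyClosed (EGA4.Cpl A) := by
  haveI := isNoetherian_cpl A
  obtain ⟨hflat, hfib⟩ := Groth.LocDual.NormalExcellent.isRegularHom_completion A hG
  have hC : EGA4.IsNormalRing (EGA4.Cpl A) := by
    refine Groth.Calg4.isNormalRing_of_flat_of_regular_fibers A (EGA4.Cpl A)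
      (Groth.LocDual.NormalExcellent.isNormalRing_of_domain A) fun p _ => ?_
    have := (hfib p).2 p.ResidueField inferInstance
    exact IsRegularRing.of_ringEquiv (R := p.ResidueField ⊗[p.ResidueField] (p.Fiber (EGA4.Cpl A)))
      (Algebra.TensorProduct.lid p.ResidueField (p.Fiber (EGA4.Cpl A))).toRingEquiv
  obtain ⟨hR, hS⟩ := Groth.Calg1.normal_iff.mp hC
  haveI := Groth.Calg1.isDomain_of_R1_S2 hR hS
  exact ⟨inferInstance, Groth.Calg1.isIntegrallyClosed_of_R1_S2 hR hS⟩

/-- The completion of a local algebra of a finite algebra over a complete base. -/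
theorem exists_cpl_map {R C L : Type u} [CommRing R] [IsLocalRing R] [IsNoetherianRing R] [CommRing C]
    [Algebra R C] [Module.Finite R C] (n : Ideal C) [n.IsPrime] (hn : maximalIdeal R = n.comap (algebraMap R C))
    [CommRing L] [IsLocalRing L] [IsNoetherianRing L] [Algebra C L] [IsLocalization.AtPrime L n] :
    ∃ θ : EGA4.Cpl R →+* EGA4.Cpl L,
      (∀ r, θ (algebraMap R _ r) = algebraMap L _ (algebraMap C L (algebraMap R C r))) ∧
      (∀ x, x ∈ AddSubgroup.closure
        {y : EGA4.Cpl L | ∃ c u, y = algebraMap L (EGA4.Cpl L) (algebraMap C L c) * θ u}) ∧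
      ∀ (N : ℕ) (f : C →ₗ[R] (Fin N → R)), Function.Injective f → IsDomain (EGA4.Cpl R) →
        Function.Injective θ := by
  classical
  haveI : IsLocalization.AtPrime R (maximalIdeal R) :=
    IsLocalization.self fun x hx => by
      by_contra h
      exact hx h
  haveI : IsNoetherianRing C := IsNoetherianRing.of_finite R C
  haveI : IsLocalRing (CplAt n) := inferInstance
  obtain ⟨ψ, hψl, hψsurj, e, hidem, hψe, hker⟩ := Groth.Calg7.Decomp.exists_factor_idem (A := R) (B := C) n (maximalIdeal R) hn
  let eR : Localization.AtPrime (maximalIdeal R) ≃+* R :=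
    (IsLocalization.algEquiv (maximalIdeal R).primeCompl (Localization.AtPrime (maximalIdeal R)) R).toRingEquiv
  let eL : Localization.AtPrime n ≃+* L :=
    (IsLocalization.algEquiv n.primeCompl (Localization.AtPrime n) L).toRingEquiv
  obtain ⟨σR, hσR⟩ := Groth.PropsBasic.GRingLocal.exists_cplEquiv
    (maximalIdeal (Localization.AtPrime (maximalIdeal R))) (maximalIdeal R) eR
    (IsLocalRing.map_maximalIdeal_of_surjective _ eR.surjective)
  obtain ⟨σL, hσL⟩ := Groth.PropsBasic.GRingLocal.exists_cplEquiv
    (maximalIdeal (Localization.AtPrime n)) (maximalIdeal L) eL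
    (IsLocalRing.map_maximalIdeal_of_surjective _ eL.surjective)
  let θ : EGA4.Cpl R →+* EGA4.Cpl L :=
    (σL.toRingHom.comp ψ).comp ((Algebra.TensorProduct.includeRight (R := R) (A := C)).toRingHom.comp σR.symm.toRingHom)
  have hθdef : ∀ u, θ u = σL (ψ ((1 : C) ⊗ₜ σR.symm u)) := fun u => rfl
  have hl : ∀ c : C, σL (ψ (c ⊗ₜ 1)) = algebraMap L _ (algebraMap C L c) := fun c => by
    rw [hψl, hσL]
    congr 1
    exact (IsLocalization.algEquiv n.primeCompl (Localization.AtPrime n) L).commutes c
  refine ⟨θ, fun r => ?_, fun x => ?_, fun N f hf hdom => ?_⟩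
  · have h1 : σR.symm (algebraMap R _ r) = algebraMap R (CplAt (maximalIdeal R)) r := by
      rw [RingEquiv.symm_apply_eq, IsScalarTower.algebraMap_apply R (Localization.AtPrime (maximalIdeal R))
        (CplAt (maximalIdeal R)), hσR]
      congr 1
      exact ((IsLocalization.algEquiv (maximalIdeal R).primeCompl
        (Localization.AtPrime (maximalIdeal R)) R).commutes r).symm
    rw [hθdef, h1, Algebra.algebraMap_eq_smul_one, ← TensorProduct.smul_tmul, ← Algebra.algebraMap_eq_smul_one, hl]
  · obtain ⟨t, ht⟩ := hψsurj (σL.symm x)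
    rw [show x = σL (ψ t) by rw [ht, RingEquiv.apply_symm_apply]]
    clear ht
    induction t using TensorProduct.induction_on with
    | zero => rw [map_zero, map_zero]; exact zero_mem _
    | tmul c u =>
      refine AddSubgroup.subset_closure ⟨c, σR u, ?_⟩
      rw [hθdef, RingEquiv.symm_apply_apply, ← hl, ← map_mul, ← map_mul, Algebra.TensorProduct.tmul_mul_tmul,
        mul_one, one_mul]
    | add a b ha hb => rw [map_add, map_add]; exact add_mem ha hb
  · haveI : IsDomain (CplAt (maximalIdeal R)) := MulEquiv.isDomain (EGA4.Cpl R) σR.toMulEquiv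
    haveI : Module.Flat R (CplAt (maximalIdeal R)) :=
      Module.Flat.trans R (Localization.AtPrime (maximalIdeal R)) (CplAt (maximalIdeal R))
    rw [injective_iff_map_eq_zero]
    intro u hu
    by_contra hu0
    rw [hθdef, map_eq_zero_iff _ σL.injective] at hu
    have h0 := hker _ hu
    set v := σR.symm u
    have hv : v ≠ 0 := fun h => hu0 (by rwa [map_eq_zero_iff _ σR.symm.injective] at h)
    let μ : CplAt (maximalIdeal R) →ₗ[R] CplAt (maximalIdeal R) := LinearMap.mulLeft R v
    have hμ : Function.Injective μ := fun a b h => mul_left_cancel₀ hv h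
    have hcomm : ∀ t : C ⊗[R] CplAt (maximalIdeal R), t * ((1 : C) ⊗ₜ v) = μ.lTensor C t := by
      intro t
      induction t using TensorProduct.induction_on with
      | zero => rw [zero_mul, map_zero]
      | tmul c w =>
        rw [Algebra.TensorProduct.tmul_mul_tmul, mul_one, LinearMap.lTensor_tmul, LinearMap.mulLeft_apply, mul_comm]
      | add a b ha hb => rw [add_mul, ha, hb, map_add]
    have hinj : Function.Injective (μ.lTensor C) := by
      have h1 : Function.Injective ((f.rTensor (CplAt (maximalIdeal R))).comp (μ.lTensor C)) := by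
        rw [LinearMap.rTensor_comp_lTensor, ← LinearMap.lTensor_comp_rTensor, LinearMap.coe_comp]
        exact (Module.Flat.lTensor_preserves_injective_linearMap μ hμ).comp
          (Module.Flat.rTensor_preserves_injective_linearMap f hf)
      rw [LinearMap.coe_comp] at h1
      exact h1.of_comp
    rw [hcomm] at h0
    have he : e = 0 := hinj (h0.trans (map_zero _).symm)
    rw [he, map_zero] at hψe
    exact zero_ne_one hψe

/-- Completed finite extensions are integral over the completed base. -/
theorem isIntegralElem_of_closure {R C U E : Type u} [CommRing R] [CommRing C] [Algebra R C]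
    [Algebra.IsIntegral R C] [CommRing U] [Algebra R U] [CommRing E] (g : C →+* E) (θ : U →+* E)
    (hθ : ∀ r, θ (algebraMap R U r) = g (algebraMap R C r))
    (hx : ∀ x, x ∈ AddSubgroup.closure {y : E | ∃ c u, y = g c * θ u}) : θ.IsIntegral := by
  intro x
  induction hx x using AddSubgroup.closure_induction with
  | mem y hy =>
    obtain ⟨c, u, rfl⟩ := hy
    refine RingHom.IsIntegralElem.mul _ ?_ (RingHom.isIntegralElem_map (f := θ) (x := u))
    obtain ⟨p, hp, hpc⟩ := Algebra.IsIntegral.isIntegral (R := R) c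
    refine ⟨p.map (algebraMap R U), hp.map _, ?_⟩
    rw [Polynomial.eval₂_map, show θ.comp (algebraMap R U) = g.comp (algebraMap R C) from RingHom.ext hθ,
      ← Polynomial.hom_eval₂, hpc, map_zero]
  | zero => exact RingHom.isIntegralElem_zero _
  | add a b _ _ ha hb => exact ha.add _ hb
  | neg a _ ha => exact ha.neg _

theorem injective_of_comp {U D E : Type u} [CommRing U] [CommRing D] [IsDomain D] [CommRing E]
    (θ : U →+* D) (φ : D →+* E) (hθ : θ.IsIntegral) (h : Function.Injective (φ.comp θ)) :
    Function.Injective φ := by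
  letI := θ.toAlgebra
  haveI : Nontrivial U := θ.domain_nontrivial
  haveI : Algebra.IsIntegral U D := ⟨hθ⟩
  rw [RingHom.injective_iff_ker_eq_bot]
  refine Ideal.eq_bot_of_comap_eq_bot (R := U) ?_
  rw [show algebraMap U D = θ from rfl, RingHom.comap_ker]
  exact (RingHom.injective_iff_ker_eq_bot _).mp h

/-- An integral quotient of elements of a normal domain lies in it. -/
theorem mem_range_of_div {D E : Type u} [CommRing D] [IsDomain D] [IsIntegrallyClosed D] [CommRing E]
    [IsDomain E] (φ : D →+* E) (hφ : Function.Injective φ) {x : E} (hx : φ.IsIntegralElem x) {a b : D}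
    (hb : b ≠ 0) (h : x * φ b = φ a) : x ∈ Set.range φ := by
  obtain ⟨p, hp, hpx⟩ := hx
  let Q := FractionRing D
  have hb' : algebraMap D Q b ≠ 0 := (map_ne_zero_iff _ (IsFractionRing.injective D Q)).mpr hb
  have h1 : (p.scaleRoots b).eval a = 0 := by
    apply hφ
    rw [map_zero, ← Polynomial.eval₂_at_apply, ← h, mul_comm x]
    exact Polynomial.scaleRoots_eval₂_eq_zero φ hpx
  have h2 : IsIntegral D (algebraMap D Q a / algebraMap D Q b) := by
    refine ⟨p, hp, ?_⟩
    have h3 := Polynomial.scaleRoots_eval₂_mul (p := p) (algebraMap D Q) (algebraMap D Q a / algebraMap D Q b) b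
    rw [mul_div_cancel₀ _ hb', Polynomial.eval₂_at_apply, h1, map_zero, eq_comm, mul_eq_zero] at h3
    exact h3.resolve_left (pow_ne_zero _ hb')
  obtain ⟨c, hc⟩ := IsIntegrallyClosed.isIntegral_iff.mp h2
  refine ⟨c, mul_right_cancel₀ ((map_ne_zero_iff _ hφ).mpr hb) ?_⟩
  rw [h, ← map_mul]
  congr 1
  apply IsFractionRing.injective D Q
  rw [map_mul, hc, div_mul_cancel₀ _ hb']

end Groth.Calg7.CplComp
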