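/-
Completions in a compositum of two separable extensions: denominators, and the trace of the local
ring on a subfield.
-/
import Groth.Agent.Calg7.CplCompositum

set_option autoImplicit false
set_option synthInstance.maxHeartbeats 200000

noncomputable section

open IsLocalRing Groth.EGA41Two

universe u

namespace Groth.Calg7.CplComp

theorem finite_and_separable {K L M Ω : Type u} [Field K] [Field L] [Field M] [Field Ω] [Algebra K L]
    [Algebra K M] [Algebra K Ω] [Algebra L Ω] [Algebra M Ω] [IsScalarTower K L Ω] [IsScalarTower K M Ω]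
    [FiniteDimensional K L] [FiniteDimensional K M] [Algebra.IsSeparable K L] [Algebra.IsSeparable K M]
    (hΩ : IntermediateField.adjoin K (Set.range (algebraMap L Ω) ∪ Set.range (algebraMap M Ω)) = ⊤) :
    FiniteDimensional K Ω ∧ Algebra.IsSeparable K Ω := by
  let E₁ := (IsScalarTower.toAlgHom K L Ω).fieldRange
  let E₂ := (IsScalarTower.toAlgHom K M Ω).fieldRange
  have htop : E₁ ⊔ E₂ = (⊤ : IntermediateField K Ω) := by
    rw [← hΩ, IntermediateField.adjoin_union]
    congr 1 <;> exact (IntermediateField.adjoin_self K _).symm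
  haveI : FiniteDimensional K E₁ :=
    Module.Finite.equiv (AlgEquiv.ofInjectiveField (IsScalarTower.toAlgHom K L Ω)).toLinearEquiv
  haveI : FiniteDimensional K E₂ :=
    Module.Finite.equiv (AlgEquiv.ofInjectiveField (IsScalarTower.toAlgHom K M Ω)).toLinearEquiv
  haveI : Algebra.IsSeparable K E₁ :=
    AlgEquiv.Algebra.isSeparable (AlgEquiv.ofInjectiveField (IsScalarTower.toAlgHom K L Ω))
  haveI : Algebra.IsSeparable K E₂ :=
    AlgEquiv.Algebra.isSeparable (AlgEquiv.ofInjectiveField (IsScalarTower.toAlgHom K M Ω))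
  have h1 : FiniteDimensional K (E₁ ⊔ E₂ : IntermediateField K Ω) := inferInstance
  have h2 : Algebra.IsSeparable K (E₁ ⊔ E₂ : IntermediateField K Ω) := inferInstance
  rw [htop] at h1 h2
  haveI := h1; haveI := h2
  exact ⟨Module.Finite.equiv IntermediateField.topEquiv.toLinearEquiv,
    AlgEquiv.Algebra.isSeparable IntermediateField.topEquiv⟩

theorem exists_embedding (R K Ω : Type u) [CommRing R] [IsDomain R] [IsIntegrallyClosed R] [Field K]
    [Algebra R K] [IsFractionRing R K] [Field Ω] [Algebra K Ω] [Algebra R Ω] [IsScalarTower R K Ω]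
    [FiniteDimensional K Ω] [Algebra.IsSeparable K Ω] :
    ∃ N, ∃ f : integralClosure R Ω →ₗ[R] (Fin N → R), Function.Injective f := by
  classical
  obtain ⟨s, b, hb⟩ := FiniteDimensional.exists_is_basis_integral R K Ω
  let v := (Algebra.traceForm K Ω).dualBasis (traceForm_nondegenerate K Ω) b
  have hle := IsIntegralClosure.range_le_span_dualBasis (A := R) (integralClosure R Ω) b hb
  have hli : LinearIndependent R v := v.linearIndependent.restrict_scalars' R
  let g : integralClosure R Ω →ₗ[R] Submodule.span R (Set.range v) :=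
    LinearMap.codRestrict _ ((Algebra.linearMap (integralClosure R Ω) Ω).restrictScalars R)
      fun c => hle ⟨c, rfl⟩
  refine ⟨_, ((Module.Basis.span hli).reindex (Fintype.equivFin _)).equivFun.toLinearMap.comp g, ?_⟩
  rw [LinearMap.coe_comp]
  exact (LinearEquiv.injective _).comp fun a b h => Subtype.ext (congrArg Subtype.val h :)

/-- a subalgebra with the membership property of a localization is the localization -/
theorem isLocalization_of_criterion {R F : Type u} [CommRing R] [Field F] [Algebra R F] (C : Subalgebra R F)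
    (n : Ideal C) [n.IsPrime] (B : Subalgebra R F) (hle : C ≤ B)
    (hunit : ∀ b : C, b ∉ n → (b : F)⁻¹ ∈ B) (hB : ∀ z ∈ B, ∃ a b : C, b ∉ n ∧ z * (b : F) = a) :
    letI := (Subalgebra.inclusion hle).toAlgebra
    IsLocalization.AtPrime B n := by
  letI := (Subalgebra.inclusion hle).toAlgebra
  refine ⟨⟨fun ⟨b, hb⟩ => ?_, fun ⟨z, hz⟩ => ?_, fun {x y} h => ⟨1, ?_⟩⟩⟩
  · have hb0 : (b : F) ≠ 0 := fun h => hb (by rw [show b = 0 from Subtype.ext h]; exact zero_mem n)
    exact IsUnit.of_mul_eq_one ⟨_, hunit b hb⟩ (Subtype.ext (mul_inv_cancel₀ hb0))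
  · obtain ⟨a, b, hb, h⟩ := hB z hz
    exact ⟨(a, ⟨b, hb⟩), Subtype.ext h⟩
  · have h' : (x : F) = y := congrArg (fun t : B => (t : F)) h
    rw [Subtype.ext h']

theorem mem_of_mul_eq {R F : Type u} [CommRing R] [Field F] [Algebra R F] {C : Subalgebra R F} {n : Ideal C}
    [n.IsPrime] {A : Subalgebra R F} (hA : ∀ z : F, z ∈ A ↔ ∃ a b : C, b ∉ n ∧ z * (b : F) = (a : F)) (c : C) :
    (c : F) ∈ A :=
  (hA _).mpr ⟨c, 1, fun h => (Ideal.IsPrime.ne_top ‹_›) ((Ideal.eq_top_iff_one _).mpr h), by simp⟩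

theorem isLocalization_of_iff {R F : Type u} [CommRing R] [Field F] [Algebra R F] (C : Subalgebra R F)
    (n : Ideal C) [n.IsPrime] (A : Subalgebra R F)
    (hA : ∀ z : F, z ∈ A ↔ ∃ a b : C, b ∉ n ∧ z * (b : F) = (a : F)) :
    letI := (Subalgebra.inclusion (S := C) (T := A) fun c hc => mem_of_mul_eq hA ⟨c, hc⟩).toAlgebra
    IsLocalization.AtPrime A n :=
  isLocalization_of_criterion C n A _
    (fun b hb => (hA _).mpr ⟨1, b, hb, by
      have hb0 : (b : F) ≠ 0 := fun h => hb (by rw [show b = 0 from Subtype.ext h]; exact zero_mem n)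
      rw [inv_mul_cancel₀ hb0]; rfl⟩)
    fun z hz => (hA z).mp hz

/-- a uniform denominator for the integral elements -/
theorem exists_smul_mem_adjoin {R K L M Ω : Type u} [CommRing R] [IsDomain R] [IsIntegrallyClosed R]
    [IsNoetherianRing R] [Field K] [Algebra R K] [IsFractionRing R K] [Field L] [Field M] [Field Ω]
    [Algebra K L] [Algebra K M] [Algebra K Ω] [Algebra L Ω] [Algebra M Ω] [IsScalarTower K L Ω]
    [IsScalarTower K M Ω] [FiniteDimensional K L] [FiniteDimensional K M] [Algebra.IsSeparable K L]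
    [Algebra.IsSeparable K M]
    (hΩ : IntermediateField.adjoin K (Set.range (algebraMap L Ω) ∪ Set.range (algebraMap M Ω)) = ⊤)
    [Algebra R L] [Algebra R M] [Algebra R Ω] [IsScalarTower R K L] [IsScalarTower R K M]
    [IsScalarTower R K Ω] [IsScalarTower R L Ω] [IsScalarTower R M Ω] :
    ∃ d : R, d ≠ 0 ∧ ∀ z : Ω, IsIntegral R z → d • z ∈ Algebra.adjoin R
      ({x : Ω | ∃ l : L, IsIntegral R l ∧ algebraMap L Ω l = x} ∪
        {x : Ω | ∃ m : M, IsIntegral R m ∧ algebraMap M Ω m = x}) := by
  classical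
  obtain ⟨hfin, hsep⟩ := finite_and_separable hΩ
  set W := Algebra.adjoin R ({x : Ω | ∃ l : L, IsIntegral R l ∧ algebraMap L Ω l = x} ∪
        {x : Ω | ∃ m : M, IsIntegral R m ∧ algebraMap M Ω m = x})
  let F : Subalgebra K Ω :=
    { carrier := {z | ∃ d : R, d ≠ 0 ∧ d • z ∈ W}
      mul_mem' := fun {a b} ⟨d, hd, ha⟩ ⟨d', hd', hb⟩ =>
        ⟨d * d', mul_ne_zero hd hd', by rw [← smul_mul_smul_comm]; exact W.mul_mem ha hb⟩
      add_mem' := fun {a b} ⟨d, hd, ha⟩ ⟨d', hd', hb⟩ =>
        ⟨d * d', mul_ne_zero hd hd', by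
          rw [smul_add]
          exact W.add_mem (by rw [mul_comm, mul_smul]; exact W.smul_mem ha d') (by rw [mul_smul]; exact W.smul_mem hb d)⟩
      algebraMap_mem' := fun k => by
        obtain ⟨a, b, hb, rfl⟩ := IsFractionRing.div_surjective (A := R) k
        refine ⟨b, nonZeroDivisors.ne_zero hb, ?_⟩
        rw [Algebra.smul_def, IsScalarTower.algebraMap_apply R K Ω b, ← map_mul, mul_div_cancel₀ _
          ((map_ne_zero_iff _ (IsFractionRing.injective R K)).mpr (nonZeroDivisors.ne_zero hb)),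
          ← IsScalarTower.algebraMap_apply]
        exact W.algebraMap_mem a }
  have hsub : Set.range (algebraMap L Ω) ∪ Set.range (algebraMap M Ω) ⊆ F := by
    rintro x (⟨l, rfl⟩ | ⟨l, rfl⟩)
    · obtain ⟨y, hy, hint⟩ := ((IsFractionRing.isAlgebraic_iff R K L).mpr
        (Algebra.IsAlgebraic.isAlgebraic l)).exists_integral_multiple
      exact ⟨y, hy, Algebra.subset_adjoin (Or.inl ⟨y • l, hint, map_smul (IsScalarTower.toAlgHom R L Ω) y l⟩)⟩
    · obtain ⟨y, hy, hint⟩ := ((IsFractionRing.isAlgebraic_iff R K M).mpr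
        (Algebra.IsAlgebraic.isAlgebraic l)).exists_integral_multiple
      exact ⟨y, hy, Algebra.subset_adjoin (Or.inr ⟨y • l, hint, map_smul (IsScalarTower.toAlgHom R M Ω) y l⟩)⟩
  have hall : ∀ z : Ω, z ∈ F := fun z => by
    refine Algebra.adjoin_le hsub ?_
    rw [← IntermediateField.adjoin_toSubalgebra_of_isAlgebraic fun x _ => Algebra.IsAlgebraic.isAlgebraic x, hΩ]
    trivial
  haveI := IsIntegralClosure.finite R K Ω (integralClosure R Ω)
  obtain ⟨s, hs⟩ := Module.Finite.fg_top (R := R) (M := integralClosure R Ω)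
  choose d hd0 hd using fun c : integralClosure R Ω => hall c
  refine ⟨∏ c ∈ s, d c, Finset.prod_ne_zero_iff.mpr fun c _ => hd0 c, fun z hz => ?_⟩
  have hle : Submodule.span R (s : Set (integralClosure R Ω)) ≤
      (Subalgebra.toSubmodule W).comap ((∏ c ∈ s, d c) • (integralClosure R Ω).val.toLinearMap) := by
    rw [Submodule.span_le]
    intro c hc
    change (∏ c ∈ s, d c) • (c : Ω) ∈ W
    rw [← Finset.mul_prod_erase s d hc, mul_comm, mul_smul]
    exact W.smul_mem (hd c) _
  exact hle (by rw [hs]; trivial : (⟨z, hz⟩ : integralClosure R Ω) ∈ _)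

theorem isGRing_atPrime {R C L : Type u} [CommRing R] [CommRing C] [Algebra R C] [Algebra.FiniteType R C]
    (hG : CAlg.IsGRing R) (n : Ideal C) [n.IsPrime] [CommRing L] [Algebra C L] [IsLocalization.AtPrime L n] :
    CAlg.IsGRing L :=
  Groth.Ega4Algebra1.isGRing_of_ringEquiv
    (IsLocalization.algEquiv n.primeCompl (Localization.AtPrime n) L).toRingEquiv
    (Groth.Ega4Algebra1.isGRing_localization (Groth.Ega4Algebra1.isGRing_of_finiteType R hG C) _)

/-- Comparison of completed localizations over a common base. -/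
theorem phi_facts {R D C T A : Type u} [CommRing R] [IsLocalRing R] [IsNoetherianRing R]
    [CommRing D] [Algebra R D] [Module.Finite R D] [CommRing C] [Algebra R C] [Module.Finite R C]
    (q : Ideal D) [q.IsPrime] (hq : maximalIdeal R = q.comap (algebraMap R D))
    (n : Ideal C) [n.IsPrime] (hn : maximalIdeal R = n.comap (algebraMap R C))
    [CommRing T] [IsLocalRing T] [IsNoetherianRing T] [Algebra D T] [IsLocalization.AtPrime T q]
    [CommRing A] [IsLocalRing A] [IsNoetherianRing A] [Algebra C A] [IsLocalization.AtPrime A n]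
    [IsDomain (EGA4.Cpl R)] [IsDomain (EGA4.Cpl T)]
    {N : ℕ} (f : C →ₗ[R] (Fin N → R)) (hf : Function.Injective f)
    (φ : EGA4.Cpl T →+* EGA4.Cpl A)
    (hφ : ∀ r : R, φ (algebraMap T _ (algebraMap D T (algebraMap R D r))) =
      algebraMap A _ (algebraMap C A (algebraMap R C r))) :
    Function.Injective φ ∧ φ.IsIntegral := by
  haveI := isNoetherian_cpl A
  obtain ⟨θT, hT, hTgen, -⟩ := exists_cpl_map (L := T) q hq
  obtain ⟨θA, hA, hAgen, hAinj⟩ := exists_cpl_map (L := A) n hn
  have hTint : θT.IsIntegral := isIntegralElem_of_closure ((algebraMap T (EGA4.Cpl T)).comp (algebraMap D T)) θT hT hTgen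
  have hAint : θA.IsIntegral := isIntegralElem_of_closure ((algebraMap A (EGA4.Cpl A)).comp (algebraMap C A)) θA hA hAgen
  have heq : θA = φ.comp θT := cpl_hom_ext θA (φ.comp θT)
    (fun r => by rw [hA, RingHom.comp_apply, hT, hφ])
    (fun r hr => by
      rw [hA]
      refine algebraMap_mem_maximal ((IsLocalization.AtPrime.to_map_mem_maximal_iff A n _).mpr ?_)
      rw [hn] at hr; exact hr)
  refine ⟨injective_of_comp θT φ hTint ?_, RingHom.IsIntegral.tower_top (f := θT) (g := φ) (by rwa [← heq])⟩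
  rw [← heq]
  exact hAinj N f hf inferInstance

end Groth.Calg7.CplComp
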