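/-
Completions in a compositum of two separable extensions: the main statements.
-/
import Groth.Agent.Calg7.CplCompositumField

set_option autoImplicit false
set_option synthInstance.maxHeartbeats 200000

noncomputable section

open IsLocalRing Groth.EGA41Two

universe u

namespace Groth.Calg7.CplComp

set_option quotPrecheck false in
local notation "𝕊[" R ", " F ", " Ω ", " A "]" => ↥(Subalgebra.comap (IsScalarTower.toAlgHom R F Ω) A)

theorem maximal_eq_comap {R C : Type u} [CommRing R] [IsLocalRing R] [CommRing C] [Algebra R C]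
    [Algebra.IsIntegral R C] (n : Ideal C) [n.IsMaximal] : maximalIdeal R = n.comap (algebraMap R C) :=
  (IsLocalRing.eq_maximalIdeal (Ideal.isMaximal_comap_of_isIntegral_of_isMaximal n)).symm

/-- `d` times any element of the completion lies in the compositum of the completions. -/
theorem exists_mul_mem (R K L M Ω : Type u) [CommRing R] [IsDomain R] [IsLocalRing R] [IsIntegrallyClosed R]
    [IsNoetherianRing R]
    [Field K] [Field L] [Field M] [Field Ω]
    [Algebra R K] [IsFractionRing R K]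
    [Algebra K L] [Algebra K M] [Algebra K Ω] [Algebra L Ω] [Algebra M Ω]
    [IsScalarTower K L Ω] [IsScalarTower K M Ω]
    [FiniteDimensional K L] [FiniteDimensional K M] [Algebra.IsSeparable K L] [Algebra.IsSeparable K M]
    (hΩ : IntermediateField.adjoin K (Set.range (algebraMap L Ω) ∪ Set.range (algebraMap M Ω)) = ⊤)
    [Algebra R L] [Algebra R M] [Algebra R Ω] [IsScalarTower R K L] [IsScalarTower R K M] [IsScalarTower R K Ω]
    [IsScalarTower R L Ω] [IsScalarTower R M Ω]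
    (𝔪 : Ideal ↥(integralClosure R Ω)) [𝔪.IsMaximal]
    (A : Subalgebra R Ω)
    (hA : ∀ z : Ω, z ∈ A ↔ ∃ a b : ↥(integralClosure R Ω), b ∉ 𝔪 ∧ z * (b : Ω) = (a : Ω))
    [IsLocalRing ↥A] [IsLocalRing 𝕊[R, L, Ω, A]] [IsLocalRing 𝕊[R, M, Ω, A]]
    [Algebra 𝕊[R, L, Ω, A] ↥A]
    (hSA : ∀ s : 𝕊[R, L, Ω, A], ((algebraMap 𝕊[R, L, Ω, A] ↥A s : ↥A) : Ω) = algebraMap L Ω (s : L))
    [Algebra 𝕊[R, M, Ω, A] ↥A]
    (hTA : ∀ t : 𝕊[R, M, Ω, A], ((algebraMap 𝕊[R, M, Ω, A] ↥A t : ↥A) : Ω) = algebraMap M Ω (t : M))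
    [Algebra (EGA4.Cpl 𝕊[R, L, Ω, A]) (EGA4.Cpl ↥A)]
    (hcS : ∀ s : 𝕊[R, L, Ω, A], algebraMap (EGA4.Cpl 𝕊[R, L, Ω, A]) (EGA4.Cpl ↥A)
        (algebraMap 𝕊[R, L, Ω, A] (EGA4.Cpl 𝕊[R, L, Ω, A]) s) =
      algebraMap ↥A (EGA4.Cpl ↥A) (algebraMap 𝕊[R, L, Ω, A] ↥A s))
    [Algebra (EGA4.Cpl 𝕊[R, M, Ω, A]) (EGA4.Cpl ↥A)]
    (hcT : ∀ t : 𝕊[R, M, Ω, A], algebraMap (EGA4.Cpl 𝕊[R, M, Ω, A]) (EGA4.Cpl ↥A)
        (algebraMap 𝕊[R, M, Ω, A] (EGA4.Cpl 𝕊[R, M, Ω, A]) t) =
      algebraMap ↥A (EGA4.Cpl ↥A) (algebraMap 𝕊[R, M, Ω, A] ↥A t)) :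
    ∃ d : R, d ≠ 0 ∧ algebraMap ↥A (EGA4.Cpl ↥A) (algebraMap R ↥A d) ≠ 0 ∧
      ∀ x : EGA4.Cpl ↥A, x * algebraMap ↥A (EGA4.Cpl ↥A) (algebraMap R ↥A d) ∈
        Algebra.adjoin (EGA4.Cpl 𝕊[R, L, Ω, A])
          (Set.range (algebraMap (EGA4.Cpl 𝕊[R, M, Ω, A]) (EGA4.Cpl ↥A))) := by
  obtain ⟨hfin, hsep⟩ := finite_and_separable hΩ
  haveI := IsIntegralClosure.finite R K Ω (integralClosure R Ω)
  haveI : IsNoetherianRing (integralClosure R Ω) := IsNoetherianRing.of_finite R _
  letI := (Subalgebra.inclusion (S := integralClosure R Ω) (T := A)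
    fun c hc => mem_of_mul_eq hA ⟨c, hc⟩).toAlgebra
  haveI : IsLocalization.AtPrime ↥A 𝔪 := isLocalization_of_iff _ 𝔪 A hA
  haveI : IsNoetherianRing ↥A := IsLocalization.isNoetherianRing 𝔪.primeCompl ↥A inferInstance
  haveI := isNoetherian_cpl ↥A
  have hn := maximal_eq_comap (R := R) 𝔪
  obtain ⟨θ, hθ, hgen, -⟩ := exists_cpl_map (L := ↥A) 𝔪 hn
  set im := algebraMap ↥A (EGA4.Cpl ↥A)
  set W := Algebra.adjoin (EGA4.Cpl 𝕊[R, L, Ω, A])
          (Set.range (algebraMap (EGA4.Cpl 𝕊[R, M, Ω, A]) (EGA4.Cpl ↥A)))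
  have hmS : (maximalIdeal R).map (algebraMap R 𝕊[R, L, Ω, A]) ≤ maximalIdeal 𝕊[R, L, Ω, A] := by
    rw [Ideal.map_le_iff_le_comap]
    intro r hr
    rw [Ideal.mem_comap, mem_maximalIdeal, mem_nonunits_iff]
    intro hu
    refine (mem_maximalIdeal (algebraMap (integralClosure R Ω) ↥A (algebraMap R _ r))).mp
      ((IsLocalization.AtPrime.to_map_mem_maximal_iff ↥A 𝔪 _).mpr (by rw [hn] at hr; exact hr)) ?_
    convert hu.map (algebraMap 𝕊[R, L, Ω, A] ↥A) using 1
    refine Subtype.ext ?_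
    rw [hSA]
    exact IsScalarTower.algebraMap_apply R L Ω r
  let θS := Groth.PropsBasic.GRingLocal.cplMap _ _ (algebraMap R 𝕊[R, L, Ω, A]) hmS
  have hθS : θ = (algebraMap (EGA4.Cpl 𝕊[R, L, Ω, A]) (EGA4.Cpl ↥A)).comp θS := by
    refine cpl_hom_ext θ _ (fun r => ?_) fun r hr => ?_
    · rw [hθ, RingHom.comp_apply, Groth.Calg4.cplMap_algebraMap, hcS]
      congr 1
      refine Subtype.ext ?_
      rw [hSA]
      exact IsScalarTower.algebraMap_apply R L Ω r
    · rw [hθ]
      refine algebraMap_mem_maximal ((IsLocalization.AtPrime.to_map_mem_maximal_iff ↥A 𝔪 _).mpr ?_)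
      rw [hn] at hr; exact hr
  obtain ⟨d, hd0, hd⟩ := exists_smul_mem_adjoin (R := R) hΩ
  refine ⟨d, hd0, ?_, ?_⟩
  · rw [map_ne_zero_iff _ (cpl_injective ↥A)]
    intro h
    refine hd0 (IsFractionRing.injective R K ((algebraMap K Ω).injective ?_))
    rw [map_zero, map_zero, ← IsScalarTower.algebraMap_apply]
    exact congrArg Subtype.val h
  have hR : ∀ r : R, im (algebraMap R ↥A r) ∈ W := fun r => by
    have h1 : im (algebraMap R ↥A r) = algebraMap (EGA4.Cpl 𝕊[R, L, Ω, A]) (EGA4.Cpl ↥A)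
        (algebraMap 𝕊[R, L, Ω, A] _ (algebraMap R 𝕊[R, L, Ω, A] r)) := by
      rw [hcS]
      congr 1
      refine Subtype.ext ?_
      rw [hSA]
      exact IsScalarTower.algebraMap_apply R L Ω r
    rw [h1]; exact W.algebraMap_mem _
  have hW : ∀ w ∈ Algebra.adjoin R ({x : Ω | ∃ l : L, IsIntegral R l ∧ algebraMap L Ω l = x} ∪
      {x : Ω | ∃ m : M, IsIntegral R m ∧ algebraMap M Ω m = x}), ∃ h : w ∈ A, im ⟨w, h⟩ ∈ W := by
    intro w hw
    induction hw using Algebra.adjoin_induction with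
    | mem x hx =>
      rcases hx with ⟨l, hl, rfl⟩ | ⟨l, hl, rfl⟩
      · have h : algebraMap L Ω l ∈ A := mem_of_mul_eq hA ⟨_, hl.map (IsScalarTower.toAlgHom R L Ω)⟩
        refine ⟨h, ?_⟩
        rw [show (⟨algebraMap L Ω l, h⟩ : ↥A) = algebraMap 𝕊[R, L, Ω, A] ↥A ⟨l, h⟩ from Subtype.ext (hSA ⟨l, h⟩).symm, ← hcS]
        exact W.algebraMap_mem _
      · have h : algebraMap M Ω l ∈ A := mem_of_mul_eq hA ⟨_, hl.map (IsScalarTower.toAlgHom R M Ω)⟩
        refine ⟨h, ?_⟩
        rw [show (⟨algebraMap M Ω l, h⟩ : ↥A) = algebraMap 𝕊[R, M, Ω, A] ↥A ⟨l, h⟩ from Subtype.ext (hTA ⟨l, h⟩).symm, ← hcT]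
        exact Algebra.subset_adjoin ⟨_, rfl⟩
    | algebraMap r => exact ⟨A.algebraMap_mem r, hR r⟩
    | add a b _ _ ha hb =>
      obtain ⟨ha, ha'⟩ := ha; obtain ⟨hb, hb'⟩ := hb
      exact ⟨A.add_mem ha hb, by
        rw [show (⟨a + b, _⟩ : ↥A) = ⟨a, ha⟩ + ⟨b, hb⟩ from rfl, map_add]; exact W.add_mem ha' hb'⟩
    | mul a b _ _ ha hb =>
      obtain ⟨ha, ha'⟩ := ha; obtain ⟨hb, hb'⟩ := hb
      exact ⟨A.mul_mem ha hb, by
        rw [show (⟨a * b, _⟩ : ↥A) = ⟨a, ha⟩ * ⟨b, hb⟩ from rfl, map_mul]; exact W.mul_mem ha' hb'⟩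
  intro x
  induction hgen x using AddSubgroup.closure_induction with
  | mem y hy =>
    obtain ⟨c, u, rfl⟩ := hy
    rw [mul_assoc, mul_comm (θ u), ← mul_assoc, ← map_mul, hθS]
    refine W.mul_mem ?_ (W.algebraMap_mem _)
    obtain ⟨h, h'⟩ := hW _ (hd (c : Ω) c.2)
    convert h' using 2
    refine Subtype.ext ?_
    show (c : Ω) * algebraMap R Ω d = d • (c : Ω)
    rw [Algebra.smul_def, mul_comm]
  | zero => rw [zero_mul]; exact W.zero_mem
  | add a b _ _ ha hb => rw [add_mul]; exact W.add_mem ha hb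
  | neg a _ ha => rw [neg_mul]; exact neg_mem ha

/-- the local ring induced on a subfield is a localization of the integral closure -/
theorem comap_criterion (R K M Ω : Type u) [CommRing R] [IsDomain R] [IsLocalRing R] [IsIntegrallyClosed R]
    [IsNoetherianRing R] (hG : CAlg.IsGRing R)
    [Field K] [Field M] [Field Ω] [Algebra R K] [IsFractionRing R K]
    [Algebra K M] [Algebra K Ω] [Algebra M Ω] [IsScalarTower K M Ω]
    [FiniteDimensional K M] [Algebra.IsSeparable K M] [FiniteDimensional K Ω] [Algebra.IsSeparable K Ω]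
    [Algebra R M] [Algebra R Ω] [IsScalarTower R K M] [IsScalarTower R K Ω] [IsScalarTower R M Ω]
    (𝔪 : Ideal ↥(integralClosure R Ω)) [𝔪.IsMaximal]
    (A : Subalgebra R Ω)
    (hA : ∀ z : Ω, z ∈ A ↔ ∃ a b : ↥(integralClosure R Ω), b ∉ 𝔪 ∧ z * (b : Ω) = (a : Ω))
    [IsLocalRing ↥A] (z : M) (hz : algebraMap M Ω z ∈ A) :
    ∃ a b : ↥(integralClosure R M), b ∉ 𝔪.comap (IsScalarTower.toAlgHom R M Ω).mapIntegralClosure.toRingHom ∧
      z * (b : M) = (a : M) := by
  set ι := (IsScalarTower.toAlgHom R M Ω).mapIntegralClosure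
  set q := 𝔪.comap ι.toRingHom
  haveI : q.IsPrime := Ideal.IsPrime.comap _
  haveI := IsIntegralClosure.finite R K Ω (integralClosure R Ω)
  haveI := IsIntegralClosure.finite R K M (integralClosure R M)
  haveI : IsNoetherianRing (integralClosure R Ω) := IsNoetherianRing.of_finite R _
  haveI : IsNoetherianRing (integralClosure R M) := IsNoetherianRing.of_finite R _
  haveI : IsIntegrallyClosed (integralClosure R M) := integralClosure.isIntegrallyClosedOfFiniteExtension K
  haveI : IsIntegrallyClosed (integralClosure R Ω) := integralClosure.isIntegrallyClosedOfFiniteExtension K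
  haveI : IsFractionRing (integralClosure R M) M := integralClosure.isFractionRing_of_finite_extension K M
  letI := (Subalgebra.inclusion (S := integralClosure R Ω) (T := A)
    fun c hc => mem_of_mul_eq hA ⟨c, hc⟩).toAlgebra
  haveI : IsLocalization.AtPrime ↥A 𝔪 := isLocalization_of_iff _ 𝔪 A hA
  haveI : IsNoetherianRing ↥A := IsLocalization.isNoetherianRing 𝔪.primeCompl ↥A inferInstance
  haveI : IsIntegrallyClosed ↥A := isIntegrallyClosed_of_isLocalization _ 𝔪.primeCompl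
    𝔪.primeCompl_le_nonZeroDivisors
  haveI : IsDomain (EGA4.Cpl R) := (cpl_normal R hG).1
  haveI : IsIntegrallyClosed (Localization.AtPrime q) := isIntegrallyClosed_of_isLocalization _ q.primeCompl
    q.primeCompl_le_nonZeroDivisors
  obtain ⟨hTdom, hTic⟩ := cpl_normal (Localization.AtPrime q)
    (isGRing_atPrime (L := Localization.AtPrime q) hG q)
  haveI := hTdom
  haveI := hTic
  haveI : IsDomain (EGA4.Cpl ↥A) := (cpl_normal ↥A (isGRing_atPrime (L := ↥A) hG 𝔪)).1
  let g : integralClosure R M →+* ↥A := (algebraMap (integralClosure R Ω) ↥A).comp ι.toRingHom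
  have hg : ∀ y : q.primeCompl, IsUnit (g y) := fun y =>
    IsLocalization.map_units ↥A (⟨ι y.1, y.2⟩ : 𝔪.primeCompl)
  let j : Localization.AtPrime q →+* ↥A := IsLocalization.lift hg
  have hle : (maximalIdeal (Localization.AtPrime q)).map j ≤ maximalIdeal ↥A := by
    rw [← Localization.AtPrime.map_eq_maximalIdeal, Ideal.map_map, IsLocalization.lift_comp, Ideal.map_le_iff_le_comap]
    intro y hy
    exact (IsLocalization.AtPrime.to_map_mem_maximal_iff ↥A 𝔪 _).mpr hy
  let φ := Groth.PropsBasic.GRingLocal.cplMap _ _ j hle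
  have hφ : ∀ y, φ (algebraMap _ _ (algebraMap (integralClosure R M) (Localization.AtPrime q) y)) =
      algebraMap ↥A _ (g y) := fun y => by
    rw [Groth.Calg4.cplMap_algebraMap, IsLocalization.lift_eq]
  obtain ⟨N, f, hf⟩ := exists_embedding R K Ω
  have hn := maximal_eq_comap (R := R) 𝔪
  obtain ⟨hinj, hint⟩ := phi_facts q (by
      rw [hn, Ideal.comap_comap]
      congr 1
      exact ι.comp_algebraMap.symm) 𝔪 hn f hf φ
    (fun r => by
      rw [hφ, RingHom.comp_apply]
      congr 2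
      exact ι.commutes r)
  obtain ⟨α, β, hβ, rfl⟩ := IsFractionRing.div_surjective (A := integralClosure R M) z
  have hβ0 : algebraMap (integralClosure R M) M β ≠ 0 :=
    (map_ne_zero_iff _ (IsFractionRing.injective _ M)).mpr (nonZeroDivisors.ne_zero hβ)
  set z := algebraMap (integralClosure R M) M α / algebraMap (integralClosure R M) M β
  have hX : algebraMap ↥A (EGA4.Cpl ↥A) ⟨_, hz⟩ *
      φ (algebraMap _ _ (algebraMap (integralClosure R M) (Localization.AtPrime q) β)) =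
      φ (algebraMap _ _ (algebraMap (integralClosure R M) (Localization.AtPrime q) α)) := by
    rw [hφ, hφ, ← map_mul]
    congr 1
    refine Subtype.ext ?_
    show algebraMap M Ω z * algebraMap M Ω (β : M) = algebraMap M Ω (α : M)
    rw [← map_mul]
    congr 1
    exact div_mul_cancel₀ _ hβ0
  have hb0 : algebraMap (Localization.AtPrime q) (EGA4.Cpl (Localization.AtPrime q))
      (algebraMap (integralClosure R M) _ β) ≠ 0 :=
    (map_ne_zero_iff _ (cpl_injective _)).mpr
      ((map_ne_zero_iff _ (IsLocalization.injective _ q.primeCompl_le_nonZeroDivisors)).mpr (nonZeroDivisors.ne_zero hβ))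
  obtain ⟨y, hy⟩ := mem_range_of_div φ hinj (hint _) hb0 hX
  have hy' : algebraMap _ _ (algebraMap (integralClosure R M) (Localization.AtPrime q) α) =
      y * algebraMap _ _ (algebraMap (integralClosure R M) (Localization.AtPrime q) β) :=
    hinj (by rw [map_mul, hy, hX])
  -- faithfully flat descent of divisibility
  set α' := algebraMap (integralClosure R M) (Localization.AtPrime q) α
  set β' := algebraMap (integralClosure R M) (Localization.AtPrime q) β
  have hmem : α' ∈ Ideal.span {β'} := by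
    have h0 : (Ideal.Quotient.mk (Ideal.span {β'}) α') ∈
        (⨅ k : ℕ, maximalIdeal (Localization.AtPrime q) ^ k •
          ⊤ : Submodule (Localization.AtPrime q) (Localization.AtPrime q ⧸ Ideal.span {β'})) := by
      rw [Submodule.mem_iInf]
      intro k
      obtain ⟨c, hc⟩ := exists_sub_mem_pow y k
      have h1 : α' - c * β' ∈ maximalIdeal (Localization.AtPrime q) ^ k := mem_pow_of_algebraMap_mem_pow (by
        rw [map_sub, map_mul, hy', ← sub_mul]
        exact Ideal.mul_mem_right _ _ hc)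
      rw [show Ideal.Quotient.mk (Ideal.span {β'}) α' =
          (α' - c * β') • (1 : Localization.AtPrime q ⧸ Ideal.span {β'}) by
        rw [← Algebra.algebraMap_eq_smul_one, Ideal.Quotient.algebraMap_eq, Ideal.Quotient.eq, sub_sub_cancel]
        exact Ideal.mul_mem_left _ _ (Ideal.mem_span_singleton_self _)]
      exact Submodule.smul_mem_smul h1 trivial
    rw [Ideal.iInf_pow_smul_eq_bot_of_le_jacobson _ (maximalIdeal_le_jacobson ⊥), Submodule.mem_bot] at h0
    exact Ideal.Quotient.eq_zero_iff_mem.mp h0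
  obtain ⟨c, hc⟩ := Ideal.mem_span_singleton'.mp hmem
  obtain ⟨⟨a, b⟩, rfl⟩ : ∃ p : _ × q.primeCompl, IsLocalization.mk' (Localization.AtPrime q) p.1 p.2 = c := by
    obtain ⟨a, b, h⟩ := IsLocalization.exists_mk'_eq q.primeCompl c
    exact ⟨(a, b), h⟩
  refine ⟨a, b, b.2, ?_⟩
  have h3 : a * β = α * b.1 := by
    refine IsLocalization.injective (Localization.AtPrime q) q.primeCompl_le_nonZeroDivisors ?_
    rw [map_mul, map_mul, ← IsLocalization.mk'_spec (Localization.AtPrime q) a b, mul_right_comm, hc]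
  show z * _ = _
  rw [div_mul_eq_mul_div, div_eq_iff hβ0]
  exact (congrArg Subtype.val h3).symm

end Groth.Calg7.CplComp
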