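import Mathlib

/-!
Finitely generated projective modules over a ring `L` dense in an `L`-algebra `L'` for a `T`-adic
lattice: isomorphy descends from `L'` to `L`, and stably free modules descend.
-/

set_option autoImplicit false

namespace Groth.Calg7.DenseApprox

open TensorProduct

universe u v

/-- `L` is dense in `L'` for the filtration `T^N S`, and elements close to `1` are units. -/
structure Lattice (L : Type u) (L' : Type v) [CommRing L] [CommRing L'] [Algebra L L'] where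
  /-- the integral elements -/
  S : Subring L'
  /-- the parameter -/
  T : Lˣ
  T_mem : algebraMap L L' T ∈ S
  bounded : ∀ x : L', ∃ k : ℕ, algebraMap L L' (↑T ^ k) * x ∈ S
  dense : ∀ x ∈ S, ∀ N : ℕ, ∃ x₀ : L, ∃ s ∈ S, algebraMap L L' x₀ - x = algebraMap L L' (↑T ^ N) * s
  unit : ∀ z : L, (∃ s ∈ S, algebraMap L L' z - 1 = algebraMap L L' T * s) → IsUnit z
  unit' : ∀ z : L', (∃ s ∈ S, z - 1 = algebraMap L L' T * s) → IsUnit z

variable {L : Type u} {L' : Type v} [CommRing L] [CommRing L'] [Algebra L L'] (Λ : Lattice L L')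

/-- `T^N S` -/
def Sm (N : ℤ) : AddSubgroup L' :=
  Λ.S.toAddSubgroup.comap (AddMonoidHom.mulLeft (algebraMap L L' ((Λ.T ^ (-N) : Lˣ) : L)))

theorem mem_Sm {N : ℤ} {x : L'} : x ∈ Sm Λ N ↔ algebraMap L L' ((Λ.T ^ (-N) : Lˣ) : L) * x ∈ Λ.S :=
  Iff.rfl

theorem Sm_mul {a b : ℤ} {x y : L'} (hx : x ∈ Sm Λ a) (hy : y ∈ Sm Λ b) : x * y ∈ Sm Λ (a + b) := by
  rw [mem_Sm] at hx hy ⊢
  rw [neg_add, zpow_add, Units.val_mul, map_mul, mul_mul_mul_comm]
  exact Λ.S.mul_mem hx hy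

theorem Sm_mono {a b : ℤ} (h : a ≤ b) {x : L'} (hx : x ∈ Sm Λ b) : x ∈ Sm Λ a := by
  obtain ⟨j, hj⟩ := Int.le.dest h
  rw [mem_Sm] at hx ⊢
  rw [show -a = (j : ℤ) + -b by omega, zpow_add, zpow_natCast, Units.val_mul, map_mul, mul_assoc,
    Units.val_pow_eq_pow_val, map_pow]
  exact Λ.S.mul_mem (pow_mem Λ.T_mem j) hx

theorem mem_Sm_nat {N : ℕ} {x : L'} :
    x ∈ Sm Λ N ↔ ∃ s ∈ Λ.S, x = algebraMap L L' (↑Λ.T ^ N) * s := by
  have h : algebraMap L L' (↑Λ.T ^ N) * algebraMap L L' ((Λ.T ^ (-(N : ℤ)) : Lˣ) : L) = 1 := by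
    rw [← map_mul, ← Units.val_pow_eq_pow_val, ← Units.val_mul, zpow_neg, zpow_natCast,
      mul_inv_cancel, Units.val_one, map_one]
  rw [mem_Sm]
  refine ⟨fun hx => ⟨_, hx, by rw [← mul_assoc, h, one_mul]⟩, ?_⟩
  rintro ⟨s, hs, rfl⟩
  rwa [← mul_assoc, mul_comm (algebraMap L L' ((Λ.T ^ (-(N : ℤ)) : Lˣ) : L)), h, one_mul]

theorem exists_bound (x : L') : ∃ k : ℕ, x ∈ Sm Λ (-(k : ℤ)) := by
  obtain ⟨k, hk⟩ := Λ.bounded x
  exact ⟨k, by rw [mem_Sm, neg_neg, zpow_natCast, Units.val_pow_eq_pow_val]; exact hk⟩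

theorem exists_approx (x : L') (N : ℕ) : ∃ x₀ : L, algebraMap L L' x₀ - x ∈ Sm Λ N := by
  obtain ⟨k, hk⟩ := Λ.bounded x
  obtain ⟨y, s, hs, hy⟩ := Λ.dense _ hk (N + k)
  refine ⟨((Λ.T⁻¹ : Lˣ) : L) ^ k * y, (mem_Sm_nat Λ).2 ⟨s, hs, ?_⟩⟩
  have h : algebraMap L L' (((Λ.T⁻¹ : Lˣ) : L) ^ k) * algebraMap L L' (↑Λ.T ^ k) = 1 := by
    rw [← map_mul, ← mul_pow, Units.inv_mul, one_pow, map_one]
  rw [pow_add, map_mul] at hy
  rw [map_mul]
  linear_combination (algebraMap L L' (((Λ.T⁻¹ : Lˣ) : L) ^ k)) * hy +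
    (algebraMap L L' (↑Λ.T ^ N) * s + x) * h

variable {m n p : Type*}

/-- matrices with entries in `T^N S` -/
def MSm (N : ℤ) (X : Matrix m n L') : Prop := ∀ i j, X i j ∈ Sm Λ N

theorem MSm.mono {a b : ℤ} {X : Matrix m n L'} (hX : MSm Λ b X) (h : a ≤ b) : MSm Λ a X :=
  fun i j => Sm_mono Λ h (hX i j)

theorem MSm.add {a : ℤ} {X Y : Matrix m n L'} (hX : MSm Λ a X) (hY : MSm Λ a Y) : MSm Λ a (X + Y) :=
  fun i j => add_mem (hX i j) (hY i j)

theorem MSm.mul [Fintype n] {a b : ℤ} {X : Matrix m n L'} {Y : Matrix n p L'} (hX : MSm Λ a X)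
    (hY : MSm Λ b Y) : MSm Λ (a + b) (X * Y) := fun i j => by
  rw [Matrix.mul_apply]
  exact sum_mem fun l _ => Sm_mul Λ (hX i l) (hY l j)

theorem exists_bound_matrix [Fintype m] [Fintype n] (X : Matrix m n L') :
    ∃ k : ℕ, ∀ k' : ℕ, k ≤ k' → MSm Λ (-(k' : ℤ)) X := by
  choose k hk using fun ij : m × n => exists_bound Λ (X ij.1 ij.2)
  exact ⟨Finset.univ.sup k, fun k' hk' i j => Sm_mono Λ
    (by have := (Finset.le_sup (f := k) (Finset.mem_univ (i, j))).trans hk'; omega) (hk (i, j))⟩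

theorem exists_approx_matrix (X : Matrix m n L') (N : ℕ) :
    ∃ X₀ : Matrix m n L, MSm Λ N (X₀.map (algebraMap L L') - X) := by
  choose x₀ hx₀ using fun i j => exists_approx Λ (X i j) N
  exact ⟨Matrix.of x₀, fun i j => hx₀ i j⟩

/-- a product of close matrices is close -/
theorem close_mul [Fintype n] {a b c d : ℤ} {X X' : Matrix m n L'} {Y Y' : Matrix n p L'}
    (hX : MSm Λ a X) (hX' : MSm Λ c (X' - X)) (hY : MSm Λ b Y) (hY' : MSm Λ d (Y' - Y))
    (hac : a ≤ c) {e : ℤ} (h1 : e ≤ a + d) (h2 : e ≤ c + b) : MSm Λ e (X' * Y' - X * Y) := by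
  have hX'a : MSm Λ a X' := by
    have := (hX'.mono Λ hac).add Λ hX
    rwa [sub_add_cancel] at this
  rw [show X' * Y' - X * Y = X' * (Y' - Y) + (X' - X) * Y by
    rw [Matrix.mul_sub, Matrix.sub_mul]; abel]
  exact ((hX'a.mul Λ hY').mono Λ h1).add Λ ((hX'.mul Λ hY).mono Λ h2)

theorem det_close [Fintype n] [DecidableEq n] {Z : Matrix n n L'} (hZ : MSm Λ 1 (Z - 1)) :
    ∃ s ∈ Λ.S, Z.det - 1 = algebraMap L L' Λ.T * s := by
  have h : ∀ i j, ∃ s ∈ Λ.S, (Z - 1) i j = algebraMap L L' Λ.T * s := fun i j => by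
    simpa using (mem_Sm_nat Λ (N := 1)).1 (by simpa using hZ i j)
  choose s hs hsZ using h
  let t : Λ.S := ⟨_, Λ.T_mem⟩
  let Y : Matrix n n Λ.S := Matrix.of fun i j => (⟨s i j, hs i j⟩ : Λ.S)
  have hdet : (1 + t • Y).det - 1 ∈ Ideal.span {t} := by
    rw [← Ideal.Quotient.eq, map_one, RingHom.map_det]
    have : (Ideal.Quotient.mk (Ideal.span {t})).mapMatrix (1 + t • Y) = 1 := by
      rw [map_add, map_one]
      convert add_zero (1 : Matrix n n (Λ.S ⧸ Ideal.span {t}))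
      ext i j
      simp [Ideal.Quotient.eq_zero_iff_mem.2 (Ideal.mul_mem_right (Y i j) _ (Ideal.mem_span_singleton_self t))]
    rw [this, Matrix.det_one]
  obtain ⟨w, hw⟩ := Ideal.mem_span_singleton.1 hdet
  refine ⟨w, w.2, ?_⟩
  have hZ' : Z = Λ.S.subtype.mapMatrix (1 + t • Y) := by
    rw [map_add, map_one, ← sub_eq_iff_eq_add']
    ext i j
    simpa [t, Y] using hsZ i j
  rw [hZ', ← RingHom.map_det]
  exact congrArg Subtype.val hw

theorem isUnit_matrix [Fintype n] [DecidableEq n] {Z : Matrix n n L}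
    (hZ : MSm Λ 1 (Z.map (algebraMap L L') - 1)) : IsUnit Z := by
  rw [Matrix.isUnit_iff_isUnit_det]
  refine Λ.unit _ ?_
  rw [RingHom.map_det, RingHom.mapMatrix_apply]
  exact det_close Λ hZ

theorem isUnit_matrix' [Fintype n] [DecidableEq n] {Z : Matrix n n L'} (hZ : MSm Λ 1 (Z - 1)) :
    IsUnit Z := by
  rw [Matrix.isUnit_iff_isUnit_det]
  exact Λ.unit' _ (det_close Λ hZ)

section Modules

variable {M N : Type u} [AddCommGroup M] [Module L M] [AddCommGroup N] [Module L N]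

/-- coordinates on `L' ⊗ M` coming from a section -/
noncomputable def coord {k : ℕ} (s : M →ₗ[L] Fin k → L) (i : Fin k) : L' ⊗[L] M →ₗ[L'] L' :=
  (AlgebraTensorModule.rid L L' L').toLinearMap ∘ₗ (LinearMap.baseChange L' (LinearMap.proj i ∘ₗ s))

theorem coord_tmul {k : ℕ} (s : M →ₗ[L] Fin k → L) (i : Fin k) (a : L') (x : M) :
    coord s i (a ⊗ₜ[L] x) = algebraMap L L' (s x i) * a := by
  simp [coord, Algebra.smul_def]

theorem coord_expand {k : ℕ} (p : (Fin k → L) →ₗ[L] M) (s : M →ₗ[L] Fin k → L)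
    (hps : p ∘ₗ s = LinearMap.id) (z : L' ⊗[L] M) :
    ∑ i, coord s i z • ((1 : L') ⊗ₜ[L] p (Pi.single i 1)) = z := by
  induction z with
  | zero => simp
  | add y z hy hz => simp only [map_add, add_smul, Finset.sum_add_distrib, hy, hz]
  | tmul a x =>
    conv_rhs => rw [show x = p (s x) from (DFunLike.congr_fun hps x).symm, pi_eq_sum_univ' (s x)]
    rw [map_sum, tmul_sum]
    refine Finset.sum_congr rfl fun i _ => ?_
    rw [map_smul, tmul_smul, coord_tmul, mul_smul, smul_tmul', smul_eq_mul, mul_one,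
      IsScalarTower.algebraMap_smul]

theorem bijective_of_close {k : ℕ} (p : (Fin k → L) →ₗ[L] M) (s : M →ₗ[L] Fin k → L)
    (hps : p ∘ₗ s = LinearMap.id) (a : M →ₗ[L] M)
    (ha : MSm Λ 1 ((LinearMap.toMatrix' (s ∘ₗ a ∘ₗ p)).map (algebraMap L L') -
      (LinearMap.toMatrix' (s ∘ₗ p)).map (algebraMap L L'))) : Function.Bijective a := by
  have hps' : ∀ x, p (s x) = x := fun x => DFunLike.congr_fun hps x
  set Z := s ∘ₗ a ∘ₗ p + (LinearMap.id - s ∘ₗ p) with hZdef
  have hZu : IsUnit (LinearMap.toMatrix' Z) := isUnit_matrix Λ (by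
    rw [hZdef, map_add, map_sub, LinearMap.toMatrix'_id, Matrix.map_add _ (map_add _),
      Matrix.map_sub _ (map_sub _), Matrix.map_one _ (map_zero _) (map_one _)]
    convert ha using 1
    abel)
  have hZb : Function.Bijective Z := by
    have h := hZu.map LinearMap.toMatrixAlgEquiv'.symm
    rw [show LinearMap.toMatrixAlgEquiv'.symm (LinearMap.toMatrix' Z) = Z from
      LinearMap.toMatrix'.symm_apply_apply Z] at h
    exact (Module.End.isUnit_iff _).1 h
  have hs : ∀ x, Z (s x) = s (a x) := fun x => by simp [hZdef, hps']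
  refine ⟨fun x y hxy => ?_, fun y => ?_⟩
  · have := hZb.1 (a₁ := s x) (a₂ := s y) (by rw [hs, hs, hxy])
    rw [← hps' x, this, hps']
  · obtain ⟨w, hw⟩ := hZb.2 (s y)
    refine ⟨p w, ?_⟩
    have := congrArg p hw
    simpa [hZdef, hps'] using this

include Λ in
theorem nonempty_equiv [Module.Finite L M] [Module.Projective L M] [Module.Finite L N]
    [Module.Projective L N] (E : L' ⊗[L] M ≃ₗ[L'] L' ⊗[L] N) : Nonempty (M ≃ₗ[L] N) := by
  obtain ⟨m, pM, hpM⟩ := Module.Finite.exists_fin' L M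
  obtain ⟨n, pN, hpN⟩ := Module.Finite.exists_fin' L N
  obtain ⟨sM, hsM⟩ := Module.projective_lifting_property pM LinearMap.id hpM
  obtain ⟨sN, hsN⟩ := Module.projective_lifting_property pN LinearMap.id hpN
  set eM := (LinearMap.toMatrix' (sM ∘ₗ pM)).map (algebraMap L L') with heM
  set eN := (LinearMap.toMatrix' (sN ∘ₗ pN)).map (algebraMap L L') with heN
  let U : Matrix (Fin n) (Fin m) L' := Matrix.of fun i j => coord sN i (E ((1 : L') ⊗ₜ[L] pM (Pi.single j 1)))
  let V : Matrix (Fin m) (Fin n) L' := Matrix.of fun i j => coord sM i (E.symm ((1 : L') ⊗ₜ[L] pN (Pi.single j 1)))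
  have hVU : V * U = eM := by
    ext i j
    calc (V * U) i j = coord sM i (E.symm (∑ l, coord sN l (E ((1 : L') ⊗ₜ[L] pM (Pi.single j 1))) •
          ((1 : L') ⊗ₜ[L] pN (Pi.single l 1)))) := by
            simp [Matrix.mul_apply, U, V, map_sum, map_smul, mul_comm]
      _ = coord sM i ((1 : L') ⊗ₜ[L] pM (Pi.single j 1)) := by rw [coord_expand pN sN hsN, LinearEquiv.symm_apply_apply]
      _ = eM i j := by simp [coord_tmul, eM, LinearMap.toMatrix'_apply]
  have hUV : U * V = eN := by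
    ext i j
    calc (U * V) i j = coord sN i (E (∑ l, coord sM l (E.symm ((1 : L') ⊗ₜ[L] pN (Pi.single j 1))) •
          ((1 : L') ⊗ₜ[L] pM (Pi.single l 1)))) := by
            simp [Matrix.mul_apply, U, V, map_sum, map_smul, mul_comm]
      _ = coord sN i ((1 : L') ⊗ₜ[L] pN (Pi.single j 1)) := by rw [coord_expand pM sM hsM, LinearEquiv.apply_symm_apply]
      _ = eN i j := by simp [coord_tmul, eN, LinearMap.toMatrix'_apply]
  have hself : ∀ {k : ℕ} {P : Type u} [AddCommGroup P] [Module L P] (p : (Fin k → L) →ₗ[L] P)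
      (s : P →ₗ[L] Fin k → L), p ∘ₗ s = LinearMap.id → ∀ (z : L' ⊗[L] P) (i : Fin k),
      ∑ l, (LinearMap.toMatrix' (s ∘ₗ p)).map (algebraMap L L') i l * coord s l z = coord s i z := by
    intro k P _ _ p s hps z i
    conv_rhs => rw [← coord_expand p s hps z]
    simp [map_sum, map_smul, coord_tmul, LinearMap.toMatrix'_apply, mul_comm]
  have hNU : eN * U = U := by
    ext i j; rw [Matrix.mul_apply]; exact hself pN sN hsN _ i
  have hMV : eM * V = V := by
    ext i j; rw [Matrix.mul_apply]; exact hself pM sM hsM _ i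
  have hMM : eM * eM = eM := by
    rw [heM, ← RingHom.mapMatrix_apply, ← map_mul, ← LinearMap.toMatrix'_comp, LinearMap.comp_assoc,
      ← LinearMap.comp_assoc pM sM pM, hsM, LinearMap.id_comp]
  have hNN : eN * eN = eN := by
    rw [heN, ← RingHom.mapMatrix_apply, ← map_mul, ← LinearMap.toMatrix'_comp, LinearMap.comp_assoc,
      ← LinearMap.comp_assoc pN sN pN, hsN, LinearMap.id_comp]
  obtain ⟨k₁, hk₁⟩ := exists_bound_matrix Λ eM
  obtain ⟨k₂, hk₂⟩ := exists_bound_matrix Λ eN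
  obtain ⟨k₃, hk₃⟩ := exists_bound_matrix Λ U
  obtain ⟨k₄, hk₄⟩ := exists_bound_matrix Λ V
  set k := k₁ + k₂ + k₃ + k₄
  have bM := hk₁ k (by omega)
  have bN := hk₂ k (by omega)
  have bU := hk₃ k (by omega)
  have bV := hk₄ k (by omega)
  set K := 10 * k + 1
  obtain ⟨u, hu⟩ := exists_approx_matrix Λ U K
  obtain ⟨v, hv⟩ := exists_approx_matrix Λ V K
  have zM : MSm Λ (K : ℤ) (eM - eM) := fun i j => by simp
  have zN : MSm Λ (K : ℤ) (eN - eN) := fun i j => by simp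
  let f : M →ₗ[L] N := pN ∘ₗ Matrix.toLin' u ∘ₗ sM
  let g : N →ₗ[L] M := pM ∘ₗ Matrix.toLin' v ∘ₗ sN
  have hgf : Function.Bijective (g ∘ₗ f) := by
    refine bijective_of_close Λ pM sM hsM _ ?_
    rw [show (LinearMap.toMatrix' (sM ∘ₗ (g ∘ₗ f) ∘ₗ pM)).map (algebraMap L L') =
        eM * v.map (algebraMap L L') * eN * u.map (algebraMap L L') * eM by
      rw [show sM ∘ₗ (g ∘ₗ f) ∘ₗ pM = (sM ∘ₗ pM) ∘ₗ Matrix.toLin' v ∘ₗ (sN ∘ₗ pN) ∘ₗ
        Matrix.toLin' u ∘ₗ (sM ∘ₗ pM) from rfl]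
      simp only [LinearMap.toMatrix'_comp (sM ∘ₗ pM), LinearMap.toMatrix'_comp (Matrix.toLin' v),
        LinearMap.toMatrix'_comp (sN ∘ₗ pN), LinearMap.toMatrix'_comp (Matrix.toLin' u),
        LinearMap.toMatrix'_toLin', Matrix.map_mul, Matrix.mul_assoc, heM, heN], ← heM]
    have e : eM = eM * V * eN * U * eM := by
      rw [hMV, Matrix.mul_assoc V eN U, hNU, hVU, hMM]
    conv in (_ - eM) => arg 2; rw [e]
    have s1 := close_mul Λ bM zM bV hv (e := (K : ℤ) - k) (by omega) (by omega) (by omega)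
    have b1 := bM.mul Λ bV
    have s2 := close_mul Λ b1 s1 bN zN (e := (K : ℤ) - 2 * k) (by omega) (by omega) (by omega)
    have b2 := b1.mul Λ bN
    have s3 := close_mul Λ b2 s2 bU hu (e := (K : ℤ) - 3 * k) (by omega) (by omega) (by omega)
    have b3 := b2.mul Λ bU
    exact close_mul Λ b3 s3 bM zM (e := 1) (by omega) (by omega) (by omega)
  have hfg : Function.Bijective (f ∘ₗ g) := by
    refine bijective_of_close Λ pN sN hsN _ ?_
    rw [show (LinearMap.toMatrix' (sN ∘ₗ (f ∘ₗ g) ∘ₗ pN)).map (algebraMap L L') =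
        eN * u.map (algebraMap L L') * eM * v.map (algebraMap L L') * eN by
      rw [show sN ∘ₗ (f ∘ₗ g) ∘ₗ pN = (sN ∘ₗ pN) ∘ₗ Matrix.toLin' u ∘ₗ (sM ∘ₗ pM) ∘ₗ
        Matrix.toLin' v ∘ₗ (sN ∘ₗ pN) from rfl]
      simp only [LinearMap.toMatrix'_comp (sN ∘ₗ pN), LinearMap.toMatrix'_comp (Matrix.toLin' u),
        LinearMap.toMatrix'_comp (sM ∘ₗ pM), LinearMap.toMatrix'_comp (Matrix.toLin' v),
        LinearMap.toMatrix'_toLin', Matrix.map_mul, Matrix.mul_assoc, heM, heN], ← heN]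
    have e : eN = eN * U * eM * V * eN := by
      rw [hNU, Matrix.mul_assoc U eM V, hMV, hUV, hNN]
    conv in (_ - eN) => arg 2; rw [e]
    have s1 := close_mul Λ bN zN bU hu (e := (K : ℤ) - k) (by omega) (by omega) (by omega)
    have b1 := bN.mul Λ bU
    have s2 := close_mul Λ b1 s1 bM zM (e := (K : ℤ) - 2 * k) (by omega) (by omega) (by omega)
    have b2 := b1.mul Λ bM
    have s3 := close_mul Λ b2 s2 bV hv (e := (K : ℤ) - 3 * k) (by omega) (by omega) (by omega)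
    have b3 := b2.mul Λ bV
    exact close_mul Λ b3 s3 bN zN (e := 1) (by omega) (by omega) (by omega)
  exact ⟨LinearEquiv.ofBijective f ⟨fun x y h => hgf.1 (by simp [h]), fun y => by
    obtain ⟨w, hw⟩ := hfg.2 y
    exact ⟨g w, hw⟩⟩⟩

end Modules

include Λ in
theorem exists_stablyFree (M' : Type u) [AddCommGroup M'] [Module L' M'] {n m : ℕ}
    (e : (M' × (Fin n → L')) ≃ₗ[L'] (Fin m → L')) :
    ∃ (M : Type u) (_ : AddCommGroup M) (_ : Module L M), Module.Finite L M ∧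
      Nonempty ((M × (Fin n → L)) ≃ₗ[L] (Fin m → L)) ∧ Nonempty (L' ⊗[L] M ≃ₗ[L'] M') := by
  let Ph : (Fin m → L') →ₗ[L'] (Fin n → L') := LinearMap.snd L' M' _ ∘ₗ e.symm.toLinearMap
  let Qh : (Fin n → L') →ₗ[L'] (Fin m → L') := e.toLinearMap ∘ₗ LinearMap.inr L' M' _
  have hPQ : Ph ∘ₗ Qh = LinearMap.id := LinearMap.ext fun y => by simp [Ph, Qh]
  obtain ⟨k₁, hk₁⟩ := exists_bound_matrix Λ (LinearMap.toMatrix' Ph)
  obtain ⟨k₂, hk₂⟩ := exists_bound_matrix Λ (LinearMap.toMatrix' Qh)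
  set k := k₁ + k₂
  have bP := hk₁ k (by omega)
  have bQ := hk₂ k (by omega)
  set K := 2 * k + 1
  obtain ⟨P₀, hP₀⟩ := exists_approx_matrix Λ (LinearMap.toMatrix' Ph) K
  obtain ⟨Q₀, hQ₀⟩ := exists_approx_matrix Λ (LinearMap.toMatrix' Qh) K
  have h1 : LinearMap.toMatrix' Ph * LinearMap.toMatrix' Qh = 1 := by
    rw [← LinearMap.toMatrix'_comp, hPQ, LinearMap.toMatrix'_id]
  have hu : IsUnit (P₀ * Q₀) := isUnit_matrix Λ (by
    rw [Matrix.map_mul, ← h1]
    exact close_mul Λ bP hP₀ bQ hQ₀ (by omega) (by omega) (by omega))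
  obtain ⟨w, hw⟩ := hu
  set P := Matrix.toLin' P₀
  set Q := Matrix.toLin' (Q₀ * (↑w⁻¹ : Matrix (Fin n) (Fin n) L))
  have hPQ' : ∀ y, P (Q y) = y := fun y => by
    rw [← Matrix.toLin'_mul_apply, ← Matrix.mul_assoc, ← hw, Units.mul_inv, Matrix.toLin'_one, LinearMap.id_apply]
  let r : (Fin m → L) →ₗ[L] LinearMap.ker P :=
    LinearMap.codRestrict _ (LinearMap.id - Q ∘ₗ P) fun z => by simp [hPQ']
  have hr : ∀ x : LinearMap.ker P, r x = x := fun x => Subtype.ext (by
    simp [r, LinearMap.mem_ker.1 x.2])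
  refine ⟨LinearMap.ker P, inferInstance, inferInstance,
    Module.Finite.of_surjective r fun x => ⟨x, hr x⟩, ⟨?_⟩, ?_⟩
  · exact LinearEquiv.ofLinearMap ((LinearMap.ker P).subtype.coprod Q) (r.prod P)
      (LinearMap.ext fun z => by simp [r])
      (LinearMap.ext fun x => by
        obtain ⟨x, y⟩ := x
        have hx : P x.1 = 0 := LinearMap.mem_ker.1 x.2
        refine Prod.ext (Subtype.ext ?_) ?_
        · simp [r, hx, hPQ']
        · simp [hx, hPQ'])
  -- the base change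
  set P' := Matrix.toLin' (P₀.map (algebraMap L L')) with hP'
  have hPm : ∀ x : Fin m → L, P' (fun i => algebraMap L L' (x i)) = fun j => algebraMap L L' (P x j) :=
    fun x => funext fun j => by
      simp [P, P', Matrix.toLin'_apply, Matrix.mulVec, dotProduct, map_sum]
  let F₀ : L' ⊗[L] LinearMap.ker P →ₗ[L'] (Fin m → L') :=
    LinearMap.pi fun i => coord (LinearMap.ker P).subtype i
  have hF₀ : ∀ a (x : LinearMap.ker P), F₀ (a ⊗ₜ[L] x) = a • fun i => algebraMap L L' (x.1 i) :=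
    fun a x => funext fun i => by simp [F₀, coord_tmul, mul_comm]
  have hF₀mem : ∀ z, F₀ z ∈ LinearMap.ker P' := by
    intro z
    rw [LinearMap.mem_ker]
    induction z with
    | zero => simp
    | add y z hy hz => rw [map_add, map_add, hy, hz, add_zero]
    | tmul a x =>
      rw [hF₀, map_smul, hPm, LinearMap.mem_ker.1 x.2]
      ext j; simp
  let G : (Fin m → L') →ₗ[L'] L' ⊗[L] LinearMap.ker P :=
    Fintype.linearCombination L' fun i => (1 : L') ⊗ₜ[L] r (Pi.single i 1)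
  have hcols : ∀ i : Fin m, F₀ ((1 : L') ⊗ₜ[L] r (Pi.single i 1)) =
      fun j => algebraMap L L' (((1 : Matrix (Fin m) (Fin m) L) - Q₀ * (↑w⁻¹ : Matrix (Fin n) (Fin n) L) * P₀) j i) := by
    intro i
    rw [hF₀, one_smul]
    funext j
    congr 1
    simp only [r, LinearMap.codRestrict_apply, LinearMap.sub_apply, LinearMap.id_apply,
      LinearMap.comp_apply, Pi.sub_apply, Matrix.sub_apply]
    rw [← Matrix.toLin'_mul_apply, Matrix.toLin'_apply, Matrix.mulVec_single_one, Matrix.one_apply,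
      Pi.single_apply]
    rfl
  let E₁ : L' ⊗[L] LinearMap.ker P ≃ₗ[L'] LinearMap.ker P' :=
    LinearEquiv.ofLinearMap (LinearMap.codRestrict _ F₀ hF₀mem) (G ∘ₗ (LinearMap.ker P').subtype)
      (LinearMap.ext fun z => Subtype.ext (by
        show F₀ (G z.1) = z.1
        rw [Fintype.linearCombination_apply, map_sum]
        simp only [map_smul, hcols]
        have hz : (P₀.map (algebraMap L L')).mulVec z.1 = 0 := by
          have hz0 : P' z.1 = 0 := LinearMap.mem_ker.1 z.2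
          exact (Matrix.toLin'_apply _ _).symm.trans hz0
        have : ((1 - Q₀ * (↑w⁻¹ : Matrix (Fin n) (Fin n) L) * P₀).map (algebraMap L L')).mulVec z.1 = z.1 := by
          rw [Matrix.map_sub _ (map_sub _), Matrix.map_one _ (map_zero _) (map_one _), Matrix.map_mul,
            Matrix.sub_mulVec, ← Matrix.mulVec_mulVec, hz, Matrix.mulVec_zero, Matrix.one_mulVec, sub_zero]
        conv_rhs => rw [← this]
        funext j
        simp [Matrix.mulVec, dotProduct, mul_comm]))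
      (by
        refine LinearMap.ext fun z => ?_
        show G (F₀ z) = z
        induction z with
        | zero => simp
        | add y z hy hz => rw [map_add, map_add, hy, hz]
        | tmul a x =>
          rw [hF₀, map_smul, Fintype.linearCombination_apply]
          conv_rhs => rw [← mul_one a, ← smul_eq_mul a (1 : L'), ← TensorProduct.smul_tmul',
            ← hr x, pi_eq_sum_univ' x.1, map_sum, tmul_sum]
          congr 1
          refine Finset.sum_congr rfl fun i _ => ?_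
          rw [map_smul, tmul_smul, IsScalarTower.algebraMap_smul])
  -- compare the two kernels
  have hu' : IsUnit (P₀.map (algebraMap L L') * LinearMap.toMatrix' Qh) := isUnit_matrix' Λ (by
    rw [← h1]
    exact close_mul Λ bP hP₀ bQ (d := (K : ℤ)) (fun i j => by simp) (by omega) (by omega) (by omega))
  obtain ⟨z, hz⟩ := hu'
  let Zi := Matrix.toLin' (↑z⁻¹ : Matrix (Fin n) (Fin n) L')
  have hZi : ∀ y, P' (Qh (Zi y)) = y := fun y => by
    conv_lhs => rw [← Matrix.toLin'_toMatrix' Qh, ← Matrix.toLin'_mul_apply, ← Matrix.toLin'_mul_apply,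
      ← hz, Units.mul_inv, Matrix.toLin'_one]
    rfl
  have hZi' : ∀ y, Zi (P' (Qh y)) = y := fun y => by
    conv_lhs => rw [← Matrix.toLin'_toMatrix' Qh, ← Matrix.toLin'_mul_apply, ← Matrix.toLin'_mul_apply,
      Matrix.mul_assoc, ← hz, Units.inv_mul, Matrix.toLin'_one]
    rfl
  let E₂ : LinearMap.ker P' ≃ₗ[L'] LinearMap.ker Ph := LinearEquiv.ofLinearMap
    (LinearMap.codRestrict _ ((LinearMap.id - Qh ∘ₗ Ph) ∘ₗ (LinearMap.ker P').subtype) fun x => by
      simp [LinearMap.mem_ker, Ph, Qh])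
    (LinearMap.codRestrict _ ((LinearMap.id - Qh ∘ₗ Zi ∘ₗ P') ∘ₗ (LinearMap.ker Ph).subtype) fun x => by
      simp [LinearMap.mem_ker, hZi])
    (LinearMap.ext fun x => Subtype.ext (by
      have hx : Ph x.1 = 0 := LinearMap.mem_ker.1 x.2
      have : ∀ y, Ph (Qh y) = y := fun y => DFunLike.congr_fun hPQ y
      show (LinearMap.id - Qh ∘ₗ Ph : (Fin m → L') →ₗ[L'] (Fin m → L')) ((LinearMap.id - Qh ∘ₗ Zi ∘ₗ P' : (Fin m → L') →ₗ[L'] (Fin m → L')) x.1) = x.1
      simp [hx, this]))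
    (LinearMap.ext fun x => Subtype.ext (by
      have hx : P' x.1 = 0 := LinearMap.mem_ker.1 x.2
      show (LinearMap.id - Qh ∘ₗ Zi ∘ₗ P' : (Fin m → L') →ₗ[L'] (Fin m → L')) ((LinearMap.id - Qh ∘ₗ Ph : (Fin m → L') →ₗ[L'] (Fin m → L')) x.1) = x.1
      simp [hx, hZi']))
  let E₃ : LinearMap.ker Ph ≃ₗ[L'] M' := LinearEquiv.ofLinearMap
    (LinearMap.fst L' M' _ ∘ₗ e.symm.toLinearMap ∘ₗ (LinearMap.ker Ph).subtype)
    (LinearMap.codRestrict _ (e.toLinearMap ∘ₗ LinearMap.inl L' M' _) fun x => by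
      simp [LinearMap.mem_ker, Ph])
    (LinearMap.ext fun x => by
      show (e.symm (e (x, (0 : Fin n → L')))).1 = x
      simp)
    (LinearMap.ext fun x => Subtype.ext (by
      have hx : (e.symm x.1).2 = 0 := LinearMap.mem_ker.1 x.2
      show e ((e.symm x.1).1, (0 : Fin n → L')) = x.1
      conv_rhs => rw [← e.apply_symm_apply x.1]
      congr 1
      exact Prod.ext rfl hx.symm))
  exact ⟨E₁.trans (E₂.trans E₃)⟩

end Groth.Calg7.DenseApprox
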