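import Mathlib

/-! Idempotents of `A[1/t]` along a map that is an isomorphism modulo all powers of `t`. -/

set_option autoImplicit false

namespace Groth.Calg7.IdemAway

universe u v

/-- in a commutative ring, two idempotents whose difference lies in a multiple `t·(image)` agree -/
theorem eq_of_sub_mem {A L : Type*} [CommRing A] [CommRing L] (φ : A →+* L) (t : A)
    (ht : t ∈ (⊥ : Ideal A).jacobson) {e e' : L} (he : IsIdempotentElem e) (he' : IsIdempotentElem e')
    (y : A) (h : e - e' = φ (t * y)) : e = e' := by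
  have hd : (e - e') * (1 - (e - e') * (e - e')) = 0 := by
    have h1 := he.eq; have h2 := he'.eq
    linear_combination (e' * 3 - e - 1) * h1 - (3 * e - e' - 1) * h2
  have hu : IsUnit (1 - (e - e') * (e - e')) := by
    have hm : t * y * (t * y) ∈ (⊥ : Ideal A).jacobson := by
      rw [show t * y * (t * y) = t * (y * t * y) by ring]
      exact Ideal.mul_mem_right _ _ ht
    have := (Ideal.mem_jacobson_bot.1 hm (-1)).map φ
    rw [h]
    have e1 : φ (t * y * (t * y) * (-1) + 1) = 1 - φ (t * y) * φ (t * y) := by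
      simp only [map_add, map_mul, map_neg, map_one]; ring
    rwa [e1] at this
  exact sub_eq_zero.1 (hu.mul_left_eq_zero.1 hd)

variable {A : Type u} {A' : Type v} [CommRing A] [CommRing A'] (φ : A →+* A') (t : A)

/-- `φ` is bijective modulo all powers of `t`. -/
structure IsoModPowers : Prop where
  inj : ∀ (N : ℕ) (a : A), φ a ∈ Ideal.span {φ t ^ N} → a ∈ Ideal.span {t ^ N}
  surj : ∀ (N : ℕ) (x : A'), ∃ a : A, x - φ a ∈ Ideal.span {φ t ^ N}

theorem existsUnique_idem [HenselianRing A (Ideal.span {t})] (h : IsoModPowers φ t)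
    (ht' : φ t ∈ (⊥ : Ideal A').jacobson)
    (e : Localization.Away (φ t)) (he : IsIdempotentElem e) :
    ∃! e₀ : Localization.Away t, IsIdempotentElem e₀ ∧ Localization.awayMap φ t e₀ = e := by
  have ht : t ∈ (⊥ : Ideal A).jacobson :=
    HenselianRing.jac (Ideal.mem_span_singleton_self t)
  set F := Localization.awayMap φ t
  have hFa : ∀ a : A, F (algebraMap A (Localization.Away t) a) = algebraMap A' (Localization.Away (φ t)) (φ a) := fun a => by
    simp [F, Localization.awayMap, IsLocalization.Away.map, IsLocalization.map_eq]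
  have htL : IsUnit (algebraMap A (Localization.Away t) t) := IsLocalization.Away.algebraMap_isUnit t
  have htL' : IsUnit (algebraMap A' (Localization.Away (φ t)) (φ t)) := IsLocalization.Away.algebraMap_isUnit _
  -- uniqueness
  have uniq : ∀ e₀ e₁ : (Localization.Away t), IsIdempotentElem e₀ → IsIdempotentElem e₁ → F e₀ = F e₁ → e₀ = e₁ := by
    intro e₀ e₁ h₀ h₁ h01
    obtain ⟨⟨x, ⟨_, n, rfl⟩⟩, hx⟩ := IsLocalization.surj (Submonoid.powers t) (e₀ - e₁)
    have hz : algebraMap A' (Localization.Away (φ t)) (φ x) = algebraMap A' (Localization.Away (φ t)) 0 := by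
      rw [← hFa, ← hx, map_mul, map_sub, h01, sub_self, zero_mul, map_zero]
    obtain ⟨⟨_, m, rfl⟩, hm⟩ := (IsLocalization.eq_iff_exists (Submonoid.powers (φ t)) (Localization.Away (φ t))).1 hz
    simp only [mul_zero] at hm
    obtain ⟨y, hy⟩ := Ideal.mem_span_singleton.1 (h.inj (m + n + 1) (t ^ m * x) (by
      rw [map_mul, map_pow, hm]; exact zero_mem _))
    refine eq_of_sub_mem (algebraMap A (Localization.Away t)) t ht h₀ h₁ y ?_
    refine (htL.pow (m + n)).mul_left_cancel ?_
    simp only [← map_pow, ← map_mul] at hx ⊢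
    calc algebraMap A (Localization.Away t) (t ^ (m + n)) * (e₀ - e₁)
        = algebraMap A (Localization.Away t) (t ^ m) * ((e₀ - e₁) * algebraMap A (Localization.Away t) (t ^ n)) := by
          rw [pow_add, map_mul]; ring
      _ = algebraMap A (Localization.Away t) (t ^ (m + n) * (t * y)) := by
          rw [hx, ← map_mul, hy]; congr 1; ring
  -- existence
  obtain ⟨⟨a, ⟨_, n₀, rfl⟩⟩, ha⟩ := IsLocalization.surj (Submonoid.powers (φ t)) e
  simp only at ha
  have hz : algebraMap A' (Localization.Away (φ t)) (a * a) = algebraMap A' (Localization.Away (φ t)) (φ t ^ n₀ * a) := by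
    rw [map_mul, map_mul, ← ha]
    linear_combination (algebraMap A' (Localization.Away (φ t)) (φ t ^ n₀) * algebraMap A' (Localization.Away (φ t)) (φ t ^ n₀)) * he.eq
  obtain ⟨⟨_, m, rfl⟩, hm⟩ := (IsLocalization.eq_iff_exists (Submonoid.powers (φ t)) (Localization.Away (φ t))).1 hz
  simp only at hm
  obtain ⟨n, a', ha', hsq⟩ : ∃ (n : ℕ) (a' : A'),
      e * algebraMap A' (Localization.Away (φ t)) (φ t ^ n) = algebraMap A' (Localization.Away (φ t)) a' ∧ a' * a' = φ t ^ n * a' := by
    refine ⟨n₀ + m, a * φ t ^ m, ?_, ?_⟩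
    · rw [pow_add, map_mul, map_mul, ← mul_assoc, ha]
    · linear_combination φ t ^ m * hm
  obtain ⟨a₀, ha₀⟩ := h.surj (3 * n + 1) a'
  obtain ⟨w, hw⟩ := Ideal.mem_span_singleton.1 ha₀
  have hc : φ (a₀ * a₀ - t ^ n * a₀) ∈ Ideal.span {φ t ^ (3 * n + 1)} := by
    refine Ideal.mem_span_singleton.2 ⟨-(w * (a' + φ a₀ - φ t ^ n)), ?_⟩
    simp only [map_sub, map_mul, map_pow]
    linear_combination hsq - (a' + φ a₀ - φ t ^ n) * hw
  obtain ⟨c', hc'⟩ := Ideal.mem_span_singleton.1 (h.inj _ _ hc)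
  obtain ⟨c, hc3⟩ : ∃ c, a₀ * a₀ - t ^ n * a₀ = t ^ (3 * n) * (t * c) := ⟨c', by
    rw [hc', pow_succ]; ring⟩
  obtain ⟨u, hu⟩ : IsUnit (1 + 4 * t ^ n * (t * c)) := by
    have := Ideal.mem_jacobson_bot.1 ht (4 * t ^ n * c)
    convert this using 1; ring
  -- quadratic
  let f : Polynomial A := Polynomial.X ^ 2 + Polynomial.X + Polynomial.C (t * (t ^ n * c * ↑u⁻¹))
  have hmon : f.Monic := by
    simp only [f]; monicity!
  obtain ⟨r, hr, hr0⟩ := HenselianRing.is_henselian (I := Ideal.span {t}) f hmon 0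
    (by simpa [f] using Ideal.mem_span_singleton.2 (dvd_mul_right t (t ^ n * c * ↑u⁻¹)))
    (by simp [f])
  obtain ⟨r', hr'⟩ := Ideal.mem_span_singleton.1 (sub_zero r ▸ hr0)
  obtain ⟨v, hv⟩ : IsUnit (1 + r) := by
    have := Ideal.mem_jacobson_bot.1 ht r'
    convert this using 1
    rw [hr']; ring
  have hrr : r ^ 2 + r + t * (t ^ n * c * ↑u⁻¹) = 0 := by simpa [f, Polynomial.IsRoot] using hr
  set z := -(t * c * ↑u⁻¹ * ↑v⁻¹) with hzdef
  have hvv : (↑v⁻¹ : A) * (1 + r) = 1 := by rw [← hv]; exact v.inv_mul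
  have huu : (↑u⁻¹ : A) * (1 + 4 * t ^ n * (t * c)) = 1 := by rw [← hu]; exact u.inv_mul
  have hzw : t ^ n * z = r := by
    rw [hzdef]; linear_combination (-(↑v⁻¹ : A)) * hrr + r * hvv
  have hzeq : t * c + (1 + 4 * t ^ n * (t * c)) * z + t ^ n * (1 + 4 * t ^ n * (t * c)) * z ^ 2 = 0 := by
    linear_combination (1 + 4 * t ^ n * (t * c)) * z * hzw +
      (1 + 4 * t ^ n * (t * c)) * (1 + r) * hzdef -
      (t * c * (1 + 4 * t ^ n * (t * c)) * ↑u⁻¹) * hvv - t * c * huu
  set b := a₀ + t ^ n * (2 * a₀ - t ^ n) * z with hb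
  have hbb : b * b = t ^ n * b := by
    rw [hb, ← sub_eq_zero]
    linear_combination (1 + 4 * t ^ n * z * (1 + t ^ n * z)) * hc3 + t ^ (3 * n) * hzeq
  obtain ⟨e₀, he₀⟩ : ∃ e₀ : (Localization.Away t), e₀ * algebraMap A (Localization.Away t) (t ^ n) = algebraMap A (Localization.Away t) b :=
    ⟨IsLocalization.mk' (Localization.Away t) b (⟨t ^ n, n, rfl⟩ : Submonoid.powers t), IsLocalization.mk'_spec _ _ _⟩
  have he₀i : IsIdempotentElem e₀ := by
    have hun := htL.pow n
    rw [← map_pow] at hun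
    refine (hun.mul hun).mul_right_cancel ?_
    calc e₀ * e₀ * (algebraMap A (Localization.Away t) (t ^ n) * algebraMap A (Localization.Away t) (t ^ n))
        = algebraMap A (Localization.Away t) (b * b) := by rw [map_mul, ← he₀]; ring
      _ = e₀ * (algebraMap A (Localization.Away t) (t ^ n) * algebraMap A (Localization.Away t) (t ^ n)) := by
        rw [hbb, map_mul, ← he₀]; ring
  have hFe₀ : F e₀ = e := by
    obtain ⟨y, hy⟩ : ∃ y : A', φ b - a' = φ t ^ n * (φ t * y) := by
      refine ⟨φ ((2 * a₀ - t ^ n) * -(c * ↑u⁻¹ * ↑v⁻¹)) - φ t ^ (2 * n) * w, ?_⟩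
      rw [hb, hzdef]
      simp only [map_add, map_sub, map_mul, map_pow, map_neg, map_ofNat]
      linear_combination -hw
    have e1 : F e₀ * algebraMap A' (Localization.Away (φ t)) (φ t ^ n) = algebraMap A' (Localization.Away (φ t)) (φ b) := by
      rw [← map_pow φ, ← hFa, ← map_mul, he₀, hFa]
    refine eq_of_sub_mem (algebraMap A' (Localization.Away (φ t))) (φ t) ht' (he₀i.map F) he y ?_
    refine (show IsUnit (algebraMap A' (Localization.Away (φ t)) (φ t ^ n)) by rw [map_pow]; exact htL'.pow n).mul_right_cancel ?_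
    rw [sub_mul, e1, ha', ← map_sub, hy, ← map_mul]
    ring_nf
  exact ⟨e₀, ⟨he₀i, hFe₀⟩, fun e₁ he₁ => uniq _ _ he₁.1 he₀i (he₁.2.trans hFe₀.symm)⟩

end Groth.Calg7.IdemAway
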