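import Mathlib
import Groth.Agent.Calg7.DenseApprox
import Groth.Agent.Calg7.IdemAway

/-! The lattice of `A[1/t] → A'[1/t]` for a map bijective modulo all powers of `t`. -/

set_option autoImplicit false

namespace Groth.Calg7.DenseAway

universe u v

variable {A : Type u} {A' : Type v} [CommRing A] [CommRing A'] (φ : A →+* A') (t : A)

variable [Algebra (Localization.Away t) (Localization.Away (φ t))]

/-- the lattice -/
noncomputable def lattice (h : Groth.Calg7.IdemAway.IsoModPowers φ t) (ht : t ∈ (⊥ : Ideal A).jacobson)
    (ht' : φ t ∈ (⊥ : Ideal A').jacobson)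
    (halg : algebraMap (Localization.Away t) (Localization.Away (φ t)) = Localization.awayMap φ t) :
    Groth.Calg7.DenseApprox.Lattice (Localization.Away t) (Localization.Away (φ t)) :=
  have hι : ∀ a : A, algebraMap (Localization.Away t) (Localization.Away (φ t))
      (algebraMap A (Localization.Away t) a) = algebraMap A' (Localization.Away (φ t)) (φ a) := fun a => by
    simp [halg, Localization.awayMap, IsLocalization.Away.map, IsLocalization.map_eq]
  have hT : ∀ N : ℕ, algebraMap (Localization.Away t) (Localization.Away (φ t))
      ((↑(IsLocalization.Away.algebraMap_isUnit (S := Localization.Away t) t).unit : Localization.Away t) ^ N) =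
      algebraMap A' (Localization.Away (φ t)) (φ t ^ N) := fun N => by
    rw [IsUnit.unit_spec, ← map_pow, hι, map_pow φ]
  have hT1 : algebraMap (Localization.Away t) (Localization.Away (φ t))
      (↑(IsLocalization.Away.algebraMap_isUnit (S := Localization.Away t) t).unit : Localization.Away t) =
      algebraMap A' (Localization.Away (φ t)) (φ t) := by
    simpa using hT 1
  { S := (algebraMap A' (Localization.Away (φ t))).range
    T := (IsLocalization.Away.algebraMap_isUnit (S := Localization.Away t) t).unit
    T_mem := ⟨φ t, hT1.symm⟩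
    bounded := fun x => by
      obtain ⟨⟨a, ⟨_, k, rfl⟩⟩, hk⟩ := IsLocalization.surj (Submonoid.powers (φ t)) x
      exact ⟨k, a, by rw [hT, mul_comm]; exact hk.symm⟩
    dense := fun x hx N => by
      obtain ⟨a', rfl⟩ := hx
      obtain ⟨a, ha⟩ := h.surj N a'
      obtain ⟨w, hw⟩ := Ideal.mem_span_singleton.1 ha
      refine ⟨algebraMap A _ a, algebraMap A' _ (-w), ⟨_, rfl⟩, ?_⟩
      rw [hι, hT, ← map_sub, ← map_mul]
      congr 1
      linear_combination -hw
    unit := fun z ⟨s, hs, hz⟩ => by
      obtain ⟨b, rfl⟩ := hs
      obtain ⟨⟨a, ⟨_, n, rfl⟩⟩, ha⟩ := IsLocalization.surj (Submonoid.powers t) z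
      simp only at ha
      have h1 : algebraMap A' (Localization.Away (φ t)) (φ a) =
          algebraMap A' (Localization.Away (φ t)) (φ t ^ n * (1 + φ t * b)) := by
        rw [← hι, ← ha, map_mul, hι, map_pow φ, map_mul, map_add, map_one, map_mul, ← hT1]
        linear_combination (algebraMap A' (Localization.Away (φ t)) (φ t ^ n)) * hz
      obtain ⟨⟨_, m, rfl⟩, hm⟩ := (IsLocalization.eq_iff_exists (Submonoid.powers (φ t)) _).1 h1
      simp only at hm
      obtain ⟨c, hc⟩ := Ideal.mem_span_singleton.1 (h.inj (m + n + 1) (t ^ m * a - t ^ (m + n)) (by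
        refine Ideal.mem_span_singleton.2 ⟨b, ?_⟩
        rw [map_sub, map_mul, map_pow, map_pow, hm]
        ring))
      have hu : IsUnit (algebraMap A (Localization.Away t) (t * c + 1)) :=
        (Ideal.mem_jacobson_bot.1 ht c).map _
      refine isUnit_of_mul_isUnit_left (y := algebraMap A (Localization.Away t) (t ^ (m + n))) ?_
      rw [show z * algebraMap A (Localization.Away t) (t ^ (m + n)) =
          algebraMap A (Localization.Away t) (t ^ (m + n)) * algebraMap A (Localization.Away t) (t * c + 1) by
        rw [← map_mul, show t ^ (m + n) * (t * c + 1) = t ^ m * a by linear_combination -hc,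
          map_mul, ← ha, pow_add, map_mul]
        ring]
      exact (show IsUnit (algebraMap A (Localization.Away t) (t ^ (m + n))) by
        rw [map_pow]; exact (IsLocalization.Away.algebraMap_isUnit t).pow _).mul hu
    unit' := fun z ⟨s, hs, hz⟩ => by
      obtain ⟨b, rfl⟩ := hs
      rw [hT1, ← map_mul, sub_eq_iff_eq_add, ← map_one (algebraMap A' (Localization.Away (φ t))),
        ← map_add] at hz
      rw [hz]
      exact (Ideal.mem_jacobson_bot.1 ht' b).map _ }

end Groth.Calg7.DenseAway
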