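import Mathlib
import Groth.Agent.LocDual.CompleteQuotient
import Groth.Agent.Ega4Algebra2.CMUnmixed
import Groth.Agent.Calg4.RegularAscent

/-!
Components of dimension at least two along flat maps out of complete local domains.
-/

set_option autoImplicit false

namespace Groth.Calg7.DimTwoFlat

open IsLocalRing TensorProduct RingTheory.Sequence
open scoped Pointwise

universe u

theorem two_le_dim_of_regular_pair {R : Type u} [CommRing R] [IsLocalRing R] [IsNoetherianRing R]
    {N : Type u} [AddCommGroup N] [Module R N] [Module.Finite R N] {x y : R}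
    (hxm : x ∈ maximalIdeal R) (hym : y ∈ maximalIdeal R)
    (hx : IsSMulRegular N x) (hy : IsSMulRegular (QuotSMulTop x N) y)
    {q : Ideal R} (hq : q ∈ associatedPrimes R N) : (2 : WithBot ℕ∞) ≤ ringKrullDim (R ⧸ q) := by
  rw [AssociatedPrimes.mem_iff, isAssociatedPrime_iff] at hq
  obtain ⟨hqp, z, hz⟩ := hq
  have hz0 : z ≠ 0 := fun h => hqp.ne_top (by simp [hz, h])
  have hxq : x ∉ q := fun h => by
    rw [hz, Submodule.mem_colon_singleton, Submodule.mem_bot] at h
    exact hz0 (hx (by simpa using h))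
  let K : Submodule R N := Submodule.torsionBySet R N (q : Set R)
  obtain ⟨n, hnK, hn⟩ : ∃ n ∈ K, Submodule.Quotient.mk (p := x • (⊤ : Submodule R N)) n ≠ 0 := by
    by_contra hc
    push Not at hc
    have hle : K ≤ maximalIdeal R • K := fun n hn => by
      obtain ⟨n', -, hn'⟩ := Submodule.mem_smul_pointwise_iff_exists _ _ _ |>.1
        ((Submodule.Quotient.mk_eq_zero _).1 (hc n hn))
      have hn'K : n' ∈ K := (Submodule.mem_torsionBySet_iff _ _).2 fun a => hx (by
        show x • ((a : R) • n') = x • 0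
        rw [smul_zero, smul_comm, hn']
        exact (Submodule.mem_torsionBySet_iff _ _).1 hn a)
      exact hn' ▸ Submodule.smul_mem_smul hxm hn'K
    have := Submodule.eq_bot_of_le_smul_of_le_jacobson_bot (maximalIdeal R) K (IsNoetherian.noetherian K) hle
      (maximalIdeal_le_jacobson _)
    have hzK : z ∈ K := (Submodule.mem_torsionBySet_iff _ _).2 fun a => by
      have ha := hz.le a.2
      rwa [Submodule.mem_colon_singleton, Submodule.mem_bot] at ha
    exact hz0 (by rwa [this, Submodule.mem_bot] at hzK)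
  obtain ⟨P, hP, hle⟩ := exists_le_isAssociatedPrime_of_isNoetherianRing R
    (Submodule.Quotient.mk (p := x • (⊤ : Submodule R N)) n) hn
  have hxP : x ∈ P := hle (by
    rw [Submodule.mem_colon_singleton, Submodule.mem_bot, ← Submodule.Quotient.mk_smul, Submodule.Quotient.mk_eq_zero]
    exact Submodule.smul_mem_pointwise_smul _ _ _ trivial)
  have hqP : q ≤ P := fun a ha => hle (by
    rw [Submodule.mem_colon_singleton, Submodule.mem_bot, ← Submodule.Quotient.mk_smul,
      (Submodule.mem_torsionBySet_iff _ _).1 hnK ⟨a, ha⟩, Submodule.Quotient.mk_zero])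
  rw [isAssociatedPrime_iff] at hP
  obtain ⟨hPp, w, hw⟩ := hP
  have hyP : y ∉ P := fun h => hPp.ne_top (by
    rw [hw, Submodule.mem_colon_singleton, Submodule.mem_bot] at h
    have : w = 0 := hy (by simpa using h)
    simp [hw, this])
  haveI := hqp; haveI := hPp
  rw [ringKrullDim_quotient]
  let c : LTSeries (PrimeSpectrum.zeroLocus (R := R) (q : Set R)) :=
    { length := 2
      toFun := ![⟨⟨q, hqp⟩, fun a ha => ha⟩, ⟨⟨P, hPp⟩, fun a ha => hqP ha⟩, ⟨⟨maximalIdeal R, inferInstance⟩, fun a ha => le_maximalIdeal hqp.ne_top ha⟩]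
      step := fun i => by
        have h1 : q < P := lt_of_le_of_ne hqP fun h => hxq (h ▸ hxP)
        have h2 : P < maximalIdeal R := lt_of_le_of_ne (le_maximalIdeal hPp.ne_top) fun h => hyP (h ▸ hym)
        fin_cases i
        · exact h1
        · exact h2 }
  exact Order.LTSeries.length_le_krullDim c

theorem exists_module (A : Type u) [CommRing A] [IsDomain A] [IsLocalRing A] [IsNoetherianRing A]
    [IsAdicComplete (maximalIdeal A) A] (hd : (2 : WithBot ℕ∞) ≤ ringKrullDim A) :
    ∃ (M : Type u) (_ : AddCommGroup M) (_ : Module A M), Module.Finite A M ∧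
      (∃ x ∈ maximalIdeal A, ∃ y ∈ maximalIdeal A, IsWeaklyRegular M [x, y]) ∧
      ∃ z : M, ∀ a : A, a ≠ 0 → a • z ≠ 0 := by
  obtain ⟨S, _, _, π, hπ⟩ := Groth.LocDual.exists_regularLocal_surjection A
  let P := RingHom.ker π
  haveI hPp : P.IsPrime := RingHom.ker_isPrime π
  let e : S ⧸ P ≃+* A := RingHom.quotientKerEquivOfSurjective hπ
  obtain ⟨J, hJP, hJs, hJh⟩ := Ideal.exists_spanRank_eq_and_height_eq P hPp.ne_top
  obtain ⟨c, hc⟩ := ENat.ne_top_iff_exists.1 (Ideal.height_ne_top hPp.ne_top)
  have hfg : J.FG := IsNoetherian.noetherian J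
  let l : List S := (Submodule.FG.finite_generators hfg).toFinset.toList
  have hl : Ideal.ofList l = J := by
    conv_rhs => rw [← Submodule.span_generators J]
    exact congrArg Ideal.span (by ext s; simp [l])
  have hlen : l.length = c := by
    rw [Finset.length_toList, ← Set.ncard_eq_toFinset_card _ (Submodule.FG.finite_generators hfg), Submodule.FG.generators_ncard hfg,
      Submodule.spanFinrank, hJs, ← hc]
    simp
  have hm : ∀ s ∈ l, s ∈ maximalIdeal S := fun s hs =>
    le_maximalIdeal hPp.ne_top (hJP (hl ▸ Ideal.subset_span hs))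
  have hne : J ≠ ⊤ := fun h => hPp.ne_top (top_le_iff.1 (h ▸ hJP))
  have hS : LocCoh.IsCohenMacaulayModule S S :=
    Groth.Calg6.isCohenMacaulayModule_of_isRegularLocalRing S
  have he : Ideal.ofList l • (⊤ : Submodule S S) = J := by rw [smul_eq_mul, Ideal.mul_top, hl]
  have hreg : IsWeaklyRegular S l := by
    refine Groth.Calg6.isWeaklyRegular_of_supportDim_add_length_le l S hS hm ?_
    rw [Module.supportDim_eq_of_equiv (Submodule.quotEquivOfEq _ _ he),
      Module.supportDim_quotient_eq_ringKrullDim, Module.supportDim_self_eq_ringKrullDim]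
    refine le_trans ?_ (Groth.Ega4b.ringKrullDim_quotient_add_height_le hne)
    gcongr
    rw [hJh, ← hc, hlen]
    simp
  have hCM : LocCoh.IsCohenMacaulayModule S (S ⧸ J) :=
    (Groth.Ega4b.isCM_congr (Submodule.quotEquivOfEq _ _ he)).mp
      (Groth.Ega4b.isCM_quotient_ofList l S hS hm hreg)
  have hdim : (2 : WithBot ℕ∞) ≤ ((LocCoh.depth S (S ⧸ J) : ℕ∞) : WithBot ℕ∞) := by
    rw [← hCM, Module.supportDim_quotient_eq_ringKrullDim]
    refine hd.trans (ringKrullDim_le_of_surjective (e.toRingHom.comp (Ideal.Quotient.factor hJP)) ?_)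
    exact e.surjective.comp (Ideal.Quotient.factor_surjective hJP)
  obtain ⟨x, y, hxy, hxm, hym⟩ : ∃ x y, IsWeaklyRegular (S ⧸ J) [x, y] ∧ x ∈ maximalIdeal S ∧ y ∈ maximalIdeal S := by
    have h2 : (1 : ℕ∞) < LocCoh.depth S (S ⧸ J) := by
      refine lt_of_lt_of_le ?_ (WithBot.coe_le_coe.1 hdim)
      exact_mod_cast one_lt_two
    rw [LocCoh.depth, LocCoh.idealDepth] at h2
    split at h2
    next htop =>
      exfalso
      haveI : Nontrivial (S ⧸ J) := Ideal.Quotient.nontrivial_iff.2 hne
      exact Groth.LocCohBase.smul_maximalIdeal_ne_top (S ⧸ J) (maximalIdeal.isMaximal S).ne_top htop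
    next =>
      obtain ⟨rs, h3⟩ := lt_iSup_iff.1 h2
      obtain ⟨⟨hw, hmem⟩, h4⟩ := lt_iSup_iff.1 h3
      match rs, hw, hmem, h4 with
      | [], _, _, h4 => simp at h4
      | [_], _, _, h4 => simp at h4
      | x :: y :: t, hw, hmem, _ =>
        refine ⟨x, y, ?_, hmem x (by simp), hmem y (by simp)⟩
        simp only [isWeaklyRegular_cons_iff] at hw ⊢
        exact ⟨hw.1, hw.2.1, IsWeaklyRegular.nil _ _⟩
  have hmin : P ∈ J.minimalPrimes := by
    refine ⟨⟨hPp, hJP⟩, fun Q ⟨hQ, hJQ⟩ hQP => ?_⟩
    by_contra hne'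
    have h1 : Q < P := lt_of_le_of_ne hQP fun h => hne' h.ge
    have h2 := Ideal.height_strict_mono_of_isPrime_of_isPrime h1
    rw [← hJh] at h2
    exact (Ideal.height_mono hJQ).not_gt h2
  have hass : P ∈ associatedPrimes S (S ⧸ J) :=
    Module.associatedPrimes.minimalPrimes_annihilator_subset_associatedPrimes _ _ (by rwa [Ideal.annihilator_quotient])
  rw [AssociatedPrimes.mem_iff, isAssociatedPrime_iff] at hass
  obtain ⟨-, z, hz⟩ := hass
  let M := Submodule.torsionBySet S (S ⧸ J) (P : Set S)
  letI : Module A M := Module.compHom M e.symm.toRingHom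
  have hsmul : ∀ (s : S) (m : M), π s • m = s • m := fun s m => by
    show e.symm (π s) • m = s • m
    rw [show π s = e (Ideal.Quotient.mk P s) from rfl, RingEquiv.symm_apply_apply]
    rfl
  have hfin : Module.Finite A M := by
    obtain ⟨s, hs⟩ := (IsNoetherian.noetherian (⊤ : Submodule S M))
    refine ⟨⟨s, eq_top_iff.2 fun m _hm => ?_⟩⟩
    clear _hm
    have hm : m ∈ Submodule.span S (s : Set M) := hs ▸ trivial
    induction hm using Submodule.span_induction with
    | mem m hm => exact Submodule.subset_span hm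
    | zero => exact zero_mem _
    | add a b _ _ ha hb => exact add_mem ha hb
    | smul r a _ ha => rw [← hsmul]; exact Submodule.smul_mem _ _ ha
  refine ⟨M, inferInstance, inferInstance, hfin, ⟨π x, ?_, π y, ?_, ?_⟩,
    ⟨z, (Submodule.mem_torsionBySet_iff _ _).2 fun a => ?_⟩, fun a ha h => ?_⟩
  · exact fun h => hxm (by
      haveI : IsLocalHom π := IsLocalRing.local_hom_TFAE π |>.out 0 2 |>.2
        (Ideal.map_le_iff_le_comap.2 (eq_maximalIdeal (Ideal.comap_isMaximal_of_surjective π hπ (K := maximalIdeal A))).ge)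
      exact (isUnit_map_iff π x).1 h)
  · exact fun h => hym (by
      haveI : IsLocalHom π := IsLocalRing.local_hom_TFAE π |>.out 0 2 |>.2
        (Ideal.map_le_iff_le_comap.2 (eq_maximalIdeal (Ideal.comap_isMaximal_of_surjective π hπ (K := maximalIdeal A))).ge)
      exact (isUnit_map_iff π y).1 h)
  · simp only [isWeaklyRegular_cons_iff] at hxy ⊢
    obtain ⟨hx, hy, -⟩ := hxy
    refine ⟨fun a b h => ?_, ?_, IsWeaklyRegular.nil _ _⟩
    · apply Subtype.coe_injective
      refine hx ?_
      simpa [hsmul] using congrArg Subtype.val h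
    · rw [isSMulRegular_iff_right_eq_zero_of_smul] at hy ⊢
      intro m hm
      obtain ⟨m, rfl⟩ := Submodule.Quotient.mk_surjective _ m
      rw [← Submodule.Quotient.mk_smul, Submodule.Quotient.mk_eq_zero, hsmul,
        Submodule.mem_smul_pointwise_iff_exists] at hm
      obtain ⟨m', -, hm'⟩ := hm
      rw [hsmul] at hm'
      have h1 : y • Submodule.Quotient.mk (p := x • (⊤ : Submodule S (S ⧸ J))) (m : S ⧸ J) = 0 := by
        rw [← Submodule.Quotient.mk_smul, Submodule.Quotient.mk_eq_zero, Submodule.mem_smul_pointwise_iff_exists]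
        exact ⟨m', trivial, congrArg Subtype.val hm'⟩
      have h2 := hy _ h1
      rw [Submodule.Quotient.mk_eq_zero, Submodule.mem_smul_pointwise_iff_exists] at h2
      obtain ⟨w, -, hw⟩ := h2
      have hwM : w ∈ M := (Submodule.mem_torsionBySet_iff _ _).2 fun a => hx (by
        show x • ((a : S) • w) = x • 0
        rw [smul_zero, smul_comm, hw]
        exact (Submodule.mem_torsionBySet_iff _ _).1 m.2 a)
      rw [Submodule.Quotient.mk_eq_zero, Submodule.mem_smul_pointwise_iff_exists]
      exact ⟨⟨w, hwM⟩, trivial, by rw [hsmul]; exact Subtype.ext hw⟩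
  · have := hz.le a.2
    rwa [Submodule.mem_colon_singleton, Submodule.mem_bot] at this
  · obtain ⟨s, rfl⟩ := hπ a
    rw [hsmul] at h
    have h1 : s • z = 0 := congrArg Subtype.val h
    exact ha (show s ∈ P from hz ▸ Submodule.mem_colon_singleton.2 ((Submodule.mem_bot S).2 h1))

theorem two_le_dim_component (A B : Type u) [CommRing A] [IsDomain A] [IsLocalRing A] [IsNoetherianRing A]
    [IsAdicComplete (maximalIdeal A) A] [CommRing B] [IsLocalRing B] [IsNoetherianRing B] [Algebra A B]
    [IsLocalHom (algebraMap A B)] [Module.Flat A B] (hd : (2 : WithBot ℕ∞) ≤ ringKrullDim A)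
    {q : Ideal B} (hq : q ∈ minimalPrimes B) : (2 : WithBot ℕ∞) ≤ ringKrullDim (B ⧸ q) := by
  obtain ⟨M, _, _, _, ⟨x, hx, y, hy, hreg⟩, z, hz⟩ := exists_module A hd
  have h1 : IsWeaklyRegular (B ⊗[A] M) ([x, y].map (algebraMap A B)) :=
    (isWeaklyRegular_map_algebraMap_iff _ _ _).2 (hreg.isWeaklyRegular_lTensor)
  simp only [List.map_cons, List.map_nil, isWeaklyRegular_cons_iff] at h1
  refine two_le_dim_of_regular_pair (N := B ⊗[A] M) (map_nonunit _ x hx) (map_nonunit _ y hy) h1.1 h1.2.1 ?_
  have hass : q ∈ associatedPrimes B B := Module.associatedPrimes.minimalPrimes_annihilator_subset_associatedPrimes _ _ (by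
    rw [Module.annihilator_eq_bot.2 inferInstance]; exact hq)
  refine IsAssociatedPrime.map_of_injective (((LinearMap.toSpanSingleton A M z).baseChange B).comp
    (AlgebraTensorModule.rid A B B).symm.toLinearMap) hass ?_
  have hinj : Function.Injective (LinearMap.toSpanSingleton A M z) := by
    rw [← LinearMap.ker_eq_bot, LinearMap.ker_eq_bot']
    exact fun a ha => by_contra fun h => hz a h ha
  exact (Module.Flat.lTensor_preserves_injective_linearMap (M := B) _ hinj).comp
    (AlgebraTensorModule.rid A B B).symm.injective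

end Groth.Calg7.DimTwoFlat
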