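import Mathlib

/-! The Eakin–Nagata theorem: a subring over which a Noetherian ring is finite is Noetherian. -/

set_option autoImplicit false

namespace Groth.Calg7.EakinNagata

universe u v

theorem isNoetherian_of_quotients {B : Type u} [CommRing B] {M : Type v} [AddCommGroup M] [Module B M]
    [Module.Finite B M]
    (h : ∀ (b : B) (N : Submodule B M), (∃ m : M, b • m ≠ 0) → (∀ m, b • m ∈ N) → IsNoetherian B (M ⧸ N)) :
    IsNoetherian B M := by
  classical
  obtain ⟨k, g, hg⟩ := Module.Finite.exists_fin' B M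
  let P : Submodule B M → Prop := fun N => ∀ b : B, (∀ m, b • m ∈ N) → ∀ m : M, b • m = 0
  obtain ⟨N, hN⟩ : ∃ N, Maximal P N := by
    obtain ⟨N, -, hN⟩ := zorn_le_nonempty₀ {N | P N} (fun c hc hchain y hy => by
      refine ⟨sSup c, fun b hb m => ?_, fun N hN => le_sSup hN⟩
      have hdir : DirectedOn (· ≤ ·) c := hchain.directedOn
      have hmem : ∀ i : Fin k, ∃ N ∈ c, b • g (Pi.single i 1) ∈ N := fun i =>
        (Submodule.mem_sSup_of_directed ⟨y, hy⟩ hdir).1 (hb _)
      choose Ni hNi hNim using hmem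
      obtain ⟨N₀, hN₀, hle⟩ : ∃ N₀ ∈ c, ∀ i, Ni i ≤ N₀ := by
        suffices ∀ s : Finset (Fin k), ∃ N₀ ∈ c, ∀ i ∈ s, Ni i ≤ N₀ by
          obtain ⟨N₀, h1, h2⟩ := this Finset.univ
          exact ⟨N₀, h1, fun i => h2 i (Finset.mem_univ i)⟩
        intro s
        induction s using Finset.induction with
        | empty => exact ⟨y, hy, by simp⟩
        | insert a s ha ih =>
          obtain ⟨N₀, h1, h2⟩ := ih
          obtain ⟨N₁, h3, h4, h5⟩ := hdir _ h1 _ (hNi a)
          refine ⟨N₁, h3, fun i hi => ?_⟩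
          rcases Finset.mem_insert.1 hi with rfl | hi
          · exact h5
          · exact (h2 i hi).trans h4
      refine hc hN₀ b (fun m => ?_) m
      obtain ⟨x, rfl⟩ := hg m
      rw [pi_eq_sum_univ' x, map_sum, Finset.smul_sum]
      refine N₀.sum_mem fun i _ => ?_
      rw [map_smul, smul_comm]
      exact N₀.smul_mem _ (hle i (hNim i))) ⊥ (fun b hb m => (Submodule.mem_bot B).1 (hb m))
    exact ⟨N, hN⟩
  haveI hNoeth : IsNoetherian B (M ⧸ N) := by
    refine ⟨fun S => ?_⟩
    by_cases hS : S = ⊥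
    · subst hS; exact Submodule.fg_bot
    obtain ⟨s, hsS, hs0⟩ := (Submodule.ne_bot_iff _).1 hS
    obtain ⟨m₀, rfl⟩ := N.mkQ_surjective s
    have hlt : N < N ⊔ Submodule.span B {m₀} := by
      refine lt_of_le_of_ne le_sup_left fun he => hs0 ((Submodule.Quotient.mk_eq_zero N).2 ?_)
      rw [he]
      exact Submodule.mem_sup_right (Submodule.mem_span_singleton_self _)
    have hnP : ¬ P (N ⊔ Submodule.span B {m₀}) := fun hP => hlt.not_ge (hN.2 hP hlt.le)
    simp only [P, not_forall] at hnP
    obtain ⟨b, hb, m, hbm⟩ := hnP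
    haveI := h b (N ⊔ Submodule.span B {m₀}) ⟨m, hbm⟩ hb
    let π : (M ⧸ N) →ₗ[B] M ⧸ (N ⊔ Submodule.span B {m₀}) := Submodule.factor le_sup_left
    have hker : LinearMap.ker π = Submodule.span B {N.mkQ m₀} := by
      ext x
      obtain ⟨x, rfl⟩ := N.mkQ_surjective x
      show Submodule.Quotient.mk x = (0 : M ⧸ (N ⊔ Submodule.span B {m₀})) ↔ _
      rw [Submodule.Quotient.mk_eq_zero, Submodule.mem_span_singleton, Submodule.mem_sup]
      constructor
      · rintro ⟨y, hy, z, hz, rfl⟩
        obtain ⟨a, rfl⟩ := Submodule.mem_span_singleton.1 hz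
        exact ⟨a, by rw [map_add, show N.mkQ y = 0 from (Submodule.Quotient.mk_eq_zero N).2 hy, zero_add, map_smul]⟩
      · rintro ⟨a, ha⟩
        refine ⟨x - a • m₀, (Submodule.Quotient.mk_eq_zero N).1 ?_, a • m₀,
          Submodule.smul_mem _ _ (Submodule.mem_span_singleton_self _), sub_add_cancel _ _⟩
        rw [Submodule.Quotient.mk_sub, Submodule.Quotient.mk_smul]
        exact sub_eq_zero.2 ha.symm
    refine Submodule.fg_of_fg_map_of_fg_inf_ker π (IsNoetherian.noetherian _) ?_
    rw [hker, inf_eq_right.2 ((Submodule.span_singleton_le_iff_mem _ _).2 hsS)]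
    exact Submodule.fg_span_singleton _
  let φ : B →ₗ[B] (Fin k → M ⧸ N) := LinearMap.toSpanSingleton B _ fun i => N.mkQ (g (Pi.single i 1))
  haveI : IsNoetherian B (LinearMap.range φ) := inferInstance
  haveI : IsNoetherian B (B ⧸ LinearMap.ker φ) := isNoetherian_of_linearEquiv φ.quotKerEquivRange.symm
  have hker : ∀ b ∈ LinearMap.ker φ, ∀ m : M, b • m = 0 := by
    intro b hb
    refine hN.1 b fun m => ?_
    obtain ⟨x, rfl⟩ := hg m
    rw [← Submodule.Quotient.mk_eq_zero, pi_eq_sum_univ' x, map_sum, Finset.smul_sum]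
    show N.mkQ _ = 0
    rw [map_sum]
    refine Finset.sum_eq_zero fun i _ => ?_
    have := congrFun (LinearMap.mem_ker.1 hb) i
    simp only [φ, LinearMap.toSpanSingleton_apply, Pi.smul_apply, Pi.zero_apply] at this
    rw [map_smul, map_smul, map_smul, smul_comm, this, smul_zero]
  let Ψ : (Fin k → B ⧸ LinearMap.ker φ) →ₗ[B] M := ∑ i : Fin k,
    ((LinearMap.ker φ).liftQ (LinearMap.toSpanSingleton B M (g (Pi.single i 1))) fun b hb => by
      simpa using hker b hb _) ∘ₗ LinearMap.proj i
  refine isNoetherian_of_surjective Ψ (LinearMap.range_eq_top.2 fun m => ?_)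
  obtain ⟨x, rfl⟩ := hg m
  refine ⟨fun i => Submodule.Quotient.mk (x i), ?_⟩
  conv_rhs => rw [pi_eq_sum_univ' x, map_sum]
  simp only [Ψ, LinearMap.coe_sum, Finset.sum_apply]
  refine Finset.sum_congr rfl fun i _ => ?_
  rw [map_smul]
  rfl

theorem isNoetherianRing_of_finite (B : Type u) (A : Type v) [CommRing B] [CommRing A] [Algebra B A]
    [FaithfulSMul B A] [Module.Finite B A] [IsNoetherianRing A] : IsNoetherianRing B := by
  have key : ∀ K : Ideal A, (∃ I : Ideal B, I.map (algebraMap B A) = K) → IsNoetherian B (A ⧸ K) := by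
    intro K
    induction K using WellFoundedGT.induction with
    | _ K ih =>
      rintro ⟨I, rfl⟩
      refine isNoetherian_of_quotients fun b N ⟨m, hm⟩ hN => ?_
      have hlt : I.map (algebraMap B A) < (I ⊔ Ideal.span {b}).map (algebraMap B A) := by
        refine lt_of_le_of_ne (Ideal.map_mono le_sup_left) fun he => hm ?_
        obtain ⟨a, rfl⟩ := Ideal.Quotient.mk_surjective m
        rw [← Ideal.Quotient.mk_eq_mk, ← Submodule.Quotient.mk_smul, Submodule.Quotient.mk_eq_zero, he,
          Algebra.smul_def]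
        exact Ideal.mul_mem_right _ _ (Ideal.mem_map_of_mem _ (Ideal.mem_sup_right (Ideal.mem_span_singleton_self b)))
      haveI := ih _ hlt ⟨_, rfl⟩
      -- the quotient by `N` is a quotient of the bigger one
      let ψ : A →ₗ[B] (A ⧸ I.map (algebraMap B A)) ⧸ N :=
        N.mkQ ∘ₗ (Ideal.Quotient.mkₐ B (I.map (algebraMap B A))).toLinearMap
      have hψ : ((I ⊔ Ideal.span {b}).map (algebraMap B A)).restrictScalars B ≤ LinearMap.ker ψ := by
        intro x hx
        rw [Submodule.restrictScalars_mem, Ideal.map_sup, Submodule.mem_sup] at hx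
        obtain ⟨y, hy, z, hz, rfl⟩ := hx
        rw [Ideal.map_span, Set.image_singleton, Ideal.mem_span_singleton] at hz
        obtain ⟨w, rfl⟩ := hz
        rw [LinearMap.mem_ker, map_add,
          show ψ y = 0 by simp [ψ, Ideal.Quotient.eq_zero_iff_mem.2 hy], zero_add]
        show N.mkQ (Ideal.Quotient.mk _ (algebraMap B A b * w)) = 0
        rw [Submodule.mkQ_apply, Submodule.Quotient.mk_eq_zero]
        have := hN (Ideal.Quotient.mk _ w)
        rwa [← Ideal.Quotient.mk_eq_mk, ← Submodule.Quotient.mk_smul, Algebra.smul_def, Ideal.Quotient.mk_eq_mk] at this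
      refine isNoetherian_of_surjective (((((I ⊔ Ideal.span {b}).map (algebraMap B A)).restrictScalars B).liftQ ψ hψ).comp
        (Submodule.Quotient.restrictScalarsEquiv B ((I ⊔ Ideal.span {b}).map (algebraMap B A))).symm.toLinearMap)
        (LinearMap.range_eq_top.2 fun x => ?_)
      obtain ⟨y, rfl⟩ := N.mkQ_surjective x
      obtain ⟨a, rfl⟩ := Ideal.Quotient.mk_surjective y
      exact ⟨Ideal.Quotient.mk _ a, rfl⟩
  haveI := key (⊥ : Ideal A) ⟨⊥, Ideal.map_bot⟩
  haveI : IsNoetherian B A := isNoetherian_of_surjective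
    ((AlgEquiv.quotientBot B A).toLinearMap) (LinearMap.range_eq_top.2 (AlgEquiv.quotientBot B A).surjective)
  exact isNoetherianRing_iff.2 (isNoetherian_of_injective (Algebra.linearMap B A) (FaithfulSMul.algebraMap_injective B A))

end Groth.Calg7.EakinNagata
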