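import Mathlib
import Groth.Agent.NeronArea.Desingularize
import Groth.Agent.Hensel1.SmoothLift

/-!
Elkik's approximation for affine schemes over a henselian pair `(A, tA)` with bounded `t`-torsion,
smooth away from `t`.
-/

set_option autoImplicit false

namespace Groth.Calg7.Elkik

open MvPolynomial

universe u

variable {A : Type u} [CommRing A]

theorem exists_root_system (t : A) [HenselianRing A (Ideal.span {t})] {r : ℕ}
    (F : Fin r → MvPolynomial (Fin r) A) (hF : ∀ j, ∃ U, F j = X j + C t * U) :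
    ∃ z : Fin r → A, ∀ j, eval z (F j) = 0 := by
  classical
  choose U hU using hF
  set J := Ideal.span (Set.range F)
  set D := (Matrix.of fun i j => pderiv i (F j)).det with hD
  haveI : Algebra.Smooth A (Localization.Away (Ideal.Quotient.mk J D)) :=
    Groth.NeronArea.Desing.smooth_away_jacobian F (id : Fin r → Fin r) Function.injective_id
  let I := Ideal.span {t}
  have ht : Ideal.Quotient.mk I t = 0 := Ideal.Quotient.eq_zero_iff_mem.2 (Ideal.mem_span_singleton_self t)
  let e : MvPolynomial (Fin r) A →ₐ[A] A ⧸ I := aeval (fun _ => 0)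
  have het : e (C t) = 0 := by rw [aeval_C]; exact ht
  have heF : ∀ j, e (F j) = 0 := fun j => by rw [hU, map_add, map_mul, het, zero_mul, add_zero, aeval_X]
  have heD : IsUnit (e D) := by
    rw [hD, AlgHom.map_det]
    have : e.mapMatrix (Matrix.of fun i j => pderiv i (F j)) = 1 := by
      ext i j
      rw [AlgHom.mapMatrix_apply, Matrix.map_apply, Matrix.of_apply, hU, map_add, pderiv_C_mul, map_add,
        map_mul, het, zero_mul, add_zero, pderiv_X]
      by_cases hij : i = j
      · subst hij; simp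
      · simp [hij, Ne.symm hij]
    rw [this, Matrix.det_one]; exact isUnit_one
  let e' : MvPolynomial (Fin r) A ⧸ J →ₐ[A] A ⧸ I := Ideal.Quotient.liftₐ J e fun a ha => by
    have : J ≤ RingHom.ker e := Ideal.span_le.2 (by rintro _ ⟨j, rfl⟩; exact heF j)
    exact this ha
  let σ := IsLocalization.Away.liftAlgHom (S := Localization.Away (Ideal.Quotient.mk J D))
    (f := e') (Ideal.Quotient.mk J D) heD
  obtain ⟨s, -⟩ := Groth.Hensel1.exists_smooth_lift Groth.Hensel1.gabber_of_henselianRing σ
  let s' : MvPolynomial (Fin r) A →ₐ[A] A :=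
    s.comp ((IsScalarTower.toAlgHom A (MvPolynomial (Fin r) A ⧸ J) _).comp (Ideal.Quotient.mkₐ A J))
  refine ⟨fun i => s' (X i), fun j => ?_⟩
  show eval (⇑s' ∘ X) (F j) = 0
  rw [← coe_aeval_eq_eval]
  show aeval (⇑s' ∘ X) (F j) = 0
  rw [← aeval_unique s']
  show s (algebraMap (MvPolynomial (Fin r) A ⧸ J) _ (Ideal.Quotient.mk J (F j))) = 0
  rw [Ideal.Quotient.eq_zero_iff_mem.2 (Ideal.subset_span (Set.mem_range_self j) : F j ∈ J), map_zero, map_zero]

theorem aeval_add_sq_zero {Q : Type u} [CommRing Q] [Algebra A Q] {r : ℕ} (x v : Fin r → Q)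
    (hv : ∀ i j, v i * v j = 0) (p : MvPolynomial (Fin r) A) :
    aeval (fun i => x i + v i) p = aeval x p + ∑ i, aeval x (pderiv i p) * v i := by
  classical
  induction p using MvPolynomial.induction_on with
  | C a => simp
  | add p q hp hq => simp only [map_add, hp, hq, add_mul, Finset.sum_add_distrib]; ring
  | mul_X p k hp =>
    have hsum : ∑ i, aeval x (pderiv i (p * X k)) * v i =
        x k * (∑ i, aeval x (pderiv i p) * v i) + aeval x p * v k := by
      simp only [pderiv_mul, map_add, map_mul, aeval_X, add_mul, Finset.sum_add_distrib, Finset.mul_sum]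
      congr 1
      · exact Finset.sum_congr rfl fun i _ => by ring
      · rw [Finset.sum_eq_single k]
        · simp
        · intro i _ hi; simp [pderiv_X_of_ne hi.symm]
        · simp
    have h0 : (∑ i, aeval x (pderiv i p) * v i) * v k = 0 := by
      rw [Finset.sum_mul]; exact Finset.sum_eq_zero fun i _ => by rw [mul_assoc, hv, mul_zero]
    rw [map_mul, hp, aeval_X, hsum, map_mul, aeval_X]
    linear_combination h0

/-- The combinatorial data of smoothness away from `t`. -/
structure Data (t : A) {r : ℕ} (I : Ideal (MvPolynomial (Fin r) A)) where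
  /-- number of relations -/
  m : ℕ
  /-- relations -/
  f : Fin m → MvPolynomial (Fin r) A
  mem : ∀ l, f l ∈ I
  gen : ∀ g ∈ I, ∃ k : ℕ, C t ^ k * g ∈ Ideal.span (Set.range f)
  /-- the exponent -/
  c : ℕ
  /-- splitting -/
  H : Fin r → Fin m → MvPolynomial (Fin r) A
  split : ∀ i, C t ^ c * f i - ∑ j, pderiv j (f i) * ∑ l, H j l * f l ∈
    Ideal.span (Set.range f) * Ideal.span (Set.range f)

theorem exists_data (t : A) {r : ℕ} {B : Type u} [CommRing B] [Algebra A B]
    (π : MvPolynomial (Fin r) A →ₐ[A] B) (hπ : Function.Surjective π)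
    (hsm : Algebra.Smooth (Localization.Away t)
      (Localization (Algebra.algebraMapSubmonoid B (Submonoid.powers t)))) :
    Nonempty (Data t (RingHom.ker π.toRingHom)) := by
  classical
  let S := Localization (Algebra.algebraMapSubmonoid B (Submonoid.powers t))
  let At := Localization.Away t
  haveI : IsScalarTower A At S := inferInstance
  haveI hfsS : Algebra.FormallySmooth A S := by
    haveI : Algebra.FormallySmooth A At := Algebra.FormallySmooth.of_isLocalization (Submonoid.powers t)
    haveI : Algebra.FormallySmooth At S := hsm.formallySmooth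
    exact Algebra.FormallySmooth.comp A At S
  let P := MvPolynomial (Fin r) A
  let Pt := MvPolynomial (Fin r) At
  letI : Algebra P Pt := (MvPolynomial.map (algebraMap A At)).toAlgebra
  haveI hloc : IsLocalization ((Submonoid.powers t).map (C (σ := Fin r))) Pt := MvPolynomial.isLocalization ..
  let ξ : Fin r → S := fun i => algebraMap B S (π (X i))
  let πt : Pt →ₐ[At] S := aeval ξ
  have hπt : ∀ p : P, πt (algebraMap P Pt p) = algebraMap B S (π p) := fun p => by
    show aeval ξ (MvPolynomial.map (algebraMap A At) p) = _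
    rw [aeval_map_algebraMap]
    exact DFunLike.congr_fun (MvPolynomial.algHom_ext
      (f := (aeval ξ : P →ₐ[A] S)) (g := (IsScalarTower.toAlgHom A B S).comp π) fun i => by simp [ξ]) p
  have hmemT : ∀ k : ℕ, algebraMap A B (t ^ k) ∈ Algebra.algebraMapSubmonoid B (Submonoid.powers t) :=
    fun k => ⟨t ^ k, ⟨k, rfl⟩, rfl⟩
  have hCt : ∀ k : ℕ, (C t : P) ^ k ∈ (Submonoid.powers t).map (C (σ := Fin r)) :=
    fun k => ⟨t ^ k, ⟨k, rfl⟩, map_pow _ _ _⟩
  have hsurj : Function.Surjective πt := by
    intro z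
    obtain ⟨⟨b, ⟨_, _, ⟨k, rfl⟩, rfl⟩⟩, hz⟩ := IsLocalization.surj (Algebra.algebraMapSubmonoid B (Submonoid.powers t)) z
    obtain ⟨p, rfl⟩ := hπ b
    simp only at hz
    refine ⟨IsLocalization.mk' Pt p (⟨_, hCt k⟩ : (Submonoid.powers t).map (C (σ := Fin r))), ?_⟩
    have h1 := congrArg πt (IsLocalization.mk'_spec (M := (Submonoid.powers t).map (C (σ := Fin r))) Pt p ⟨_, hCt k⟩)
    rw [map_mul, hπt, hπt, ← hz, map_pow π, show π (C t) = algebraMap A B t from π.commutes t,
      ← map_pow (algebraMap A B)] at h1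
    exact (IsLocalization.map_units (M := Algebra.algebraMapSubmonoid B (Submonoid.powers t)) S
      ⟨_, hmemT k⟩).mul_right_cancel h1
  haveI : Algebra.FinitePresentation At S := hsm.finitePresentation
  obtain ⟨G, hG⟩ := Algebra.FinitePresentation.ker_fG_of_surjective πt hsurj
  choose q hq using fun g : G => IsLocalization.surj ((Submonoid.powers t).map (C (σ := Fin r))) (g : Pt)
  have hzero : ∀ g : G, ∃ k : ℕ, π (C t ^ k * (q g).1) = 0 := by
    intro g
    have hg0 : πt (g : Pt) = 0 := (hG ▸ Ideal.subset_span g.2 : (g : Pt) ∈ RingHom.ker πt.toRingHom)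
    have := congrArg πt (hq g)
    rw [map_mul, hg0, zero_mul, hπt, ← map_zero (algebraMap B S)] at this
    obtain ⟨⟨_, _, ⟨k, rfl⟩, rfl⟩, hk⟩ :=
      (IsLocalization.eq_iff_exists (Algebra.algebraMapSubmonoid B (Submonoid.powers t)) S).1 this
    simp only [mul_zero] at hk
    exact ⟨k, by rw [map_mul, map_pow, show π (C t) = algebraMap A B t from π.commutes t, ← map_pow]; exact hk.symm⟩
  choose k hk using hzero
  let f : Fin G.card → P := fun l => C t ^ k (G.equivFin.symm l) * (q (G.equivFin.symm l)).1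
  have hfI : ∀ l, f l ∈ RingHom.ker π.toRingHom := fun l => hk _
  have hker : RingHom.ker πt.toRingHom ≤ (Ideal.span (Set.range f)).map (algebraMap P Pt) := by
    rw [← hG, Ideal.span_le]
    intro g hg
    have hu := ((IsLocalization.map_units (M := (Submonoid.powers t).map (C (σ := Fin r))) Pt
      ⟨_, hCt (k ⟨g, hg⟩)⟩).mul (IsLocalization.map_units (M := (Submonoid.powers t).map (C (σ := Fin r))) Pt
      (q ⟨g, hg⟩).2))
    refine (Ideal.unit_mul_mem_iff_mem _ hu).1 ?_
    have e := hq ⟨g, hg⟩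
    simp only at e
    rw [mul_assoc, mul_comm _ g, e, ← map_mul]
    exact Ideal.mem_map_of_mem _ (Ideal.subset_span ⟨G.equivFin ⟨g, hg⟩, by simp [f]⟩)
  have hgen : ∀ g : P, algebraMap B S (π g) = 0 → ∃ k : ℕ, C t ^ k * g ∈ Ideal.span (Set.range f) := by
    intro g hg
    have h1 : algebraMap P Pt g ∈ (Ideal.span (Set.range f)).map (algebraMap P Pt) :=
      hker (show πt (algebraMap P Pt g) = 0 by rw [hπt, hg])
    obtain ⟨_, ⟨_, ⟨k, rfl⟩, rfl⟩, hk⟩ :=
      (IsLocalization.algebraMap_mem_map_algebraMap_iff ((Submonoid.powers t).map (C (σ := Fin r))) Pt _ g).1 h1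
    exact ⟨k, by rwa [map_pow] at hk⟩
  -- the first order thickening
  let F := Ideal.span (Set.range f)
  let Q := P ⧸ F * F
  let tQ : Q := Ideal.Quotient.mk (F * F) (C t)
  let L := Localization.Away tQ
  let lamP : P →ₐ[A] L := (IsScalarTower.toAlgHom A Q L).comp (Ideal.Quotient.mkₐ A _)
  have hFπ : F ≤ RingHom.ker π.toRingHom := Ideal.span_le.2 (by rintro _ ⟨l, rfl⟩; exact hfI l)
  let πQ : Q →ₐ[A] S := Ideal.Quotient.liftₐ _ ((IsScalarTower.toAlgHom A B S).comp π) fun a ha => by
    rw [AlgHom.comp_apply, show π a = 0 from hFπ (Ideal.mul_le_right ha), map_zero]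
  have hunit : IsUnit (πQ tQ) := by
    show IsUnit (algebraMap B S (π (C t)))
    rw [show π (C t) = algebraMap A B t from π.commutes t]
    exact IsLocalization.map_units (M := Algebra.algebraMapSubmonoid B (Submonoid.powers t)) S
      ⟨_, ⟨t, Submonoid.mem_powers t, rfl⟩⟩
  let ρ : L →ₐ[A] S := IsLocalization.Away.liftAlgHom (S := L) (f := πQ) tQ hunit
  have hρ : ∀ p : P, ρ (lamP p) = algebraMap B S (π p) := fun p => by
    show ρ (algebraMap Q L (Ideal.Quotient.mk _ p)) = _
    simp [ρ, IsLocalization.Away.liftAlgHom, IsLocalization.liftAlgHom, πQ]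
    rfl
  have hρs : Function.Surjective ρ := by
    intro z
    obtain ⟨⟨b, ⟨_, _, ⟨k, rfl⟩, rfl⟩⟩, hz⟩ := IsLocalization.surj (Algebra.algebraMapSubmonoid B (Submonoid.powers t)) z
    obtain ⟨p, rfl⟩ := hπ b
    simp only at hz
    refine ⟨IsLocalization.mk' L (Ideal.Quotient.mk (F * F) p) (⟨tQ ^ k, k, rfl⟩ : Submonoid.powers tQ), ?_⟩
    have h1 := congrArg ρ (IsLocalization.mk'_spec L (Ideal.Quotient.mk (F * F) p)
      (⟨tQ ^ k, k, rfl⟩ : Submonoid.powers tQ))
    rw [map_mul, show ((⟨tQ ^ k, k, rfl⟩ : Submonoid.powers tQ) : Q) = Ideal.Quotient.mk (F * F) ((C t) ^ k) from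
        (map_pow _ _ _).symm, show algebraMap Q L (Ideal.Quotient.mk (F * F) ((C t) ^ k)) = lamP (C t ^ k) from rfl,
      show algebraMap Q L (Ideal.Quotient.mk (F * F) p) = lamP p from rfl, hρ, hρ, ← hz, map_pow π,
      show π (C t) = algebraMap A B t from π.commutes t, ← map_pow (algebraMap A B)] at h1
    exact (IsLocalization.map_units (M := Algebra.algebraMapSubmonoid B (Submonoid.powers t)) S
      ⟨_, hmemT k⟩).mul_right_cancel h1
  have hkerρ : RingHom.ker ρ.toRingHom ≤ F.map lamP.toRingHom := by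
    intro z hz
    obtain ⟨⟨y, ⟨_, j, rfl⟩⟩, hy⟩ := IsLocalization.surj (Submonoid.powers tQ) z
    obtain ⟨p, rfl⟩ := Ideal.Quotient.mk_surjective y
    simp only at hy
    have h0 : algebraMap B S (π p) = 0 := by
      rw [← hρ, show lamP p = algebraMap Q L (Ideal.Quotient.mk _ p) from rfl, ← hy, map_mul,
        show ρ z = 0 from hz, zero_mul]
    obtain ⟨e, he⟩ := hgen p h0
    have hu : IsUnit (algebraMap Q L tQ ^ (j + e)) := (IsLocalization.Away.algebraMap_isUnit tQ).pow _
    refine (Ideal.unit_mul_mem_iff_mem _ hu).1 ?_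
    rw [show algebraMap Q L tQ ^ (j + e) * z = lamP.toRingHom (C t ^ e * p) by
      show _ = algebraMap Q L (Ideal.Quotient.mk _ (C t ^ e * p))
      rw [map_mul, map_mul, ← hy, pow_add, map_pow (Ideal.Quotient.mk (F * F)), map_pow (algebraMap Q L),
        map_pow (algebraMap Q L)]; ring]
    exact Ideal.mem_map_of_mem _ he
  have hFF : F.map lamP.toRingHom * F.map lamP.toRingHom = ⊥ := by
    rw [← Ideal.map_mul, eq_bot_iff, Ideal.map_le_iff_le_comap]
    intro x hx
    show algebraMap Q L (Ideal.Quotient.mk (F * F) x) = 0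
    rw [Ideal.Quotient.eq_zero_iff_mem.2 hx, map_zero]
  have hnil : IsNilpotent (RingHom.ker (ρ : L →+* S)) := ⟨2, by
    rw [sq, Ideal.zero_eq_bot, eq_bot_iff]
    exact (Ideal.mul_mono hkerρ hkerρ).trans hFF.le⟩
  let s := Algebra.FormallySmooth.liftOfSurjective (AlgHom.id A S) ρ hρs hnil
  have hs : ∀ y, ρ (s y) = y := fun y => Algebra.FormallySmooth.liftOfSurjective_apply _ _ _ _ y
  let sP : P →ₐ[A] L := s.comp ((IsScalarTower.toAlgHom A B S).comp π)
  let v : Fin r → L := fun j => sP (X j) - lamP (X j)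
  have hvF : ∀ j, v j ∈ F.map lamP.toRingHom := fun j => hkerρ (by
    show ρ (v j) = 0
    rw [map_sub, show ρ (sP (X j)) = _ from hs _, hρ]
    exact sub_self _)
  have hvv : ∀ i j, v i * v j = 0 := fun i j => by
    have := Ideal.mul_mem_mul (hvF i) (hvF j)
    rwa [hFF, Ideal.mem_bot] at this
  have hcoef : ∀ j, ∃ a : Fin G.card → L, ∑ l, a l * lamP (f l) = v j := fun j => by
    have := hvF j
    rw [Ideal.map_span, ← Set.range_comp] at this
    exact Ideal.mem_span_range_iff_exists_fun.1 this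
  choose a ha using hcoef
  obtain ⟨⟨_, c, rfl⟩, hc⟩ := IsLocalization.exist_integer_multiples_of_finite (Submonoid.powers tQ)
    (fun p : Fin r × Fin G.card => a p.1 p.2)
  have hH : ∀ p : Fin r × Fin G.card, ∃ h : P, lamP h = lamP (C t ^ c) * -a p.1 p.2 := fun p => by
    obtain ⟨y, hy⟩ := hc p
    obtain ⟨h, rfl⟩ := Ideal.Quotient.mk_surjective y
    refine ⟨-h, ?_⟩
    rw [map_neg, show lamP h = algebraMap Q L (Ideal.Quotient.mk _ h) from rfl, hy, Algebra.smul_def,
      show lamP (C t ^ c) = algebraMap Q L (tQ ^ c) by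
        show algebraMap Q L (Ideal.Quotient.mk _ (C t ^ c)) = _
        rw [map_pow]]
    ring
  choose H hH using hH
  have hrel : ∀ i, ∃ e : ℕ, C t ^ e * (C t ^ c * f i - ∑ j, pderiv j (f i) * ∑ l, H (j, l) * f l) ∈ F * F := by
    intro i
    have h0 : sP (f i) = 0 := by
      show s (algebraMap B S (π (f i))) = 0
      rw [show π (f i) = 0 from hfI i, map_zero, map_zero]
    have h1 : sP (f i) = lamP (f i) + ∑ j, lamP (pderiv j (f i)) * v j := by
      rw [aeval_unique sP, aeval_unique lamP]
      rw [show (⇑sP ∘ X) = fun j => (⇑lamP ∘ X) j + v j from funext fun j => by simp [v]]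
      exact aeval_add_sq_zero _ _ hvv _
    have h2 : lamP (C t ^ c * f i - ∑ j, pderiv j (f i) * ∑ l, H (j, l) * f l) = 0 := by
      simp only [map_sub, map_mul, map_sum, hH]
      rw [← mul_zero (lamP (C t ^ c)), ← h0, h1, mul_add, Finset.mul_sum, sub_eq_add_neg, ← Finset.sum_neg_distrib]
      congr 1
      refine Finset.sum_congr rfl fun j _ => ?_
      rw [← ha, Finset.mul_sum, Finset.mul_sum, Finset.mul_sum, ← Finset.sum_neg_distrib]
      exact Finset.sum_congr rfl fun l _ => by ring
    obtain ⟨⟨_, e, rfl⟩, he⟩ := (IsLocalization.map_eq_zero_iff (Submonoid.powers tQ) L _).1 h2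
    refine ⟨e, Ideal.Quotient.eq_zero_iff_mem.1 ?_⟩
    rw [map_mul, map_pow]
    exact he
  choose e he using hrel
  set E := Finset.univ.sup e
  refine ⟨⟨G.card, f, hfI, fun g hg => hgen g (by rw [show π g = 0 from hg, map_zero]), E + c,
    fun j l => C t ^ E * H (j, l), fun i => ?_⟩⟩
  have hle : e i ≤ E := Finset.le_sup (Finset.mem_univ i)
  have := Ideal.mul_mem_left _ (C t ^ (E - e i) : P) (he i)
  rw [← mul_assoc, ← pow_add, Nat.sub_add_cancel hle, mul_sub, ← mul_assoc, ← pow_add, Finset.mul_sum] at this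
  have e3 : ∀ j, C t ^ E * (pderiv j (f i) * ∑ l, H (j, l) * f l) =
      pderiv j (f i) * ∑ l, C t ^ E * H (j, l) * f l := fun j => by
    rw [Finset.mul_sum, Finset.mul_sum, Finset.mul_sum]
    exact Finset.sum_congr rfl fun l _ => by ring
  rw [Finset.sum_congr rfl fun j _ => e3 j] at this
  exact this

set_option maxHeartbeats 1600000 in
/-- Newton step: an approximate zero can be moved to an exact zero. -/
theorem exists_root (t : A) [HenselianRing A (Ideal.span {t})] (N : ℕ)
    (hN : ∀ a : A, (∃ m : ℕ, t ^ m * a = 0) → t ^ N * a = 0) {r : ℕ}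
    {I : Ideal (MvPolynomial (Fin r) A)} (d : Data t I) (p : ℕ) (hpc : d.c < p) (hpN : N ≤ p)
    (a : Fin r → A) (ha : ∀ g ∈ I, eval a g ∈ Ideal.span {t ^ (2 * p + d.c + 1)}) :
    ∃ b : Fin r → A, (∀ g ∈ I, eval b g = 0) ∧ ∀ j, b j - a j ∈ Ideal.span {t ^ p} := by
  classical
  obtain ⟨m, f, hfI, hgen, c, H, hsplit⟩ := d
  simp only at hpc ha
  let P := MvPolynomial (Fin r) A
  set F := Ideal.span (Set.range f) with hF
  have hfF : ∀ l, f l ∈ F := fun l => Ideal.subset_span ⟨l, rfl⟩
  -- the endomorphism `t^c - H J`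
  set K : Fin r → Fin r → P := fun j k =>
    C t ^ c * (if j = k then 1 else 0) - ∑ l, H j l * pderiv k (f l) with hK
  let Gs : Fin r → P := fun j => (∑ l, H j l * f l) + ∑ k, K j k * (X k - C (a k))
  have hGd : ∀ j k, eval a (pderiv k (Gs j)) - t ^ c * (if j = k then 1 else 0) ∈
      Ideal.span {t ^ (2 * p + c + 1)} := by
    intro j k
    have hsum : eval a (pderiv k (Gs j)) =
        (∑ l, eval a (pderiv k (H j l)) * eval a (f l)) + (∑ l, eval a (H j l) * eval a (pderiv k (f l))) +
          eval a (K j k) := by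
      simp only [Gs, map_add, map_sum, pderiv_mul, map_mul, map_sub, eval_X, eval_C, sub_self, mul_zero,
        pderiv_C, sub_zero, zero_add, Finset.sum_add_distrib]
      rw [Finset.sum_eq_single k]
      · simp
      · intro i _ hi; simp [pderiv_X_of_ne hi]
      · simp
    rw [hsum, hK]
    simp only [map_sub, map_mul, map_sum, map_pow, eval_C]
    rw [show ∀ u v w : A, u + v + (w - v) - t ^ c * (if j = k then 1 else 0) = u + (w - t ^ c * (if j = k then 1 else 0))
      from fun u v w => by ring, apply_ite (eval a), map_one, map_zero, sub_self, add_zero]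
    exact Ideal.sum_mem _ fun l _ => Ideal.mul_mem_left _ _ (ha _ (hfI l))
  have hG0 : ∀ j, eval a (Gs j) ∈ Ideal.span {t ^ (2 * p + c + 1)} := fun j => by
    simp only [Gs, map_add, map_sum, map_mul, map_sub, eval_X, eval_C, sub_self, mul_zero,
      Finset.sum_const_zero, add_zero]
    exact Ideal.sum_mem _ fun l _ => Ideal.mul_mem_left _ _ (ha _ (hfI l))
  -- rescale
  have hexp : ∀ j, ∃ U : P, aeval (fun i => algebraMap A P (a i) + algebraMap A P (t ^ p) * X i) (Gs j) =
      C (t ^ (p + c)) * (X j + C t * U) := by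
    intro j
    obtain ⟨R, hR⟩ := Groth.NeronArea.Desing.taylor a (fun i => (X i : P)) (t ^ p) (Gs j)
    choose w hw using fun k => Ideal.mem_span_singleton.1 (hGd j k)
    obtain ⟨w₀, hw₀⟩ := Ideal.mem_span_singleton.1 (hG0 j)
    refine ⟨C (t ^ p * w₀) + (∑ k, C (t ^ (2 * p) * w k) * X k) + C (t ^ (p - c - 1)) * R, ?_⟩
    rw [hR, hw₀, MvPolynomial.algebraMap_eq]
    have hlin : ∑ k, C (eval a (pderiv k (Gs j))) * X k =
        C (t ^ c) * X j + C (t ^ (2 * p + c + 1)) * ∑ k, C (w k) * X k := by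
      have : ∀ k, eval a (pderiv k (Gs j)) = t ^ c * (if j = k then 1 else 0) + t ^ (2 * p + c + 1) * w k :=
        fun k => by rw [← hw k]; ring
      simp only [this, map_add, map_mul, add_mul, Finset.sum_add_distrib, Finset.mul_sum]
      congr 1
      · rw [Finset.sum_eq_single j]
        · simp
        · intro i _ hi; simp [Ne.symm hi]
        · simp
      · exact Finset.sum_congr rfl fun k _ => by ring
    have hfac : ∑ k, C (t ^ (2 * p) * w k) * (X k : P) = C (t ^ (2 * p)) * ∑ k, C (w k) * X k := by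
      rw [Finset.mul_sum]; exact Finset.sum_congr rfl fun k _ => by rw [map_mul]; ring
    rw [hlin, hfac]
    obtain ⟨q, rfl⟩ := Nat.exists_eq_add_of_lt hpc
    rw [show c + q + 1 - c - 1 = q by omega]
    simp only [map_mul, map_pow]
    ring
  choose U hU using hexp
  obtain ⟨z, hz⟩ := exists_root_system t (fun j => X j + C t * U j) fun j => ⟨U j, rfl⟩
  set b : Fin r → A := fun i => a i + t ^ p * z i with hb
  have hGb : ∀ j, eval b (Gs j) = 0 := by
    intro j
    have := congrArg (aeval z : P →ₐ[A] A) (hU j)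
    rw [← AlgHom.comp_apply, MvPolynomial.comp_aeval, map_mul, show (aeval z : P →ₐ[A] A) (X j + C t * U j) = 0
      from hz j, mul_zero] at this
    rw [← coe_aeval_eq_eval, ← this]
    exact congrArg (fun w => aeval w (Gs j)) (funext fun i => by
      rw [map_add, map_mul, AlgHom.commutes, AlgHom.commutes, aeval_X]
      rfl)
  refine ⟨b, ?_, fun j => Ideal.mem_span_singleton.2 ⟨z j, by simp [b]⟩⟩
  have hbp : ∀ g ∈ I, eval b g ∈ Ideal.span {t ^ p} := by
    intro g hg
    obtain ⟨R, hR⟩ := Groth.NeronArea.Desing.taylor a z (t ^ p) g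
    simp only [Algebra.algebraMap_self, RingHom.id_apply] at hR
    rw [← coe_aeval_eq_eval]
    show aeval (fun i => a i + t ^ p * z i) g ∈ _
    rw [hR]
    refine add_mem (add_mem ?_ (Ideal.mul_mem_right _ _ (Ideal.mem_span_singleton_self _))) ?_
    · exact Ideal.span_singleton_le_span_singleton.2 (pow_dvd_pow t (by omega)) (ha g hg)
    · rw [sq, mul_assoc]; exact Ideal.mul_mem_right _ _ (Ideal.mem_span_singleton_self _)
  -- the annihilation identity
  have hJK : ∀ i k, ∑ j, pderiv j (f i) * K j k ∈ F := by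
    intro i k
    have hd : ∀ x ∈ F * F, pderiv k x ∈ F := by
      intro x hx
      refine Submodule.mul_induction_on hx (fun u hu v hv => ?_) (fun u v hu hv => ?_)
      · rw [pderiv_mul]; exact add_mem (Ideal.mul_mem_left _ _ hv) (Ideal.mul_mem_right _ _ hu)
      · rw [map_add]; exact add_mem hu hv
    have h1 := hd _ (hsplit i)
    rw [map_sub, map_sum] at h1
    have hC : pderiv k (C t ^ c * f i) = C t ^ c * pderiv k (f i) := by
      rw [← map_pow, pderiv_C_mul]
    have h2 : ∀ j, pderiv k (pderiv j (f i) * ∑ l, H j l * f l) -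
        pderiv j (f i) * ∑ l, H j l * pderiv k (f l) ∈ F := by
      intro j
      simp only [pderiv_mul, map_sum, Finset.sum_add_distrib, mul_add]
      rw [← add_assoc, add_sub_cancel_right]
      refine add_mem (Ideal.mul_mem_left _ _ (Ideal.sum_mem _ fun l _ => Ideal.mul_mem_left _ _ (hfF l)))
        (Ideal.mul_mem_left _ _ (Ideal.sum_mem _ fun l _ => Ideal.mul_mem_left _ _ (hfF l)))
    have h3 := add_mem h1 (Ideal.sum_mem F (t := Finset.univ) fun j _ => h2 j)
    rw [Finset.sum_sub_distrib, hC] at h3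
    convert h3 using 1
    simp only [K, mul_sub, Finset.sum_sub_distrib]
    rw [sub_add_sub_cancel]
    congr 1
    rw [Finset.sum_eq_single k]
    · simp [mul_comm]
    · intro j _ hj; simp [hj]
    · simp
  set Fb := Ideal.span (Set.range fun l => eval b (f l)) with hFb
  have hFb_map : F.map (eval b) ≤ Fb := by
    rw [hF, Ideal.map_span, Ideal.span_le]
    rintro _ ⟨_, ⟨l, rfl⟩, rfl⟩
    exact Ideal.subset_span ⟨l, rfl⟩
  have hFb_le : Fb ≤ Ideal.span {t ^ p} := Ideal.span_le.2 (by rintro _ ⟨l, rfl⟩; exact hbp _ (hfI l))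
  have hkey : ∀ i, t ^ c * eval b (f i) ∈ Ideal.span {t ^ p} * Fb := by
    intro i
    have h1 : eval b (C t ^ c * f i - ∑ j, pderiv j (f i) * ∑ l, H j l * f l) ∈ Ideal.span {t ^ p} * Fb := by
      have h := Ideal.mem_map_of_mem (eval b) (hsplit i)
      rw [Ideal.map_mul] at h
      exact Ideal.mul_mono (hFb_map.trans hFb_le) hFb_map h
    have h2 : eval b (∑ j, pderiv j (f i) * ∑ l, H j l * f l) ∈ Ideal.span {t ^ p} * Fb := by
      have e : eval b (∑ j, pderiv j (f i) * ∑ l, H j l * f l) =
          - ∑ k, eval b (∑ j, pderiv j (f i) * K j k) * (t ^ p * z k) := by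
        have hj : ∀ j, eval b (∑ l, H j l * f l) = - ∑ k, eval b (K j k) * (t ^ p * z k) := fun j => by
          have := hGb j
          simp only [Gs, map_add] at this
          rw [eq_neg_iff_add_eq_zero, ← this]
          congr 1
          simp [map_sum, b]
        simp only [map_sum, map_mul] at hj ⊢
        simp only [hj, Finset.sum_mul, Finset.mul_sum, mul_neg, Finset.sum_neg_distrib]
        rw [Finset.sum_comm]
        congr 1
        exact Finset.sum_congr rfl fun k _ => Finset.sum_congr rfl fun j _ => by ring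
      rw [e]
      refine neg_mem (Ideal.sum_mem _ fun k _ => ?_)
      rw [mul_comm (eval b _) (t ^ p * z k)]
      exact Ideal.mul_mem_mul (Ideal.mul_mem_right _ _ (Ideal.mem_span_singleton_self _))
        (hFb_map (Ideal.mem_map_of_mem (eval b) (hJK i k)))
    have := add_mem h1 h2
    rw [map_sub, sub_add_cancel, map_mul, map_pow, eval_C] at this
    exact this
  have hzero : Ideal.span {t ^ c} * Fb = ⊥ := by
    refine Submodule.eq_bot_of_le_smul_of_le_jacobson_bot (Ideal.span {t}) _
      (Submodule.FG.mul (Submodule.fg_span_singleton _) (Submodule.fg_span (Set.finite_range _))) ?_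
      (HenselianRing.jac (R := A))
    rw [smul_eq_mul, ← mul_assoc, Ideal.span_singleton_mul_span_singleton, Ideal.span_singleton_mul_le_iff]
    intro y hy
    induction hy using Submodule.span_induction with
    | mem x hx =>
      obtain ⟨l, rfl⟩ := hx
      refine Ideal.mul_mono_left ?_ (hkey l)
      exact Ideal.span_singleton_le_span_singleton.2 (by rw [← pow_succ']; exact pow_dvd_pow t (by omega))
    | zero => rw [mul_zero]; exact zero_mem _
    | add x y _ _ hx hy => rw [mul_add]; exact add_mem hx hy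
    | smul a x _ hx => rw [smul_eq_mul, mul_left_comm]; exact Ideal.mul_mem_left _ _ hx
  have htor : ∀ x ∈ Ideal.span {t ^ p}, (∃ k : ℕ, t ^ k * x = 0) → x = 0 := by
    intro x hx ⟨k, hk⟩
    obtain ⟨y, rfl⟩ := Ideal.mem_span_singleton.1 hx
    have h := hN y ⟨k + p, by rw [pow_add, mul_assoc]; exact hk⟩
    rw [← Nat.sub_add_cancel hpN, pow_add, mul_assoc, h, mul_zero]
  have hf0 : ∀ l, eval b (f l) = 0 := fun l => htor _ (hbp _ (hfI l)) ⟨c, by
    rw [← Ideal.mem_bot, ← hzero]
    exact Ideal.mul_mem_mul (Ideal.mem_span_singleton_self _) (Ideal.subset_span ⟨l, rfl⟩)⟩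
  intro g hg
  obtain ⟨k, hk⟩ := hgen g hg
  refine htor _ (hbp g hg) ⟨k, ?_⟩
  have h5 := hFb_map (Ideal.mem_map_of_mem _ hk)
  rw [map_mul, map_pow, eval_C] at h5
  have hFb0 : Fb = ⊥ := by
    rw [hFb, Ideal.span_eq_bot]
    rintro _ ⟨l, rfl⟩
    exact hf0 l
  rwa [hFb0, Ideal.mem_bot] at h5

end Groth.Calg7.Elkik
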