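/-
Regular quadratic forms of even rank on free modules: the centre of the even Clifford algebra is
finite projective étale of rank two over the base.
-/
import Mathlib
import Groth.Agent.Misc12.Cliff.Global

set_option linter.unusedSectionVars false

noncomputable section

open scoped TensorProduct
open QuadraticMap CliffordAlgebra MulOpposite
open Groth.Misc12.Cliff

universe u v w

namespace Groth.Calg7.EvenCliff

variable {R : Type u} [CommRing R] {M : Type v} [AddCommGroup M] [Module R M] (Q : QuadraticForm R M)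
  [Module.Free R M] [Module.Finite R M]

/-- even elements -/
abbrev Ev : Type _ := ↥(CliffordAlgebra.even Q)

/-- the centre of the even part -/
abbrev Ce : Type _ := ↥(Subalgebra.center R (Ev Q))

/-- standing hypotheses -/
structure Hyp (m : ℕ) : Prop where
  pos : 1 ≤ m
  rank : Module.finrank R M = 2 * m
  reg : QuadGrp.IsRegular Q

variable {Q} {m : ℕ}

theorem Hyp.mu_bijective (h : Hyp Q m) :
    Function.Bijective (sand (AlgHom.id R (CliffordAlgebra Q)) (AlgHom.id R (CliffordAlgebra Q))) := by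
  classical
  haveI := free Q
  haveI := Groth.Misc12.Cliff.finite Q
  let c := Module.Free.chooseBasis R (CliffordAlgebra Q)
  refine sand_id_bijective_of_isUnit c ?_
  by_contra hd
  obtain ⟨P, hP, hle⟩ := Ideal.exists_le_maximal (Ideal.span {(muMat c).det}) (by rwa [Ne, Ideal.span_singleton_eq_top])
  obtain ⟨z, hz⟩ := exists_isZ_loc h.reg h.rank (Localization.AtPrime P)
  have hb := sand_id_bijective (QA Q (Localization.AtPrime P)) (isRegular_QA Q (Localization.AtPrime P) h.reg) hz.W hz.anti_W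
  have h1 := isUnit_det_muMat (bcBasis Q (Localization.AtPrime P) c) hb.1
  rw [muMat_bc, ← RingHom.mapMatrix_apply, ← RingHom.map_det, IsLocalization.AtPrime.isUnit_to_map_iff _ P] at h1
  exact h1 (hle (Ideal.mem_span_singleton_self _))

theorem Hyp.central_scalar (h : Hyp Q m) {c : CliffordAlgebra Q} (hc : ∀ v, Commute (ι Q v) c) :
    ∃ r : R, algebraMap R _ r = c := by
  obtain ⟨p, hp⟩ := exists_sep_global h.reg h.rank
  refine hp.center fun x => ?_
  induction x using CliffordAlgebra.induction with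
  | algebraMap r => exact Algebra.commutes r c
  | ι v => exact hc v
  | mul a b ha hb => exact (Commute.mul_left ha hb).eq
  | add a b ha hb => exact (Commute.add_left ha hb).eq

theorem Hyp.exists_combination (h : Hyp Q m) : ∃ c : M →₀ R, c.sum (fun v r => r * Q v) = 1 := by
  have htop : Ideal.span (Set.range Q) = ⊤ := by
    by_contra hne
    obtain ⟨P, hP, hle⟩ := Ideal.exists_le_maximal _ hne
    have : Nontrivial R := ⟨⟨0, 1, fun h01 => hP.ne_top ((Ideal.eq_top_iff_one _).mpr (h01 ▸ P.zero_mem))⟩⟩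
    let b := Module.finBasis R M
    obtain ⟨w, hw⟩ := h.reg.2 (b.coord ⟨0, by have := h.pos; have := h.rank; omega⟩)
    have h1 := LinearMap.congr_fun hw (b ⟨0, by have := h.pos; have := h.rank; omega⟩)
    rw [Module.Basis.coord_apply, b.repr_self, Finsupp.single_eq_same, polarBilin_apply_apply] at h1
    have hQ : ∀ v, Q v ∈ P := fun v => hle (Ideal.subset_span ⟨v, rfl⟩)
    refine hP.ne_top ((Ideal.eq_top_iff_one _).mpr ?_)
    rw [← h1, polar]
    exact sub_mem (sub_mem (hQ _) (hQ _)) (hQ _)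
  have h1 : (1 : R) ∈ Submodule.span R (Set.range Q) := by
    change (1 : R) ∈ Ideal.span _
    rw [htop]; trivial
  obtain ⟨c, hc⟩ := Finsupp.mem_span_range_iff_exists_finsupp.mp h1
  exact ⟨c, by simpa [smul_eq_mul] using hc⟩

/-- `x ↦ ∑ cᵢ vᵢ x vᵢ` with `∑ cᵢ Q vᵢ = 1`: conjugation by an odd unit. -/
def Hyp.phi (h : Hyp Q m) : CliffordAlgebra Q →ₗ[R] CliffordAlgebra Q :=
  h.exists_combination.choose.sum fun v r => r • LinearMap.mulLeftRight R (ι Q v, ι Q v)

theorem Hyp.phi_apply (h : Hyp Q m) (x : CliffordAlgebra Q) :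
    h.phi x = h.exists_combination.choose.sum fun v r => r • (ι Q v * x * ι Q v) := by
  simp [Hyp.phi, Finsupp.sum, LinearMap.sum_apply]

theorem Hyp.phi_mem (h : Hyp Q m) {x : CliffordAlgebra Q} (hx : x ∈ evenOdd Q 0) :
    h.phi x ∈ evenOdd Q 0 := by
  rw [h.phi_apply]
  refine sum_mem fun v _ => Submodule.smul_mem _ _ ?_
  have := SetLike.mul_mem_graded (SetLike.mul_mem_graded (ι_mem_evenOdd_one Q v) hx) (ι_mem_evenOdd_one Q v)
  simpa [show (1 : ZMod 2) + 1 = 0 from by decide] using this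

/-- commutes with the even part -/
def Cm (x : CliffordAlgebra Q) : Prop := ∀ v w, Commute x (ι Q v * ι Q w)

theorem Cm.commute {x : CliffordAlgebra Q} (hx : Cm x) {y : CliffordAlgebra Q}
    (hy : y ∈ evenOdd Q 0) : Commute x y := by
  induction y, hy using CliffordAlgebra.even_induction with
  | algebraMap r => exact (Algebra.commutes r x).symm
  | add a b _ _ ha hb => exact ha.add_right hb
  | ι_mul_ι_mul v w a _ ha => exact (hx v w).mul_right ha

theorem Hyp.sum_sq (h : Hyp Q m) :
    h.exists_combination.choose.sum (fun v r => r • (ι Q v * ι Q v)) = 1 := by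
  simp only [ι_sq_scalar, Algebra.smul_def, ← map_mul]
  rw [← _root_.map_finsuppSum (algebraMap R (CliffordAlgebra Q)), h.exists_combination.choose_spec, map_one]

theorem Hyp.phi_mul_ι (h : Hyp Q m) {x : CliffordAlgebra Q} (hx : Cm x) (w : M) :
    h.phi x * ι Q w = ι Q w * x := by
  conv_rhs => rw [← one_mul (ι Q w * x), ← h.sum_sq]
  rw [h.phi_apply, Finsupp.sum, Finsupp.sum, Finset.sum_mul, Finset.sum_mul]
  refine Finset.sum_congr rfl fun v _ => ?_
  rw [smul_mul_assoc, smul_mul_assoc, mul_assoc (ι Q v * x), mul_assoc (ι Q v), (hx v w).eq]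
  simp only [mul_assoc]

theorem Hyp.ι_mul_phi (h : Hyp Q m) {x : CliffordAlgebra Q} (hx : Cm x) (w : M) :
    ι Q w * h.phi x = x * ι Q w := by
  conv_rhs => rw [← mul_one (x * ι Q w), ← h.sum_sq]
  rw [h.phi_apply, Finsupp.sum, Finsupp.sum, Finset.mul_sum, Finset.mul_sum]
  refine Finset.sum_congr rfl fun v _ => ?_
  rw [mul_smul_comm, mul_smul_comm, ← mul_assoc, ← mul_assoc, ← (hx w v).eq]
  simp only [mul_assoc]

theorem Hyp.cm_phi (h : Hyp Q m) {x : CliffordAlgebra Q} (hx : Cm x) : Cm (h.phi x) := fun v w => by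
  change _ = _
  rw [← mul_assoc, h.phi_mul_ι hx, mul_assoc (ι Q v), ← h.ι_mul_phi hx, mul_assoc]

theorem Hyp.odd_mul (h : Hyp Q m) {x : CliffordAlgebra Q} (hx : Cm x) {a : CliffordAlgebra Q}
    (ha : a ∈ evenOdd Q 1) : a * x = h.phi x * a := by
  induction a, ha using CliffordAlgebra.odd_induction with
  | ι v => exact (h.phi_mul_ι hx v).symm
  | add a b _ _ ha hb => rw [add_mul, mul_add, ha, hb]
  | ι_mul_ι_mul v w a _ ha =>
    rw [mul_assoc, ha, ← mul_assoc, ← mul_assoc, ← (h.cm_phi hx v w).eq, mul_assoc]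

/-- `x - φ x` -/
def Hyp.dlt (h : Hyp Q m) (x : CliffordAlgebra Q) : CliffordAlgebra Q := x - h.phi x

theorem Hyp.dlt_anti (h : Hyp Q m) {x : CliffordAlgebra Q} (hx : Cm x) (w : M) :
    ι Q w * h.dlt x = -(h.dlt x * ι Q w) := by
  simp only [Hyp.dlt, mul_sub, sub_mul, h.ι_mul_phi hx, ← h.phi_mul_ι hx, neg_sub]

theorem mem_cm (x : Ce Q) : Cm ((x : Ev Q) : CliffordAlgebra Q) := fun v w => by
  have := Subalgebra.mem_center_iff.mp x.2 ⟨ι Q v * ι Q w, ι_mul_ι_mem_evenOdd_zero Q v w⟩
  exact (congrArg Subtype.val this).symm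

theorem mem_even (x : Ce Q) : ((x : Ev Q) : CliffordAlgebra Q) ∈ evenOdd Q 0 := (x : Ev Q).2

/-- an element of the centre from an even element commuting with the even part -/
def mkCe (x : CliffordAlgebra Q) (h0 : x ∈ evenOdd Q 0) (hx : Cm x) : Ce Q :=
  ⟨⟨x, h0⟩, Subalgebra.mem_center_iff.mpr fun y => Subtype.ext (hx.commute y.2).eq.symm⟩

/-- `φ` on the centre -/
def Hyp.phiC (h : Hyp Q m) : Ce Q →ₗ[R] Ce Q where
  toFun x := mkCe (h.phi x) (h.phi_mem (mem_even x)) (h.cm_phi (mem_cm x))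
  map_add' x y := Subtype.ext (Subtype.ext (map_add h.phi _ _))
  map_smul' r x := Subtype.ext (Subtype.ext (map_smul h.phi _ _))

/-- `δ` on the centre -/
def Hyp.dC (h : Hyp Q m) : Ce Q →ₗ[R] Ce Q := LinearMap.id - h.phiC

theorem Hyp.coe_dC (h : Hyp Q m) (x : Ce Q) :
    ((h.dC x : Ev Q) : CliffordAlgebra Q) = h.dlt x := rfl

theorem Hyp.phiC_mul (h : Hyp Q m) (x y : Ce Q) : h.phiC (x * y) = h.phiC x * h.phiC y := by
  refine Subtype.ext (Subtype.ext ?_)
  change h.phi ((x : Ev Q) * (y : Ev Q) : CliffordAlgebra Q) = h.phi x * h.phi y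
  conv_rhs => rw [h.phi_apply (y : Ev Q)]
  rw [h.phi_apply, Finsupp.sum, Finsupp.sum, Finset.mul_sum]
  refine Finset.sum_congr rfl fun v _ => ?_
  rw [mul_smul_comm]
  congr 1
  conv_rhs => rw [← mul_assoc, ← mul_assoc, h.phi_mul_ι (mem_cm x)]
  simp only [mul_assoc]

theorem Hyp.scalar_of_anti (h : Hyp Q m) {a b : CliffordAlgebra Q}
    (ha : ∀ v, ι Q v * a = -(a * ι Q v)) (hb : ∀ v, ι Q v * b = -(b * ι Q v)) :
    ∃ r : R, algebraMap R _ r = a * b :=
  h.central_scalar fun v => by
    change _ = _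
    rw [← mul_assoc, ha, neg_mul, mul_assoc, hb, mul_neg, neg_neg, mul_assoc]

variable (Q) in
/-- retraction onto scalars -/
def cst : CliffordAlgebra Q →ₗ[R] R :=
  (ExteriorAlgebra.algebraMapInv (R := R) (M := M)).toLinearMap ∘ₗ (toExt Q).toLinearMap

theorem cst_algebraMap (r : R) : cst Q (algebraMap R _ r) = r := by
  change ExteriorAlgebra.algebraMapInv (toExt Q (algebraMap R _ r)) = r
  rw [toExt_algebraMap, AlgHom.commutes]
  rfl

/-- the scalar `δ x δ y` -/
def Hyp.B (h : Hyp Q m) (x : Ce Q) : Ce Q →ₗ[R] R :=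
  cst Q ∘ₗ (CliffordAlgebra.even Q).val.toLinearMap ∘ₗ (Subalgebra.center R (Ev Q)).val.toLinearMap ∘ₗ
    LinearMap.mulLeft R (h.dC x) ∘ₗ h.dC

theorem Hyp.algebraMap_B (h : Hyp Q m) (x y : Ce Q) :
    algebraMap R (Ce Q) (h.B x y) = h.dC x * h.dC y := by
  obtain ⟨r, hr⟩ := h.scalar_of_anti (h.dlt_anti (mem_cm x)) (h.dlt_anti (mem_cm y))
  have : h.B x y = r := by
    change cst Q (h.dlt x * h.dlt y) = r
    rw [← hr, cst_algebraMap]
  rw [this]
  exact Subtype.ext (Subtype.ext hr)

theorem bc_cm_of_smul {P : Ideal R} [P.IsPrime] {z : CliffordAlgebra (QA Q (Localization.AtPrime P))}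
    (hz : IsZ (QA Q (Localization.AtPrime P)) z) :
    ∃ y : CliffordAlgebra Q, y ∈ evenOdd Q 0 ∧ Cm y ∧ ∃ s ∉ P,
      bc Q (Localization.AtPrime P) y = algebraMap R (Localization.AtPrime P) s • z := by
  classical
  obtain ⟨y, hy0, s, hs, hy⟩ := exists_bc_eq_smul_mem P hz.even
  let b := Module.Free.chooseBasis R M
  let d : Module.Free.ChooseBasisIndex R M × Module.Free.ChooseBasisIndex R M → CliffordAlgebra Q :=
    fun p => y * (ι Q (b p.1) * ι Q (b p.2)) - ι Q (b p.1) * ι Q (b p.2) * y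
  have hd : ∀ p, bc Q (Localization.AtPrime P) (d p) = 0 := fun p => by
    simp only [d, map_sub, map_mul, hy, smul_mul_assoc, mul_smul_comm, bc_ι]
    rw [hz.commute_even (ι_mul_ι_mem_evenOdd_zero _ _ _), sub_self]
  choose t ht htd using fun p => exists_smul_eq_zero P (hd p)
  have hT : ∏ p, t p ∉ P := by
    intro hmem
    obtain ⟨p, -, hp⟩ := (Ideal.IsPrime.prod_mem_iff (p := P)).1 hmem
    exact ht p hp
  have hpair : ∀ i j, Commute ((∏ p, t p) • y) (ι Q (b i) * ι Q (b j)) := fun i j => by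
    change _ = _
    rw [← sub_eq_zero, smul_mul_assoc, mul_smul_comm, ← smul_sub,
      show y * (ι Q (b i) * ι Q (b j)) - ι Q (b i) * ι Q (b j) * y = d (i, j) from rfl,
      ← Finset.prod_erase_mul _ _ (Finset.mem_univ (i, j)), mul_smul, htd (i, j), smul_zero]
  refine ⟨(∏ p, t p) • y, Submodule.smul_mem _ _ hy0, fun v w => ?_, (∏ p, t p) * s,
    Ideal.IsPrime.mul_notMem ‹_› hT hs, ?_⟩
  · rw [← b.sum_repr v, ← b.sum_repr w]
    simp only [map_sum, map_smul, Finset.sum_mul, Finset.mul_sum, smul_mul_assoc, mul_smul_comm, smul_smul]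
    exact Commute.sum_right _ _ _ fun i _ => Commute.smul_right
      (Commute.sum_right _ _ _ fun j _ => Commute.smul_right (hpair j i) _) _
  · rw [map_smul, hy, map_mul, mul_smul, algebraMap_smul, algebraMap_smul]

theorem sq_one_sub {S C : Type*} [CommRing S] [Ring C] [Algebra S C] {z : C} {q : S}
    (hzz : z * z = z + algebraMap S C q) :
    (1 - 2 • z) * (1 - 2 • z) = algebraMap S C (1 + 4 * q) := by
  simp only [two_nsmul, mul_sub, sub_mul, mul_one, one_mul, mul_add, add_mul, hzz,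
    Algebra.algebraMap_eq_smul_one]
  module

theorem Hyp.exists_B_notMem (h : Hyp Q m) (P : Ideal R) [P.IsPrime] : ∃ x : Ce Q, h.B x x ∉ P := by
  obtain ⟨z, hz⟩ := exists_isZ_loc h.reg h.rank (Localization.AtPrime P)
  obtain ⟨y, hy0, hyc, s, hs, hy⟩ := bc_cm_of_smul hz
  refine ⟨mkCe y hy0 hyc, ?_⟩
  let A := Localization.AtPrime P
  have hphi : bc Q A (h.phi y) = algebraMap R A s • (1 - z) := by
    rw [h.phi_apply, _root_.map_finsuppSum]
    have : ∀ (v : M) (r : R), bc Q A (r • (ι Q v * y * ι Q v)) =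
        (algebraMap R A s • (1 - z)) * bc Q A (r • (ι Q v * ι Q v)) := fun v r => by
      simp only [map_smul, map_mul, hy, mul_smul_comm, smul_mul_assoc, bc_ι, A]
      rw [hz.odd_mul (ι_mem_evenOdd_one _ _), mul_assoc]
    simp only [this]
    rw [← Finsupp.mul_sum, ← _root_.map_finsuppSum, h.sum_sq, map_one, mul_one]
  have hdlt : bc Q A (h.dlt y) = algebraMap R A s • (-(1 - 2 • z)) := by
    rw [Hyp.dlt, map_sub, hy, hphi, ← smul_sub]
    congr 1
    rw [two_nsmul]; abel
  obtain ⟨q, hq, hzz⟩ := hz.sq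
  have hsq : bc Q A (h.dlt y * h.dlt y) =
      algebraMap A _ (algebraMap R A s * algebraMap R A s * (1 + 4 * q)) := by
    rw [map_mul, hdlt, smul_mul_smul_comm, neg_mul_neg, sq_one_sub hzz]
    exact (Algebra.smul_def _ _).trans (map_mul _ _ _).symm
  have hB : algebraMap R (CliffordAlgebra Q) (h.B (mkCe y hy0 hyc) (mkCe y hy0 hyc)) = h.dlt y * h.dlt y :=
    congrArg (fun t : Ce Q => ((t : Ev Q) : CliffordAlgebra Q)) (h.algebraMap_B _ _)
  intro hP
  have hu : IsUnit (algebraMap R A (h.B (mkCe y hy0 hyc) (mkCe y hy0 hyc))) := by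
    have h1 := congrArg (bc Q A) hB
    rw [hsq, AlgHom.commutes, IsScalarTower.algebraMap_apply R A (CliffordAlgebra (QA Q A))] at h1
    rw [algebraMap_injective (QA Q A) h1]
    exact ((isUnit_algebraMap_of_notMem P hs).mul (isUnit_algebraMap_of_notMem P hs)).mul hq
  exact (IsLocalization.AtPrime.isUnit_to_map_iff A P _).mp hu hP

theorem Hyp.exists_family (h : Hyp Q m) : ∃ c : Ce Q →₀ R, c.sum (fun x r => r * h.B x x) = 1 := by
  have htop : Ideal.span (Set.range fun x => h.B x x) = ⊤ := by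
    by_contra hne
    obtain ⟨P, hP, hle⟩ := Ideal.exists_le_maximal _ hne
    obtain ⟨x, hx⟩ := h.exists_B_notMem P
    exact hx (hle (Ideal.subset_span ⟨x, rfl⟩))
  have h1 : (1 : R) ∈ Submodule.span R (Set.range fun x => h.B x x) := by
    change (1 : R) ∈ Ideal.span _
    rw [htop]; trivial
  obtain ⟨c, hc⟩ := Finsupp.mem_span_range_iff_exists_finsupp.mp h1
  exact ⟨c, by simpa [smul_eq_mul] using hc⟩

theorem Hyp.eq_zero_of_dC_sq_smul (h : Hyp Q m) {T : Type*} [AddCommGroup T] [Module (Ce Q) T] {t : T}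
    (ht : ∀ x : Ce Q, (h.dC x * h.dC x) • t = 0) : t = 0 := by
  obtain ⟨c, hc⟩ := h.exists_family
  have h1 : c.sum (fun x r => algebraMap R (Ce Q) r * (h.dC x * h.dC x)) = 1 := by
    simp only [← h.algebraMap_B, ← map_mul]
    rw [← _root_.map_finsuppSum, hc, map_one]
  rw [← one_smul (Ce Q) t, ← h1, Finsupp.sum, Finset.sum_smul]
  exact Finset.sum_eq_zero fun x _ => by rw [mul_smul, ht, smul_zero]

theorem Hyp.scalar_of_dC_eq_zero (h : Hyp Q m) {x : Ce Q} (hx : h.dC x = 0) :
    ∃ r : R, algebraMap R (Ce Q) r = x := by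
  have hp : h.phi x = ((x : Ev Q) : CliffordAlgebra Q) := by
    have h0 : h.dlt x = 0 := by rw [← h.coe_dC, hx]; rfl
    exact (sub_eq_zero.mp h0).symm
  obtain ⟨r, hr⟩ := h.central_scalar (c := ((x : Ev Q) : CliffordAlgebra Q)) fun v => by
    have := h.ι_mul_phi (mem_cm x) v
    rwa [hp] at this
  exact ⟨r, Subtype.ext (Subtype.ext hr)⟩

theorem Hyp.dC_algebraMap (h : Hyp Q m) (r : R) : h.dC (algebraMap R (Ce Q) r) = 0 := by
  refine Subtype.ext (Subtype.ext ?_)
  rw [h.coe_dC]
  change algebraMap R _ r - h.phi (algebraMap R _ r) = 0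
  rw [sub_eq_zero, h.phi_apply]
  simp only [← Algebra.commutes r, ← Algebra.smul_def, smul_mul_assoc, smul_comm _ r]
  rw [← Finsupp.smul_sum, h.sum_sq, Algebra.algebraMap_eq_smul_one]

variable (Q) in
/-- scalar part on the centre -/
def cstC : Ce Q →ₗ[R] R :=
  cst Q ∘ₗ (CliffordAlgebra.even Q).val.toLinearMap ∘ₗ (Subalgebra.center R (Ev Q)).val.toLinearMap

theorem cstC_algebraMap (r : R) : cstC Q (algebraMap R (Ce Q) r) = r := cst_algebraMap r

theorem Hyp.dC_eq (h : Hyp Q m) (x : Ce Q) : ∀ y, h.dC (h.B x y • x) = h.dC x * h.dC x * h.dC y := by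
  intro y
  rw [map_smul, Algebra.smul_def, h.algebraMap_B]
  ring

theorem Hyp.finite_projective (h : Hyp Q m) :
    Module.Finite R (Ce Q) ∧ Module.Projective R (Ce Q) := by
  classical
  obtain ⟨c, hc⟩ := h.exists_family
  let σ : Ce Q →ₗ[R] Ce Q := ∑ x ∈ c.support, c x • ((h.B x).smulRight x)
  have hσ : ∀ y, h.dC (σ y) = h.dC y := fun y => by
    simp only [σ, LinearMap.sum_apply, LinearMap.smul_apply, LinearMap.smulRight_apply, map_sum,
      map_smul h.dC (c _), h.dC_eq]
    have h1 : (∑ x ∈ c.support, c x • (h.dC x * h.dC x)) = 1 := by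
      simp only [← h.algebraMap_B, Algebra.smul_def, ← map_mul]
      rw [← map_sum]
      exact (congrArg (algebraMap R (Ce Q)) hc).trans (map_one _)
    conv_rhs => rw [← one_mul (h.dC y), ← h1, Finset.sum_mul]
    exact Finset.sum_congr rfl fun x _ => (smul_mul_assoc _ _ _).symm
  let f : Ce Q →ₗ[R] R × (c.support → R) :=
    (cstC Q ∘ₗ (LinearMap.id - σ)).prod (LinearMap.pi fun x => h.B x.1)
  let g : R × (c.support → R) →ₗ[R] Ce Q :=
    (Algebra.linearMap R (Ce Q)).coprod
      (∑ x : c.support, (LinearMap.proj x).smulRight (c x.1 • (x.1 : Ce Q)))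
  have hgf : g.comp f = LinearMap.id := by
    refine LinearMap.ext fun y => ?_
    obtain ⟨r, hr⟩ := h.scalar_of_dC_eq_zero (x := y - σ y) (by rw [map_sub, hσ, sub_self])
    have e1 : cstC Q (y - σ y) = r := by rw [← hr, cstC_algebraMap]
    have e2 : (∑ x : c.support, h.B x.1 y • c x.1 • (x.1 : Ce Q)) = σ y := by
      simp only [σ, LinearMap.sum_apply, LinearMap.smul_apply, LinearMap.smulRight_apply]
      rw [← c.support.sum_coe_sort]
      exact Finset.sum_congr rfl fun x _ => smul_comm _ _ _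
    have e3 : f y = (cstC Q (y - σ y), fun x : c.support => h.B x.1 y) := rfl
    simp only [g, LinearMap.comp_apply, e3, LinearMap.coprod_apply,
      Algebra.linearMap_apply, LinearMap.id_apply, e1, LinearMap.sum_apply,
      LinearMap.smulRight_apply, LinearMap.proj_apply, e2, hr, sub_add_cancel]
  exact ⟨Module.Finite.of_surjective g fun y => ⟨f y, LinearMap.congr_fun hgf y⟩,
    Module.Projective.of_split f g hgf⟩

theorem formallyUnramified_of_involution {S Z : Type*} [CommRing S] [CommRing Z] [Algebra S Z]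
    (φ : Z →ₗ[S] Z) (hT : ∀ x, ∃ r : S, algebraMap S Z r = x + φ x)
    (hN : ∀ x, ∃ r : S, algebraMap S Z r = x * φ x)
    (hann : ∀ t : Ω[Z⁄S], (∀ x, ((x - φ x) * (x - φ x)) • t = 0) → t = 0) :
    Algebra.FormallyUnramified S Z := by
  set D := KaehlerDifferential.D S Z
  have key : ∀ x, (x - φ x) • D x = 0 := fun x => by
    obtain ⟨T, hT⟩ := hT x
    obtain ⟨N, hN⟩ := hN x
    have hp : φ x = algebraMap S Z T - x := by rw [hT]; abel
    have h0 := congrArg D hN
    rw [Derivation.map_algebraMap, Derivation.leibniz, hp, map_sub, Derivation.map_algebraMap,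
      zero_sub, smul_neg, ← hp] at h0
    rw [sub_smul, ← neg_eq_zero, neg_sub, sub_eq_neg_add]
    exact h0.symm
  have hd : ∀ y, D y = 0 := fun y => hann _ fun x => by
    have h3 := key (x + y)
    rw [map_add φ, map_add D, add_sub_add_comm, smul_add, add_smul, add_smul, key x, key y,
      zero_add, add_zero] at h3
    rw [mul_smul, eq_neg_of_add_eq_zero_right h3, smul_neg, smul_comm, key x, smul_zero, neg_zero]
  refine ⟨subsingleton_of_forall_eq 0 fun a => ?_⟩
  have : a ∈ Submodule.span Z (Set.range D) := by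
    rw [KaehlerDifferential.span_range_derivation]; trivial
  induction this using Submodule.span_induction with
  | mem _ hx => obtain ⟨y, rfl⟩ := hx; exact hd y
  | zero => rfl
  | add _ _ _ _ ha hb => rw [ha, hb, add_zero]
  | smul _ _ _ ha => rw [ha, smul_zero]

theorem rankAtStalk_eq_two_of {S N : Type*} [CommRing S] [AddCommGroup N] [Module S N]
    (p : PrimeSpectrum S) (θ : (S × S) →ₗ[S] N) {b : S} (hb : b ∉ p.asIdeal)
    (hinj : ∀ w, θ w = 0 → b • w = 0) (hsurj : ∀ y, ∃ w, θ w = b • y) :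
    Module.rankAtStalk N p = 2 := by
  have : Nontrivial S := ⟨⟨0, b, fun h => hb (h ▸ p.asIdeal.zero_mem)⟩⟩
  have hbij : Function.Bijective (LocalizedModule.map p.asIdeal.primeCompl θ) := by
    constructor
    · rw [injective_iff_map_eq_zero]
      intro z hz
      induction z using LocalizedModule.induction_on with
      | h w s =>
        rw [LocalizedModule.map_mk, ← LocalizedModule.zero_mk s, LocalizedModule.mk_eq] at hz
        obtain ⟨u, hu⟩ := hz
        rw [← LocalizedModule.zero_mk s, LocalizedModule.mk_eq]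
        refine ⟨⟨b, hb⟩ * u, ?_⟩
        simp only [smul_zero, Submonoid.smul_def, Submonoid.coe_mul] at hu ⊢
        rw [mul_smul]
        exact hinj _ (by rw [map_smul, map_smul]; exact hu)
    · intro z
      induction z using LocalizedModule.induction_on with
      | h y s =>
        obtain ⟨w, hw⟩ := hsurj y
        refine ⟨LocalizedModule.mk w (⟨b, hb⟩ * s), ?_⟩
        rw [LocalizedModule.map_mk, hw]
        exact LocalizedModule.mk_cancel_common_left ⟨b, hb⟩ s y
  have h2 : Module.rankAtStalk (S × S) p = 2 := by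
    rw [Module.rankAtStalk_eq_finrank_of_free]
    simp
  rw [← h2]
  exact (LinearEquiv.ofBijective _ hbij).finrank_eq.symm

theorem Hyp.formallyUnramified (h : Hyp Q m) : Algebra.FormallyUnramified R (Ce Q) := by
  refine formallyUnramified_of_involution h.phiC (fun x => ?_) (fun x => ?_)
    fun t ht => h.eq_zero_of_dC_sq_smul ht
  · obtain ⟨r, hr⟩ := h.central_scalar (c := ((x : Ev Q) : CliffordAlgebra Q) + h.phi x) fun v => by
      change _ = _
      rw [mul_add, h.ι_mul_phi (mem_cm x), add_mul, h.phi_mul_ι (mem_cm x), add_comm]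
    exact ⟨r, Subtype.ext (Subtype.ext hr)⟩
  · obtain ⟨r, hr⟩ := h.central_scalar (c := ((x : Ev Q) : CliffordAlgebra Q) * h.phi x) fun v => by
      change _ = _
      have hc : Commute ((x : Ev Q) : CliffordAlgebra Q) (h.phi x) :=
        (mem_cm x).commute (h.phi_mem (mem_even x))
      rw [← mul_assoc, ← h.phi_mul_ι (mem_cm x) v, mul_assoc, h.ι_mul_phi (mem_cm x), ← mul_assoc, hc.eq]
    exact ⟨r, Subtype.ext (Subtype.ext hr)⟩

theorem Hyp.etale (h : Hyp Q m) : Algebra.Etale R (Ce Q) := by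
  obtain ⟨_, _⟩ := h.finite_projective
  have := h.formallyUnramified
  have : Module.FinitePresentation R (Ce Q) := Module.finitePresentation_of_projective R (Ce Q)
  have : Module.Flat R (Ce Q) := Module.Flat.of_projective
  exact Algebra.Etale.of_formallyUnramified_of_flat

theorem Hyp.rankAtStalk_eq_two (h : Hyp Q m) (p : PrimeSpectrum R) :
    Module.rankAtStalk (Ce Q) p = 2 := by
  obtain ⟨_, _⟩ := h.finite_projective
  obtain ⟨x, hx⟩ := h.exists_B_notMem p.asIdeal
  let θ : (R × R) →ₗ[R] Ce Q := (Algebra.linearMap R (Ce Q)).coprod (LinearMap.toSpanSingleton R _ x)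
  have hinj : ∀ w, θ w = 0 → h.B x x • w = 0 := by
    rintro ⟨c, e⟩ hw
    change algebraMap R (Ce Q) c + e • x = 0 at hw
    have h1 := congrArg h.dC hw
    rw [map_add h.dC, h.dC_algebraMap, map_smul h.dC, zero_add, map_zero h.dC] at h1
    have he : h.B x x * e = 0 := by
      have h2 : algebraMap R (Ce Q) (h.B x x * e) = h.dC x * (e • h.dC x) := by
        rw [map_mul, h.algebraMap_B, Algebra.smul_def]; ring
      rw [h1, mul_zero] at h2
      have h3 := congrArg (cstC Q) h2
      rwa [cstC_algebraMap, map_zero] at h3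
    have hc : h.B x x * c = 0 := by
      have h2 := congrArg (h.B x x • ·) hw
      simp only [smul_add, smul_zero, ← mul_smul, he, zero_smul, add_zero] at h2
      rw [Algebra.smul_def, ← map_mul] at h2
      have h3 := congrArg (cstC Q) h2
      rwa [cstC_algebraMap, map_zero] at h3
    exact Prod.ext hc he
  have hsurj : ∀ y, ∃ w, θ w = h.B x x • y := fun y => by
    obtain ⟨r, hr⟩ := h.scalar_of_dC_eq_zero (x := h.B x x • y - h.B x y • x) (by
      rw [map_sub h.dC, h.dC_eq, map_smul h.dC, Algebra.smul_def, h.algebraMap_B, sub_self])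
    exact ⟨(r, h.B x y), by
      change algebraMap R (Ce Q) r + h.B x y • x = _
      rw [hr, sub_add_cancel]⟩
  exact rankAtStalk_eq_two_of p θ hx hinj hsurj

end Groth.Calg7.EvenCliff
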