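/-
The even Clifford algebra of a regular form of even rank is Azumaya over its centre.
-/
import Mathlib
import Groth.Agent.Calg7.EvenCliffCentre

set_option linter.unusedSectionVars false

noncomputable section

open scoped TensorProduct
open QuadraticMap CliffordAlgebra MulOpposite
open Groth.Misc12.Cliff

universe u v w

namespace Groth.Calg7.EvenCliff

variable {R : Type u} [CommRing R] {M : Type v} [AddCommGroup M] [Module R M] {Q : QuadraticForm R M}
  [Module.Free R M] [Module.Finite R M] {m : ℕ}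

variable (Q) in
/-- the even part over its centre -/
abbrev algC : Algebra (Ce Q) (Ev Q) :=
  (Subalgebra.center R (Ev Q)).val.toRingHom.toAlgebra'
    (fun c x => (Subalgebra.mem_center_iff.mp c.2 x).symm)

attribute [local instance 2000] algC

instance tower : IsScalarTower R (Ce Q) (Ev Q) :=
  IsScalarTower.of_algebraMap_eq fun _ => rfl

variable (Q) in
/-- module structure of the algebra structure -/
abbrev modC : Module (Ce Q) (Ev Q) := @Algebra.toModule _ _ _ _ (algC Q)

variable (Q) in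
/-- module structure on the opposite -/
abbrev modCop : Module (Ce Q) (Ev Q)ᵐᵒᵖ := @MulOpposite.instModule _ _ _ _ (modC Q)

attribute [local instance 2000] modC modCop

instance towerM : @IsScalarTower R (Ce Q) (Ev Q) _ (modC Q).toSMul _ :=
  tower

instance towerOp : @IsScalarTower R (Ce Q) (Ev Q)ᵐᵒᵖ _ (modCop Q).toSMul _ :=
  ⟨fun r c x => MulOpposite.unop_injective (tower.smul_assoc r c x.unop)⟩

theorem smul_coe (c : Ce Q) (y : Ev Q) :
    ((c • y : Ev Q) : CliffordAlgebra Q) = (c : Ev Q) * (y : CliffordAlgebra Q) := rfl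

variable (Q) in
/-- even component -/
def p0 : CliffordAlgebra Q →ₗ[R] Ev Q where
  toFun x := ⟨DirectSum.decompose (evenOdd Q) x 0, SetLike.coe_mem _⟩
  map_add' x y := Subtype.ext (by rw [DirectSum.decompose_add]; rfl)
  map_smul' r x := Subtype.ext (by rw [DirectSum.decompose_smul]; rfl)

variable (Q) in
/-- odd component -/
def o1 : CliffordAlgebra Q →ₗ[R] CliffordAlgebra Q where
  toFun x := DirectSum.decompose (evenOdd Q) x 1
  map_add' x y := by simp [DirectSum.decompose_add]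
  map_smul' r x := by rw [DirectSum.decompose_smul]; rfl

theorem p0_even {x : CliffordAlgebra Q} (hx : x ∈ evenOdd Q 0) : p0 Q x = ⟨x, hx⟩ :=
  Subtype.ext (DirectSum.decompose_of_mem_same _ hx)

theorem p0_odd {x : CliffordAlgebra Q} (hx : x ∈ evenOdd Q 1) : p0 Q x = 0 :=
  Subtype.ext (DirectSum.decompose_of_mem_ne _ hx (by decide))

theorem o1_mem (x : CliffordAlgebra Q) : o1 Q x ∈ evenOdd Q 1 := SetLike.coe_mem _

theorem p0_add_o1 (x : CliffordAlgebra Q) : (p0 Q x : CliffordAlgebra Q) + o1 Q x = x :=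
  (sum_decompose x).symm

theorem p0_mul_mul (a b : CliffordAlgebra Q) (y : Ev Q) :
    (p0 Q (a * y * b) : CliffordAlgebra Q) =
      (p0 Q a : CliffordAlgebra Q) * y * p0 Q b + o1 Q a * y * o1 Q b := by
  have ha : (p0 Q a : CliffordAlgebra Q) ∈ evenOdd Q 0 := (p0 Q a).2
  have hb : (p0 Q b : CliffordAlgebra Q) ∈ evenOdd Q 0 := (p0 Q b).2
  have hy : (y : CliffordAlgebra Q) ∈ evenOdd Q 0 := y.2
  have h00 := SetLike.mul_mem_graded (SetLike.mul_mem_graded ha hy) hb
  have h01 := SetLike.mul_mem_graded (SetLike.mul_mem_graded ha hy) (o1_mem b)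
  have h10 := SetLike.mul_mem_graded (SetLike.mul_mem_graded (o1_mem a) hy) hb
  have h11 := SetLike.mul_mem_graded (SetLike.mul_mem_graded (o1_mem a) hy) (o1_mem b)
  simp only [add_zero, zero_add, show (1 : ZMod 2) + 1 = 0 from by decide] at h00 h01 h10 h11
  conv_lhs => rw [← p0_add_o1 a, ← p0_add_o1 b]
  simp only [add_mul, mul_add, map_add, p0_even h00, p0_even h11, p0_odd h01, p0_odd h10,
    Subalgebra.coe_add, ZeroMemClass.coe_zero, add_zero, zero_add]

variable (Q) in
/-- the component map `C ⊗ Cᵒᵖ → E ⊗ Eᵒᵖ` over the centre -/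
def gam : CliffordAlgebra Q ⊗[R] (CliffordAlgebra Q)ᵐᵒᵖ →ₗ[R] (Ev Q) ⊗[Ce Q] (Ev Q)ᵐᵒᵖ :=
  TensorProduct.lift (LinearMap.mk₂ R (fun a b => p0 Q a ⊗ₜ[Ce Q] op (p0 Q b.unop))
    (fun a a' b => by rw [map_add, TensorProduct.add_tmul])
    (fun r a b => by rw [map_smul, TensorProduct.smul_tmul'])
    (fun a b b' => by rw [unop_add, map_add, op_add, TensorProduct.tmul_add])
    (fun r a b => by rw [unop_smul, map_smul, op_smul, TensorProduct.tmul_smul]))

theorem exists_decomp (q : CliffordAlgebra Q ⊗[R] (CliffordAlgebra Q)ᵐᵒᵖ) (h : Hyp Q m) :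
    ∃ (g : (Ev Q) ⊗[Ce Q] (Ev Q)ᵐᵒᵖ) (T : Ev Q → CliffordAlgebra Q),
      (∀ (x : Ce Q) (y : Ev Q), T (x • y) = ((h.phiC x : Ce Q) : Ev Q) * T y) ∧
      ∀ y : Ev Q, (p0 Q (sand (AlgHom.id R _) (AlgHom.id R _) q (y : CliffordAlgebra Q)) : CliffordAlgebra Q) =
        (AlgHom.mulLeftRight (Ce Q) (Ev Q) g y : Ev Q) + T y := by
  induction q using TensorProduct.induction_on with
  | zero => exact ⟨0, 0, fun x y => (mul_zero _).symm, fun y => by simp [map_zero]⟩
  | tmul a b =>
    refine ⟨p0 Q a ⊗ₜ op (p0 Q b.unop), fun y => o1 Q a * y * o1 Q b.unop, fun x y => ?_, fun y => ?_⟩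
    · dsimp only
      rw [smul_coe, ← mul_assoc, h.odd_mul (mem_cm x) (o1_mem a), mul_assoc (h.phi _), mul_assoc (h.phi _)]
      rfl
    · rw [sand_tmul, AlgHom.id_apply, AlgHom.id_apply, p0_mul_mul, AlgHom.mulLeftRight_apply]
      rfl
  | add q q' hq hq' =>
    obtain ⟨g, T, hT, hg⟩ := hq
    obtain ⟨g', T', hT', hg'⟩ := hq'
    refine ⟨g + g', T + T', fun x y => by simp [hT, hT', mul_add], fun y => ?_⟩
    simp only [map_add, LinearMap.add_apply, Subalgebra.coe_add, hg, hg', Pi.add_apply]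
    abel

theorem Hyp.surjective (h : Hyp Q m) :
    Function.Surjective (AlgHom.mulLeftRight (Ce Q) (Ev Q)) := by
  intro f
  let F : Module.End R (CliffordAlgebra Q) :=
    (CliffordAlgebra.even Q).val.toLinearMap ∘ₗ (f.restrictScalars R) ∘ₗ p0 Q
  obtain ⟨q, hq⟩ := h.mu_bijective.2 F
  obtain ⟨g, T, hT, hg⟩ := exists_decomp q h
  refine ⟨g, LinearMap.ext fun y => ?_⟩
  have hval : ∀ y : Ev Q, ((f y : Ev Q) : CliffordAlgebra Q) =
      (AlgHom.mulLeftRight (Ce Q) (Ev Q) g y : Ev Q) + T y := fun y => by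
    rw [← hg, hq]
    change _ = (p0 Q ((f (p0 Q (y : CliffordAlgebra Q)) : Ev Q) : CliffordAlgebra Q) : CliffordAlgebra Q)
    rw [p0_even (x := (y : CliffordAlgebra Q)) y.2, p0_even (x := ((f _ : Ev Q) : CliffordAlgebra Q)) (f _).2]
  let D : Ev Q := f y - AlgHom.mulLeftRight (Ce Q) (Ev Q) g y
  have hD : D = 0 := h.eq_zero_of_dC_sq_smul (T := Ev Q) fun x => by
    refine Subtype.ext ?_
    change (h.dlt ((x : Ev Q) : CliffordAlgebra Q) * h.dlt ((x : Ev Q) : CliffordAlgebra Q)) * (D : CliffordAlgebra Q) = 0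
    rw [mul_assoc]
    suffices h.dlt ((x : Ev Q) : CliffordAlgebra Q) * (D : CliffordAlgebra Q) = 0 by rw [this, mul_zero]
    have h1 := hval (x • y)
    rw [hT, map_smul, map_smul, smul_coe, smul_coe, hval y, mul_add, add_right_inj] at h1
    rw [show (D : CliffordAlgebra Q) = T y from by
      simp only [D, AddSubgroupClass.coe_sub, hval y, add_sub_cancel_left]]
    rw [Hyp.dlt, sub_mul, h1]
    exact sub_self _
  exact (sub_eq_zero.mp hD).symm

theorem Hyp.psi_eq_zero (h : Hyp Q m) (e : Ce Q ⊗[R] Ce Q)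
    (he : ∀ s : Ce Q, ((1 : Ce Q) ⊗ₜ[R] s) * e = (s ⊗ₜ 1) * e) :
    TensorProduct.lift (LinearMap.compl₂ (LinearMap.mul R (Ce Q)) h.phiC) e = 0 := by
  let ψ := TensorProduct.lift (LinearMap.compl₂ (LinearMap.mul R (Ce Q)) h.phiC)
  have h1 : ∀ (s : Ce Q) (t : Ce Q ⊗[R] Ce Q), ψ ((s ⊗ₜ 1) * t) = s * ψ t := fun s t => by
    induction t using TensorProduct.induction_on with
    | zero => simp
    | tmul a b => simp [ψ, mul_assoc]
    | add a b ha hb => simp only [mul_add, map_add, ha, hb]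
  have h2 : ∀ (s : Ce Q) (t : Ce Q ⊗[R] Ce Q), ψ (((1 : Ce Q) ⊗ₜ s) * t) = h.phiC s * ψ t := fun s t => by
    induction t using TensorProduct.induction_on with
    | zero => simp
    | tmul a b => simp [ψ, h.phiC_mul, mul_left_comm]
    | add a b ha hb => simp only [mul_add, map_add, ha, hb]
  refine h.eq_zero_of_dC_sq_smul fun x => ?_
  have := congrArg ψ (he x)
  rw [h1, h2] at this
  change (h.dC x * h.dC x) * ψ e = 0
  have h0 : h.dC x * ψ e = 0 :=
    (sub_mul x (h.phiC x) (ψ e)).trans (sub_eq_zero.mpr this.symm)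
  calc (h.dC x * h.dC x) * ψ e = h.dC x * (h.dC x * ψ e) := mul_assoc _ _ _
    _ = h.dC x * 0 := congrArg (h.dC x * ·) h0
    _ = 0 := mul_zero _

theorem balance (v : Ce Q) (x b : Ev Q) :
    (v • x) ⊗ₜ[Ce Q] op b = x ⊗ₜ[Ce Q] op (v • b) := by
  calc (v • x) ⊗ₜ[Ce Q] op b = TensorProduct.mk (Ce Q) (Ev Q) (Ev Q)ᵐᵒᵖ (v • x) (op b) := rfl
    _ = v • TensorProduct.mk (Ce Q) (Ev Q) (Ev Q)ᵐᵒᵖ x (op b) :=
      LinearMap.congr_fun (LinearMap.map_smul (TensorProduct.mk (Ce Q) (Ev Q) (Ev Q)ᵐᵒᵖ) v x) (op b)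
    _ = TensorProduct.mk (Ce Q) (Ev Q) (Ev Q)ᵐᵒᵖ x (v • op b) :=
      (LinearMap.map_smul (TensorProduct.mk (Ce Q) (Ev Q) (Ev Q)ᵐᵒᵖ x) v (op b)).symm
    _ = _ := rfl

theorem Hyp.exists_preimage (h : Hyp Q m) (e : Ce Q ⊗[R] Ce Q) (a b : Ev Q) :
    ∃ Q' : CliffordAlgebra Q ⊗[R] (CliffordAlgebra Q)ᵐᵒᵖ,
      gam Q Q' = (TensorProduct.lift (LinearMap.mul R (Ce Q)) e • a) ⊗ₜ op b ∧
      ∀ y, sand (AlgHom.id R _) (AlgHom.id R _) Q' y =
        (a : CliffordAlgebra Q) * ((TensorProduct.lift (LinearMap.mul R (Ce Q)) e : Ce Q) : Ev Q) *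
            (p0 Q y : CliffordAlgebra Q) * b +
          (a : CliffordAlgebra Q) *
            ((TensorProduct.lift (LinearMap.compl₂ (LinearMap.mul R (Ce Q)) h.phiC) e : Ce Q) : Ev Q) *
            o1 Q y * b := by
  induction e using TensorProduct.induction_on with
  | zero => exact ⟨0, by simp, by simp⟩
  | tmul u v =>
    refine ⟨(((u • a : Ev Q)) : CliffordAlgebra Q) ⊗ₜ op ((v • b : Ev Q) : CliffordAlgebra Q), ?_, fun y => ?_⟩
    · simp only [gam, TensorProduct.lift.tmul, LinearMap.mk₂_apply, unop_op, LinearMap.mul_apply']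
      rw [p0_even (x := ((u • a : Ev Q) : CliffordAlgebra Q)) (u • a).2,
        p0_even (x := ((v • b : Ev Q) : CliffordAlgebra Q)) (v • b).2]
      have e1 : ((u * v : Ce Q) • a : Ev Q) = (v • (u • a) : Ev Q) := Subtype.ext (by
        rw [smul_coe, smul_coe, smul_coe, ← mul_assoc]
        exact congrArg (· * (a : CliffordAlgebra Q)) ((mem_cm u).commute (mem_even v)).eq)
      rw [e1]
      exact (balance v (u • a) b).symm
    · simp only [sand_tmul, AlgHom.id_apply, unop_op, TensorProduct.lift.tmul, LinearMap.mul_apply',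
        LinearMap.compl₂_apply, smul_coe]
      have hv0 : (v : Ev Q) * (p0 Q y : CliffordAlgebra Q) = (p0 Q y : CliffordAlgebra Q) * (v : Ev Q) :=
        (mem_cm v).commute (p0 Q y).2
      have hua : ((u : Ev Q) : CliffordAlgebra Q) * a = a * (u : Ev Q) := (mem_cm u).commute a.2
      have hv1 : o1 Q y * ((v : Ev Q) : CliffordAlgebra Q) = h.phi (v : Ev Q) * o1 Q y :=
        h.odd_mul (mem_cm v) (o1_mem y)
      conv_lhs => rw [hua, ← p0_add_o1 y]
      simp only [mul_add, add_mul, mul_assoc]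
      congr 1
      · change _ = (a : CliffordAlgebra Q) * (((u : Ev Q) : CliffordAlgebra Q) * (v : Ev Q) * ((p0 Q y : CliffordAlgebra Q) * b))
        rw [mul_assoc, ← mul_assoc ((v : Ev Q) : CliffordAlgebra Q), hv0, mul_assoc (p0 Q y : CliffordAlgebra Q)]
      · change _ = (a : CliffordAlgebra Q) * (((u : Ev Q) : CliffordAlgebra Q) * h.phi (v : Ev Q) * (o1 Q y * b))
        rw [mul_assoc, ← mul_assoc (h.phi _), ← hv1, mul_assoc (o1 Q y)]
  | add e e' he he' =>
    obtain ⟨A, hA, hA'⟩ := he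
    obtain ⟨B, hB, hB'⟩ := he'
    refine ⟨A + B, ?_, fun y => ?_⟩
    · rw [map_add, map_add, hA, hB, ← TensorProduct.add_tmul]
      exact congrArg (· ⊗ₜ[Ce Q] op b) (Subtype.ext (by
        rw [Subalgebra.coe_add, smul_coe, smul_coe, smul_coe, Subalgebra.coe_add, Subalgebra.coe_add, add_mul]))
    simp only [map_add, LinearMap.add_apply, hA', hB', Subalgebra.coe_add, mul_add, add_mul]
    abel

theorem Hyp.injective (h : Hyp Q m) :
    Function.Injective (AlgHom.mulLeftRight (Ce Q) (Ev Q)) := by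
  have := h.formallyUnramified
  have : Algebra.EssFiniteType R (Ce Q) := by
    obtain ⟨_, _⟩ := h.finite_projective
    infer_instance
  let e := Algebra.FormallyUnramified.elem R (Ce Q)
  have hμe : TensorProduct.lift (LinearMap.mul R (Ce Q)) e = 1 := Algebra.FormallyUnramified.lmul_elem
  have hψe := h.psi_eq_zero e Algebra.FormallyUnramified.one_tmul_mul_elem
  have key : ∀ q, ∃ Q', gam Q Q' = q ∧ ∀ y, sand (AlgHom.id R _) (AlgHom.id R _) Q' y =
      ((AlgHom.mulLeftRight (Ce Q) (Ev Q) q (p0 Q y) : Ev Q) : CliffordAlgebra Q) := by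
    intro q
    induction q using TensorProduct.induction_on with
    | zero => exact ⟨0, by simp, by simp⟩
    | tmul a b =>
      obtain ⟨Q', h1, h2⟩ := h.exists_preimage e a b.unop
      refine ⟨Q', by rw [h1, hμe, one_smul]; rfl, fun y => ?_⟩
      rw [h2, hμe, hψe, AlgHom.mulLeftRight_apply]
      simp
    | add q q' hq hq' =>
      obtain ⟨A, hA, hA'⟩ := hq
      obtain ⟨B, hB, hB'⟩ := hq'
      exact ⟨A + B, by rw [map_add, hA, hB], fun y => by
        simp only [map_add, LinearMap.add_apply, hA', hB', Subalgebra.coe_add]⟩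
  rw [injective_iff_map_eq_zero]
  intro q hq
  obtain ⟨Q', hQ1, hQ2⟩ := key q
  have : Q' = 0 := h.mu_bijective.1 (by
    rw [map_zero]
    exact LinearMap.ext fun y => by rw [hQ2, hq]; rfl)
  rw [← hQ1, this, map_zero]

theorem Hyp.isAzumaya (h : Hyp Q m) : IsAzumaya (Ce Q) (Ev Q) := by
  haveI := free Q
  haveI := Groth.Misc12.Cliff.finite Q
  have hproj : Module.Projective R (Ev Q) :=
    Module.Projective.of_split (CliffordAlgebra.even Q).val.toLinearMap (p0 Q)
      (LinearMap.ext fun y => p0_even (x := (y : CliffordAlgebra Q)) y.2)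
  have hfin : Module.Finite R (Ev Q) :=
    Module.Finite.of_surjective (p0 Q) fun y => ⟨y, p0_even (x := (y : CliffordAlgebra Q)) y.2⟩
  have := h.formallyUnramified
  have : Algebra.EssFiniteType R (Ce Q) := by
    obtain ⟨_, _⟩ := h.finite_projective
    infer_instance
  have : Module.Projective (Ce Q) (Ev Q) :=
    Algebra.FormallyUnramified.projective_of_restrictScalars R (Ce Q) (Ev Q)
  have : Module.Finite (Ce Q) (Ev Q) := Module.Finite.of_restrictScalars_finite R (Ce Q) (Ev Q)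
  have hfs : FaithfulSMul (Ce Q) (Ev Q) := ⟨fun {c d} hcd => by
    have := congrArg Subtype.val (hcd 1)
    rw [smul_coe, smul_coe, Subalgebra.coe_one, mul_one, mul_one] at this
    exact Subtype.ext (Subtype.ext this)⟩
  exact @IsAzumaya.mk _ _ _ _ (algC Q) (by assumption) hfs (by assumption) ⟨h.injective, h.surjective⟩

end Groth.Calg7.EvenCliff
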