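/-
A regular quadratic form of even rank becomes hyperbolic over a faithfully flat finitely presented algebra.
-/
import Mathlib
import Groth.Agent.Misc12.Quad.Lift
import Groth.Agent.Misc12.Cliff.Global

set_option linter.unusedSectionVars false

noncomputable section

open scoped TensorProduct Matrix
open QuadraticMap Groth.Misc12.Quad Groth.Misc12.Cliff

universe u v

namespace Groth.Calg7.EvenSplit

variable {R : Type u} [CommRing R] {m : ℕ}

/-- the matrix of the hyperbolic form -/
def beta0 (R : Type u) [CommRing R] (m : ℕ) : Matrix (Fin (m + m)) (Fin (m + m)) R :=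
  Matrix.of fun i j => if (i : ℕ) + m = j then 1 else 0

/-- the partner index -/
def swap (i : Fin (m + m)) : Fin (m + m) :=
  ⟨if (i : ℕ) < m then i + m else i - m, by have := i.2; split_ifs <;> omega⟩

theorem polar0_apply (hm : 1 ≤ m) (i j : Fin (m + m)) :
    (beta0 R m + (beta0 R m)ᵀ) i j = if j = swap i then 1 else 0 := by
  have := i.2; have := j.2
  simp only [beta0, Matrix.add_apply, Matrix.transpose_apply, Matrix.of_apply, swap, Fin.ext_iff]
  split_ifs <;> first | omega | simp

theorem swap_swap (i : Fin (m + m)) : swap (swap i) = i := by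
  have := i.2
  simp only [swap, Fin.ext_iff]
  split_ifs <;> omega

theorem isUnit_det_polar0 (hm : 1 ≤ m) : IsUnit (beta0 R m + (beta0 R m)ᵀ).det := by
  refine Matrix.isUnit_det_of_left_inverse (B := beta0 R m + (beta0 R m)ᵀ) ?_
  ext i k
  rw [Matrix.mul_apply, Finset.sum_eq_single (swap i), polar0_apply hm, polar0_apply hm, if_pos rfl,
    one_mul, swap_swap, Matrix.one_apply]
  · by_cases h : i = k
    · rw [if_pos h.symm, if_pos h]
    · rw [if_neg (Ne.symm h), if_neg h]
  · intro j _ hj
    rw [polar0_apply hm, if_neg hj, zero_mul]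
  · simp

theorem beta0_map {A : Type*} [CommRing A] (f : R →+* A) :
    (beta0 R m).map f = Matrix.of fun i j : Fin (m + m) => if (i : ℕ) + m = j then (1 : A) else 0 := by
  ext i j
  simp [beta0, apply_ite f]

theorem castAdd_add (i : Fin m) (j : Fin (m + m)) :
    ((Fin.castAdd m i : Fin (m + m)) : ℕ) + m = j ↔ j = Fin.natAdd m i := by
  simp [Fin.ext_iff]; omega

theorem beta0_toQuad {A : Type*} [CommRing A] (c : Fin (m + m) → A) :
    ∑ i, ∑ j, c i * c j * (if (i : ℕ) + m = j then (1 : A) else 0) =
      ∑ i : Fin m, c (Fin.castAdd m i) * c (Fin.natAdd m i) := by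
  simp only [mul_ite, mul_one, mul_zero]
  rw [Fin.sum_univ_add]
  conv_rhs => rw [← add_zero (∑ i : Fin m, c (Fin.castAdd m i) * c (Fin.natAdd m i))]
  congr 1
  · refine Finset.sum_congr rfl fun i _ => ?_
    simp only [castAdd_add, Finset.sum_ite_eq', Finset.mem_univ, if_true]
  · refine Finset.sum_eq_zero fun i _ => Finset.sum_eq_zero fun j _ => if_neg ?_
    have := j.2
    simp only [Fin.val_natAdd]
    omega

section Entries

variable {A : Type u} [CommRing A] {V : Type u} [AddCommGroup V] [Module A V] {n : ℕ}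
  (bV : Module.Basis (Fin n) A V) (B : LinearMap.BilinForm A V) (w : Fin n → V)

theorem conj_apply (i j : Fin n) :
    ((bV.toMatrix w)ᵀ * LinearMap.BilinForm.toMatrix bV B * bV.toMatrix w) i j = B (w i) (w j) := by
  conv_rhs => rw [← bV.sum_repr (w i), ← bV.sum_repr (w j)]
  simp only [map_sum, map_smul, LinearMap.coe_sum, Finset.sum_apply, LinearMap.smul_apply, smul_eq_mul,
    Matrix.mul_apply, Matrix.transpose_apply, Module.Basis.toMatrix_apply, LinearMap.BilinForm.toMatrix_apply,
    Finset.sum_mul, Finset.mul_sum]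
  refine Finset.sum_congr rfl fun a _ => Finset.sum_congr rfl fun c _ => ?_
  ring

theorem cf_conj (i j : Fin n) :
    cf ((bV.toMatrix w)ᵀ * LinearMap.BilinForm.toMatrix bV B * bV.toMatrix w) (Sym2.mk i j) =
      if i = j then B.toQuadraticMap (w i) else QuadraticMap.polar B.toQuadraticMap (w i) (w j) := by
  rw [cf_mk]
  simp only [conj_apply, LinearMap.BilinMap.toQuadraticMap_apply, LinearMap.BilinMap.polar_toQuadraticMap]

end Entries

theorem exists_point {k : Type u} [Field k] [IsAlgClosed k] {V : Type u} [AddCommGroup V] [Module k V]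
    {P : QuadraticForm k V} (F : Planes P m) (hm : 1 ≤ m) :
    ∃ w : Fin (m + m) → V, ∀ i j, (if i = j then P (w i) else polar P (w i) (w j)) =
      cf (beta0 k m) (Sym2.mk i j) := by
  classical
  have hplane : ∀ i, ∃ e e' : V, P e = 0 ∧ P e' = 0 ∧ polar P e e' = 1 ∧
      e ∈ Submodule.span k {F.a i, F.b i} ∧ e' ∈ Submodule.span k {F.a i, F.b i} := by
    intro i
    set A := P (F.a i)
    set B := P (F.b i)
    have hA : A ≠ 0 := (F.aniso i).ne_zero
    obtain ⟨x, hx⟩ := IsAlgClosed.exists_root (Polynomial.C A * Polynomial.X ^ 2 + Polynomial.X + Polynomial.C B)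
      (by rw [show Polynomial.C A * Polynomial.X ^ 2 + Polynomial.X + Polynomial.C B
            = Polynomial.C A * Polynomial.X ^ 2 + Polynomial.C 1 * Polynomial.X + Polynomial.C B by simp,
          Polynomial.degree_quadratic hA]; decide)
    have hx' : A * x ^ 2 + x + B = 0 := by simpa using hx
    have hval : ∀ y : k, P (y • F.a i + F.b i) = A * y ^ 2 + y + B := fun y => by
      rw [QuadraticMap.map_add (⇑P), QuadraticMap.map_smul, polar_smul_left, F.ab i, smul_eq_mul, smul_eq_mul]
      ring
    set y := -(1 / A) - x with hy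
    have hy' : A * y ^ 2 + y + B = 0 := by
      rw [hy]; field_simp; linear_combination A * hx'
    have hpe : polar P (x • F.a i + F.b i) (y • F.a i + F.b i) = (4 * A * B - 1) / A := by
      simp only [polar_add_left, polar_add_right, polar_smul_left, polar_smul_right, polar_self, smul_eq_mul,
        F.ab i, F.ba i, nsmul_eq_mul, Nat.cast_ofNat]
      rw [hy]; field_simp
      linear_combination (-2 * A) * hx'
    have hne : (4 * A * B - 1) / A ≠ 0 := div_ne_zero (sub_ne_zero.2 fun h => by
      have := (F.disc i).ne_zero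
      exact this (by rw [h, sub_self])) hA
    have hspan : ∀ z : k, z • F.a i + F.b i ∈ Submodule.span k {F.a i, F.b i} := fun z =>
      add_mem (Submodule.smul_mem _ _ (Submodule.subset_span (Set.mem_insert _ _)))
        (Submodule.subset_span (Set.mem_insert_of_mem _ rfl))
    refine ⟨x • F.a i + F.b i, ((4 * A * B - 1) / A)⁻¹ • (y • F.a i + F.b i), by rw [hval, hx'], ?_, ?_,
      hspan x, Submodule.smul_mem _ _ (hspan y)⟩
    · rw [QuadraticMap.map_smul, hval, hy', smul_zero]
    · rw [polar_smul_right, hpe, smul_eq_mul, inv_mul_cancel₀ hne]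
  choose e e' he he' hee hse hse' using hplane
  have horth : ∀ i j, i ≠ j → ∀ z ∈ Submodule.span k {F.a i, F.b i}, ∀ z' ∈ Submodule.span k {F.a j, F.b j},
      polar P z z' = 0 := by
    intro i j hij z hz z' hz'
    obtain ⟨a, b, rfl⟩ := Submodule.mem_span_pair.mp hz
    obtain ⟨a', b', rfl⟩ := Submodule.mem_span_pair.mp hz'
    simp only [polar_add_left, polar_add_right, polar_smul_left, polar_smul_right, F.aa i j hij, F.bb i j hij,
      F.ab' i j hij, F.ba' i j hij, smul_zero, add_zero]
  refine ⟨Fin.addCases e e', fun i j => ?_⟩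
  rw [cf_mk]
  simp only [beta0, Matrix.of_apply]
  induction i using Fin.addCases with
  | left i => induction j using Fin.addCases with
    | left j =>
      simp only [Fin.addCases_left, Fin.castAdd_inj]
      have := i.2; have := j.2
      rcases eq_or_ne i j with rfl | h
      · rw [if_pos rfl, if_pos rfl, he, if_neg (by simp; omega)]
      · rw [if_neg h, if_neg h, horth i j h _ (hse i) _ (hse j), if_neg (by simp; omega), if_neg (by simp; omega), add_zero]
    | right j =>
      simp only [Fin.addCases_left, Fin.addCases_right]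
      have := i.2; have := j.2
      rw [if_neg (by simp [Fin.ext_iff]; omega), if_neg (by simp [Fin.ext_iff]; omega)]
      rcases eq_or_ne i j with rfl | h
      · rw [hee, if_pos (by simp <;> omega), if_neg (by simp <;> omega), add_zero]
      · rw [horth i j h _ (hse i) _ (hse' j), if_neg (by simp [Fin.ext_iff] at h ⊢; omega), if_neg (by simp; omega), add_zero]
  | right i => induction j using Fin.addCases with
    | left j =>
      simp only [Fin.addCases_left, Fin.addCases_right]
      have := i.2; have := j.2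
      rw [if_neg (by simp [Fin.ext_iff]; omega), if_neg (by simp [Fin.ext_iff]; omega)]
      rcases eq_or_ne i j with rfl | h
      · rw [polar_comm, hee, if_neg (by simp <;> omega), if_pos (by simp <;> omega), zero_add]
      · rw [horth i j h _ (hse' i) _ (hse j), if_neg (by simp; omega), if_neg (by simp [Fin.ext_iff] at h ⊢; omega), add_zero]
    | right j =>
      simp only [Fin.addCases_right]
      have := i.2; have := j.2
      rcases eq_or_ne i j with rfl | h
      · rw [if_pos rfl, if_pos rfl, he', if_neg (by simp; omega)]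
      · rw [if_neg (by simpa [Fin.ext_iff] using h), if_neg (by simpa [Fin.ext_iff] using h),
          horth i j h _ (hse' i) _ (hse' j), if_neg (by simp; omega), if_neg (by simp; omega), add_zero]

section Triv

variable {n : ℕ} (β β₀ : Matrix (Fin n) (Fin n) R)

/-- the equations `cf (Gᵀ β G) = cf β₀` -/
def rels (z : Sym2 (Fin n)) : MvPolynomial (Fin n × Fin n) R :=
  cf ((Matrix.mvPolynomialX (Fin n) (Fin n) R)ᵀ * β.map MvPolynomial.C * Matrix.mvPolynomialX (Fin n) (Fin n) R) z
    - cf (β₀.map MvPolynomial.C) z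

/-- the ring of isometry matrices -/
abbrev Iso : Type u := MvPolynomial (Fin n × Fin n) R ⧸ Ideal.span (Set.range (rels β β₀))

variable {β β₀}

theorem rels_eval {A : Type u} [CommRing A] [Algebra R A] (φ : MvPolynomial (Fin n × Fin n) R →ₐ[R] A) :
    (∀ z, φ (rels β β₀ z) = 0) ↔
      cf (((Matrix.mvPolynomialX (Fin n) (Fin n) R).map φ)ᵀ * β.map (algebraMap R A) *
        (Matrix.mvPolynomialX (Fin n) (Fin n) R).map φ) = cf (β₀.map (algebraMap R A)) := by
  have hC : ∀ N : Matrix (Fin n) (Fin n) R, (N.map MvPolynomial.C).map φ.toRingHom = N.map (algebraMap R A) := fun N => by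
    ext i j; exact φ.commutes (N i j)
  have h1 : ∀ z, φ (rels β β₀ z) =
      cf (((Matrix.mvPolynomialX (Fin n) (Fin n) R).map φ)ᵀ * β.map (algebraMap R A) * (Matrix.mvPolynomialX (Fin n) (Fin n) R).map φ) z
        - cf (β₀.map (algebraMap R A)) z := by
    intro z
    change φ.toRingHom _ = _
    rw [rels, map_sub, ← congrFun (cf_map _ _) z, ← congrFun (cf_map _ _) z, Matrix.map_mul, Matrix.map_mul,
      Matrix.transpose_map, hC, hC]
    rfl
  exact ⟨fun h => funext fun z => sub_eq_zero.1 ((h1 z).symm.trans (h z)),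
    fun h z => by rw [h1, h, sub_self]⟩

theorem exists_iso_hom {A : Type u} [CommRing A] [Algebra R A] {G : Matrix (Fin n) (Fin n) A}
    (h : cf (Gᵀ * β.map (algebraMap R A) * G) = cf (β₀.map (algebraMap R A))) :
    ∃ φ : Iso β β₀ →ₐ[R] A,
      (Matrix.mvPolynomialX (Fin n) (Fin n) R).map (φ.comp (Ideal.Quotient.mkₐ R _)) = G := by
  let φ₀ : MvPolynomial (Fin n × Fin n) R →ₐ[R] A := MvPolynomial.aeval fun p => G p.1 p.2
  have hG : (Matrix.mvPolynomialX (Fin n) (Fin n) R).map φ₀ = G := by
    ext i j; exact MvPolynomial.aeval_X _ _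
  refine ⟨Ideal.Quotient.liftₐ _ φ₀ fun a ha => ?_, hG⟩
  rw [← RingHom.mem_ker]
  refine Ideal.span_le.2 ?_ ha
  rintro _ ⟨z, rfl⟩
  exact (rels_eval φ₀).2 (hG.symm ▸ h) z

theorem iso_univ {A : Type u} [CommRing A] [Algebra R A] (φ : Iso β β₀ →ₐ[R] A) :
    cf (((Matrix.mvPolynomialX (Fin n) (Fin n) R).map (φ.comp (Ideal.Quotient.mkₐ R _)))ᵀ * β.map (algebraMap R A) *
        (Matrix.mvPolynomialX (Fin n) (Fin n) R).map (φ.comp (Ideal.Quotient.mkₐ R _))) = cf (β₀.map (algebraMap R A)) :=
  (rels_eval _).1 fun r => by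
    rw [AlgHom.comp_apply, Ideal.Quotient.mkₐ_eq_mk,
      Ideal.Quotient.eq_zero_iff_mem.2 (Ideal.subset_span (Set.mem_range_self r)), map_zero]

theorem formallySmooth_iso (h0 : IsUnit (β₀ + β₀ᵀ).det) : Algebra.FormallySmooth R (Iso β β₀) := by
  rw [Algebra.FormallySmooth.iff_comp_surjective]
  intro A _ _ J hJ φ
  have hGb := iso_univ φ
  set Gb := (Matrix.mvPolynomialX (Fin n) (Fin n) R).map (φ.comp (Ideal.Quotient.mkₐ R (Ideal.span (Set.range (rels β β₀))))) with hGbdef
  choose lift hlift using Ideal.Quotient.mk_surjective (I := J)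
  set G := Gb.map lift
  have hG : G.map (Ideal.Quotient.mk J) = Gb := by ext a b; exact hlift _
  set γ := Gᵀ * β.map (algebraMap R A) * G
  set δ := β₀.map (algebraMap R A)
  have e : ∀ N : Matrix (Fin n) (Fin n) R,
      (N.map (algebraMap R A)).map (Ideal.Quotient.mk J) = N.map (algebraMap R (A ⧸ J)) :=
    fun N => map_algebraMap N (Ideal.Quotient.mkₐ R J)
  have hγ : γ.map (Ideal.Quotient.mk J) = Gbᵀ * β.map (algebraMap R (A ⧸ J)) * Gb := by
    rw [Matrix.map_mul, Matrix.map_mul, Matrix.transpose_map, hG, e]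
  have hmem : ∀ z, cf δ z - cf γ z ∈ J := fun z => by
    rw [← Ideal.Quotient.eq_zero_iff_mem, map_sub, sub_eq_zero, ← congrFun (cf_map _ _) z, ← congrFun (cf_map _ _) z,
      hγ, e, hGb]
  have hPγ : IsUnit (γ + γᵀ).det := by
    refine isUnit_of_mk hJ ?_
    have h1 : (γ + γᵀ).map (Ideal.Quotient.mk J) = (β₀ + β₀ᵀ).map (algebraMap R (A ⧸ J)) := by
      rw [Matrix.map_add _ (map_add _), Matrix.map_add _ (map_add _), Matrix.transpose_map,
        Matrix.transpose_map, hγ]
      exact symm_eq_of_cf hGb
    rw [RingHom.map_det, RingHom.mapMatrix_apply, h1, ← RingHom.mapMatrix_apply, ← RingHom.map_det]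
    exact h0.map _
  set H := (γ + γᵀ)⁻¹ * upper (cf δ - cf γ)
  have hH : ∀ a b, H a b ∈ J := fun a b => by
    change ((γ + γᵀ)⁻¹ * upper (cf δ - cf γ)) a b ∈ J
    rw [Matrix.mul_apply]
    exact J.sum_mem fun c _ => J.mul_mem_left _ (upper_mem (fun z => hmem z) c b)
  have htok : cf ((G * (1 + H))ᵀ * β.map (algebraMap R A) * (G * (1 + H))) = cf δ := by
    rw [show (G * (1 + H))ᵀ * β.map (algebraMap R A) * (G * (1 + H)) = (1 + H)ᵀ * γ * (1 + H) by
        simp [γ, Matrix.transpose_mul, Matrix.mul_assoc],
      conj_one_add hJ hH, Matrix.mul_nonsing_inv_cancel_left _ _ hPγ, cf_upper, add_sub_cancel]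
  obtain ⟨ψ, hψ⟩ := exists_iso_hom htok
  refine ⟨ψ, Ideal.Quotient.algHom_ext R (MvPolynomial.algHom_ext fun p => ?_)⟩
  have h := congrFun (congrFun ((map_mul_one_add hH G).trans hG) p.1) p.2
  rw [← hψ, hGbdef] at h
  exact h

end Triv

theorem toQuad_single {A : Type*} [CommRing A] {n : ℕ} (N : Matrix (Fin n) (Fin n) A) (i : Fin n) :
    (Matrix.toBilin' N).toQuadraticMap (Pi.single i 1) = N i i := by
  rw [LinearMap.BilinMap.toQuadraticMap_apply]; exact Matrix.toBilin'_single _ _ _

variable {M : Type u} [AddCommGroup M] [Module R M] [Module.Free R M] [Module.Finite R M]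
  {Q : QuadraticForm R M}

theorem exists_split_ring (b : Module.Basis (Fin (m + m)) R M) (hm : 1 ≤ m) (hQ : QuadGrp.IsRegular Q) :
    ∃ (A : Type u) (_ : CommRing A) (_ : Algebra R A), Module.FaithfullyFlat R A ∧
      Algebra.FinitePresentation R A ∧ ∃ e : (Fin (m + m) → A) ≃ₗ[A] A ⊗[R] M,
        ∀ c, QA Q A (e c) = ∑ i : Fin m, c (Fin.castAdd m i) * c (Fin.natAdd m i) := by
  classical
  let B := Q.toBilin b
  have hB : B.toQuadraticMap = Q := Q.toQuadraticMap_toBilin b
  set β := LinearMap.BilinForm.toMatrix b B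
  have hP : IsUnit (β + βᵀ).det := by
    have hpol : LinearMap.BilinForm.toMatrix b Q.polarBilin = β + βᵀ := by
      ext i j
      simp only [β, Matrix.add_apply, Matrix.transpose_apply, LinearMap.BilinForm.toMatrix_apply]
      rw [QuadraticMap.polarBilin_apply_apply, ← LinearMap.BilinMap.polar_toQuadraticMap, hB]
    rw [← hpol, ← Matrix.isUnit_iff_isUnit_det]
    let e : M ≃ₗ[R] Module.Dual R M := LinearEquiv.ofBijective Q.polarBilin hQ
    have he : LinearMap.BilinForm.toMatrix b Q.polarBilin = (LinearMap.toMatrix b b.dualBasis e.toLinearMap)ᵀ := by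
      ext i j
      rw [Matrix.transpose_apply, LinearMap.toMatrix_apply, Module.Basis.dualBasis_repr, LinearMap.BilinForm.toMatrix_apply]
      rfl
    rw [he, Matrix.isUnit_transpose, Matrix.isUnit_iff_isUnit_det]
    exact LinearEquiv.isUnit_det e b b.dualBasis
  have hBA : ∀ (A : Type u) [CommRing A] [Algebra R A], (LinearMap.BilinForm.baseChange A B).toQuadraticMap = QA Q A ∧
      LinearMap.BilinForm.toMatrix (Algebra.TensorProduct.basis A b) (LinearMap.BilinForm.baseChange A B) = β.map (algebraMap R A) := by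
    intro A _ _
    refine ⟨Groth.Misc12.Quad.quadForm_ext (Algebra.TensorProduct.basis A b) (fun i => ?_) (fun i j => ?_), ?_⟩
    · rw [Algebra.TensorProduct.basis_apply, QA_one_tmul, LinearMap.BilinMap.toQuadraticMap_apply]
      simp [← hB, Algebra.smul_def]
    · rw [LinearMap.BilinMap.polar_toQuadraticMap, Algebra.TensorProduct.basis_apply,
        Algebra.TensorProduct.basis_apply, polar_QA]
      simp [← hB, Algebra.smul_def, LinearMap.BilinMap.polar_toQuadraticMap]
    · ext i j
      simp [β, LinearMap.BilinForm.toMatrix_apply, Algebra.smul_def]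
  let A := Iso β (beta0 R m)
  haveI : Algebra.FormallySmooth R A := formallySmooth_iso (isUnit_det_polar0 hm)
  haveI : Algebra.FinitePresentation R A :=
    Algebra.FinitePresentation.quotient (Submodule.fg_span (Set.finite_range _))
  haveI : Algebra.Smooth R A := ⟨inferInstance, inferInstance⟩
  refine ⟨A, inferInstance, inferInstance, ?_, inferInstance, ?_⟩
  · refine Module.FaithfullyFlat.of_comap_surjective fun p => ?_
    let k := AlgebraicClosure p.asIdeal.ResidueField
    haveI : Nontrivial R := (algebraMap R k).domain_nontrivial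
    obtain ⟨F⟩ := exists_planes (Q := QA Q k) (isRegular_QA Q k hQ) (m := m)
      (by rw [Module.finrank_baseChange, Module.finrank_eq_card_basis b, Fintype.card_fin, two_mul])
    obtain ⟨w, hw⟩ := exists_point F hm
    have hG : cf (((Algebra.TensorProduct.basis k b).toMatrix w)ᵀ * β.map (algebraMap R k) *
        (Algebra.TensorProduct.basis k b).toMatrix w) = cf ((beta0 R m).map (algebraMap R k)) := by
      funext z
      induction z using Sym2.inductionOn with
      | hf i j =>
        rw [← (hBA k).2, cf_conj, (hBA k).1, hw, show (beta0 R m).map (algebraMap R k) = beta0 k m from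
          (beta0_map (algebraMap R k)).trans rfl]
    obtain ⟨φ, -⟩ := exists_iso_hom hG
    refine ⟨⟨RingHom.ker φ.toRingHom, RingHom.ker_isPrime _⟩, PrimeSpectrum.ext ?_⟩
    change (RingHom.ker φ.toRingHom).comap (algebraMap R A) = p.asIdeal
    rw [RingHom.comap_ker, show φ.toRingHom.comp (algebraMap R A) = algebraMap R k from φ.comp_algebraMap,
      IsScalarTower.algebraMap_eq R p.asIdeal.ResidueField k, ← RingHom.comap_ker,
      (RingHom.injective_iff_ker_eq_bot (algebraMap p.asIdeal.ResidueField k)).1 (RingHom.injective _),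
      ← RingHom.ker_eq_comap_bot, Ideal.ker_algebraMap_residueField]
  · have hcf := iso_univ (β := β) (β₀ := beta0 R m) (AlgHom.id R A)
    set G := (Matrix.mvPolynomialX (Fin (m + m)) (Fin (m + m)) R).map
      ((AlgHom.id R A).comp (Ideal.Quotient.mkₐ R (Ideal.span (Set.range (rels β (beta0 R m))))))
    have hdet : IsUnit G.det := by
      have h1 : IsUnit ((beta0 R m).map (algebraMap R A) + ((beta0 R m).map (algebraMap R A))ᵀ).det := by
        rw [← Matrix.transpose_map, ← Matrix.map_add _ (map_add _), ← RingHom.mapMatrix_apply, ← RingHom.map_det]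
        exact (isUnit_det_polar0 hm).map _
      rw [← symm_eq_of_cf hcf, show ∀ N : Matrix (Fin (m + m)) (Fin (m + m)) A,
        Gᵀ * N * G + (Gᵀ * N * G)ᵀ = Gᵀ * (N + Nᵀ) * G from fun N => by
          simp [Matrix.transpose_mul, Matrix.mul_add, Matrix.add_mul, Matrix.mul_assoc],
        Matrix.det_mul, Matrix.det_mul] at h1
      exact isUnit_of_mul_isUnit_right h1
    let bA := Algebra.TensorProduct.basis A b
    let e : (Fin (m + m) → A) ≃ₗ[A] A ⊗[R] M :=
      bA.equivFun.symm.trans (Matrix.toLinearEquiv bA G hdet)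
    refine ⟨e, fun c => ?_⟩
    let w : Fin (m + m) → A ⊗[R] M := fun i => e (Pi.single i 1)
    have hw : bA.toMatrix w = G := by
      ext a i
      have : w i = Matrix.toLin bA bA G (bA i) := by
        simp [w, e, Matrix.toLinearEquiv, Module.Basis.equivFun_symm_apply]
      rw [Module.Basis.toMatrix_apply, this, Matrix.toLin_self]
      simp [Finset.sum_apply', Finsupp.single_apply]
    let H0 : QuadraticForm A (Fin (m + m) → A) :=
      (Matrix.toBilin' ((beta0 R m).map (algebraMap R A))).toQuadraticMap
    have hH : (QA Q A).comp e.toLinearMap = H0 := by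
      refine Groth.Misc12.Quad.quadForm_ext (Pi.basisFun A _) (fun i => ?_) (fun i j => ?_)
      · have h1 := congrFun hcf (Sym2.mk i i)
        rw [← hw, ← (hBA A).2, cf_conj, (hBA A).1, if_pos rfl, cf_mk, if_pos rfl] at h1
        rw [Pi.basisFun_apply]
        rw [QuadraticMap.comp_apply, toQuad_single]
        exact h1
      · rcases eq_or_ne i j with rfl | hij
        · have h1 := congrFun hcf (Sym2.mk i i)
          rw [← hw, ← (hBA A).2, cf_conj, (hBA A).1, if_pos rfl, cf_mk, if_pos rfl] at h1
          rw [polar_self, polar_self, Pi.basisFun_apply, QuadraticMap.comp_apply, toQuad_single]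
          exact congrArg (fun t => (2 : ℕ) • t) h1
        · have h1 := congrFun hcf (Sym2.mk i j)
          rw [← hw, ← (hBA A).2, cf_conj, (hBA A).1, if_neg hij, cf_mk, if_neg hij] at h1
          simp only [H0, LinearMap.BilinMap.polar_toQuadraticMap, Pi.basisFun_apply, Matrix.toBilin'_single]
          rw [← h1]
          simp [w, QuadraticMap.polar]
    have h2 : QA Q A (e c) = H0 c := DFunLike.congr_fun hH c
    rw [h2, show H0 c = ∑ i, ∑ j, c i * (beta0 R m).map (algebraMap R A) i j * c j from
      Matrix.toBilin'_apply _ c c, ← beta0_toQuad, beta0_map]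
    refine Finset.sum_congr rfl fun i _ => Finset.sum_congr rfl fun j _ => ?_
    simp only [Matrix.of_apply]
    ring

end Groth.Calg7.EvenSplit
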