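/-
The Clifford algebra of a hyperbolic form of even rank is a matrix algebra, its even part a product of two.
-/
import Mathlib
import Groth.Agent.Calg7.EvenCliffCentre
import Groth.Agent.Misc12.Cliff.Odd.Mat

set_option linter.unusedSectionVars false

noncomputable section

open scoped TensorProduct Matrix
open QuadraticMap CliffordAlgebra
open Groth.Misc12.Cliff Groth.Calg7.EvenCliff

universe u v

namespace Groth.Calg7.EvenSplit

variable {A : Type u} [CommRing A]

/-- parity of a state -/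
def par {n : ℕ} (s : Fin n → Fin 2) : Fin 2 := ∑ j, s j

theorem par_update {n : ℕ} (i : Fin n) (s : Fin n → Fin 2) :
    par (Function.update s i (1 - s i)) = par s + 1 := by
  classical
  have hk : ∀ a r : Fin 2, 1 - a + r = a + r + 1 := by decide
  rw [par, par, Finset.sum_update_of_mem (Finset.mem_univ i), ← Finset.erase_eq,
    ← Finset.add_sum_erase _ s (Finset.mem_univ i)]
  exact hk _ _

/-- states of given parity -/
abbrev St (n : ℕ) (k : Fin 2) : Type := {s : Fin n → Fin 2 // par s = k}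

theorem card_St (n : ℕ) (k : Fin 2) : Nonempty (St (n + 1) k ≃ Fin (2 ^ n)) := by
  have hp : ∀ (x : Fin 2) (t : Fin n → Fin 2), par (Fin.cons x t) = x + par t := fun x t => by
    rw [par, Fin.sum_univ_succ]; simp [par]
  refine ⟨Equiv.trans
    { toFun := fun s => Fin.tail s.1
      invFun := fun t => ⟨Fin.cons (k - par t) t, by rw [hp, sub_add_cancel]⟩
      left_inv := fun s => Subtype.ext (by
        have h := hp (s.1 0) (Fin.tail s.1)
        rw [Fin.cons_self_tail, s.2] at h
        simp only [h, add_sub_cancel_right, Fin.cons_self_tail])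
      right_inv := fun t => Fin.tail_cons _ _ }
    finFunctionFinEquiv⟩

/-- matrices shifting the parity by `d` -/
def IsPar {n : ℕ} (d : Fin 2) (X : Matrix (Fin n → Fin 2) (Fin n → Fin 2) A) : Prop :=
  ∀ s t, par s ≠ par t + d → X s t = 0

theorem IsPar.mul {n : ℕ} {d d' : Fin 2} {X Y : Matrix (Fin n → Fin 2) (Fin n → Fin 2) A} (hX : IsPar d X)
    (hY : IsPar d' Y) : IsPar (d' + d) (X * Y) := fun s t h => by
  rw [Matrix.mul_apply]
  refine Finset.sum_eq_zero fun j _ => ?_
  by_cases h1 : par s = par j + d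
  · rw [hY j t fun h2 => h (by rw [h1, h2, add_assoc]), mul_zero]
  · rw [hX s j h1, zero_mul]

theorem IsPar.add {n : ℕ} {d : Fin 2} {X Y : Matrix (Fin n → Fin 2) (Fin n → Fin 2) A} (hX : IsPar d X)
    (hY : IsPar d Y) : IsPar d (X + Y) := fun s t h => by
  rw [Matrix.add_apply, hX s t h, hY s t h, add_zero]

theorem isPar_algebraMap {n : ℕ} (r : A) :
    IsPar 0 (algebraMap A (Matrix (Fin n → Fin 2) (Fin n → Fin 2) A) r) := fun s t h => by
  rw [add_zero] at h
  exact (Matrix.algebraMap_matrix_apply).trans (if_neg fun e => h (congrArg par e))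

theorem isPar_one {n : ℕ} : IsPar 0 (1 : Matrix (Fin n → Fin 2) (Fin n → Fin 2) A) := by
  simpa using isPar_algebraMap (n := n) (1 : A)

/-- the diagonal block -/
def blk {n : ℕ} (k : Fin 2) (X : Matrix (Fin n → Fin 2) (Fin n → Fin 2) A) : Matrix (St n k) (St n k) A :=
  X.submatrix Subtype.val Subtype.val

theorem blk_mul {n : ℕ} (k : Fin 2) {X Y : Matrix (Fin n → Fin 2) (Fin n → Fin 2) A} (hX : IsPar 0 X) :
    blk k (X * Y) = blk k X * blk k Y := by
  ext s t
  simp only [blk, Matrix.submatrix_apply, Matrix.mul_apply]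
  rw [← Fintype.sum_subtype_add_sum_subtype (fun j => par j = k) (fun j => X s.1 j * Y j t.1),
    add_eq_left]
  refine Finset.sum_eq_zero fun j _ => ?_
  rw [hX s.1 j.1 (by rw [s.2, add_zero]; exact Ne.symm j.2), zero_mul]

/-- the two blocks back to a matrix -/
def glue {n : ℕ} (M : ∀ k : Fin 2, Matrix (St n k) (St n k) A) :
    Matrix (Fin n → Fin 2) (Fin n → Fin 2) A :=
  Matrix.of fun s t => if h : par t = par s then M (par s) ⟨s, rfl⟩ ⟨t, h⟩ else 0

theorem blk_glue {n : ℕ} (M : ∀ k : Fin 2, Matrix (St n k) (St n k) A) (k : Fin 2) : blk k (glue M) = M k := by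
  ext ⟨s, hs⟩ ⟨t, ht⟩
  subst hs
  simp [blk, glue, ht]

theorem isPar_glue {n : ℕ} (M : ∀ k : Fin 2, Matrix (St n k) (St n k) A) : IsPar 0 (glue M) := fun s t h => by
  rw [add_zero] at h
  simp [glue, Ne.symm h]

theorem eq_of_blk {n : ℕ} {X Y : Matrix (Fin n → Fin 2) (Fin n → Fin 2) A} (hX : IsPar 0 X) (hY : IsPar 0 Y)
    (h : ∀ k, blk k X = blk k Y) : X = Y := by
  ext s t
  by_cases e : par s = par t
  · exact congrFun (congrFun (h (par t)) ⟨s, e⟩) ⟨t, rfl⟩
  · rw [hX s t (by rwa [add_zero]), hY s t (by rwa [add_zero])]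

theorem eq_zero_of_isPar {n : ℕ} {X : Matrix (Fin n → Fin 2) (Fin n → Fin 2) A} (h0 : IsPar 0 X)
    (h1 : IsPar 1 X) : X = 0 := by
  ext s t
  by_cases e : par s = par t
  · exact h1 s t (by rw [e]; generalize par t = x; revert x; decide)
  · exact h0 s t (by rwa [add_zero])

variable {V : Type u} [AddCommGroup V] [Module A V] [Module.Free A V] [Module.Finite A V]
  {P : QuadraticForm A V} {m : ℕ}

/-- the spin action of a vector -/
def spinMap (e : (Fin (m + m) → A) ≃ₗ[A] V) : V →ₗ[A] Module.End A ((Fin m → Fin 2) → A) :=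
  (∑ i : Fin m, ((LinearMap.proj (Fin.castAdd m i) : (Fin (m + m) → A) →ₗ[A] A).smulRight (Spinor.op i 1)
    + (LinearMap.proj (Fin.natAdd m i) : (Fin (m + m) → A) →ₗ[A] A).smulRight (Spinor.op i 0))) ∘ₗ e.symm.toLinearMap

theorem spinMap_apply (e : (Fin (m + m) → A) ≃ₗ[A] V) (c : Fin (m + m) → A) :
    spinMap e (e c) = ∑ i : Fin m, (c (Fin.castAdd m i) • Spinor.op i 1 + c (Fin.natAdd m i) • Spinor.op i 0) := by
  simp [spinMap, LinearMap.sum_apply]

/-- the spin representation -/
def spinHom (e : (Fin (m + m) → A) ≃ₗ[A] V)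
    (he : ∀ c, P (e c) = ∑ i : Fin m, c (Fin.castAdd m i) * c (Fin.natAdd m i)) :
    CliffordAlgebra P →ₐ[A] Module.End A ((Fin m → Fin 2) → A) :=
  CliffordAlgebra.lift P ⟨spinMap e, fun v => by
    obtain ⟨c, rfl⟩ := e.surjective v
    rw [spinMap_apply, Spinor.sum_sq, he, Algebra.algebraMap_eq_smul_one]⟩

theorem spinHom_surjective (e : (Fin (m + m) → A) ≃ₗ[A] V)
    (he : ∀ c, P (e c) = ∑ i : Fin m, c (Fin.castAdd m i) * c (Fin.natAdd m i)) :
    Function.Surjective (spinHom e he) := by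
  classical
  rw [← AlgHom.range_eq_top]
  refine Spinor.eq_top_of_op_mem _ fun i x => ?_
  have hr : ∀ v, spinMap e v ∈ (spinHom e he).range := fun v => ⟨ι P v, CliffordAlgebra.lift_ι_apply _ _ _⟩
  have hne : ∀ j k : Fin m, (Fin.natAdd m j : Fin (m + m)) ≠ Fin.castAdd m k := fun j k h => by
    have := congrArg Fin.val h
    simp at this; omega
  have hzero : ∀ {j : Fin m}, j ≠ i → (Fin.castAdd m j : Fin (m + m)) ≠ Fin.castAdd m i ∧
      (Fin.natAdd m j : Fin (m + m)) ≠ Fin.natAdd m i := fun {j} h => by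
    simp [Fin.ext_iff] at h ⊢; omega
  rcases (by decide : ∀ y : Fin 2, y = 0 ∨ y = 1) x with rfl | rfl
  · convert hr (e (Pi.single (Fin.natAdd m i) 1))
    rw [spinMap_apply, Finset.sum_eq_single i]
    · rw [Pi.single_eq_same, Pi.single_eq_of_ne (hne i i).symm, zero_smul, one_smul, zero_add]
    · intro j _ hj
      rw [Pi.single_eq_of_ne (hne i j).symm, Pi.single_eq_of_ne (hzero hj).2, zero_smul, zero_smul, add_zero]
    · simp
  · convert hr (e (Pi.single (Fin.castAdd m i) 1))
    rw [spinMap_apply, Finset.sum_eq_single i]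
    · rw [Pi.single_eq_same, Pi.single_eq_of_ne (hne i i), zero_smul, one_smul, add_zero]
    · intro j _ hj
      rw [Pi.single_eq_of_ne (hne j i), Pi.single_eq_of_ne (hzero hj).1, zero_smul, zero_smul, add_zero]
    · simp

theorem spinHom_injective (e : (Fin (m + m) → A) ≃ₗ[A] V)
    (he : ∀ c, P (e c) = ∑ i : Fin m, c (Fin.castAdd m i) * c (Fin.natAdd m i)) (h : Hyp P m) :
    Function.Injective (spinHom e he) := by
  classical
  haveI := free P
  let φ := spinHom e he
  let b := Module.Free.chooseBasis A (CliffordAlgebra P)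
  refine (injective_iff_map_eq_zero _).2 fun x hx => b.ext_elem fun i => ?_
  obtain ⟨q, hq⟩ := h.mu_bijective.2 ((Algebra.linearMap A _) ∘ₗ b.coord i)
  have h1 := map_sand φ (AlgHom.id A _) (AlgHom.id A _) q x
  rw [hq, show φ x = 0 from hx, map_zero, LinearMap.comp_apply, Algebra.linearMap_apply, AlgHom.commutes] at h1
  rw [map_zero, Finsupp.zero_apply]
  have := congrFun (LinearMap.congr_fun h1 (fun _ => (1 : A))) (fun _ => 0)
  rw [Module.algebraMap_end_apply, Pi.smul_apply, smul_eq_mul, mul_one] at this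
  exact this

/-- the spin representation in matrices -/
def spinMat (e : (Fin (m + m) → A) ≃ₗ[A] V)
    (he : ∀ c, P (e c) = ∑ i : Fin m, c (Fin.castAdd m i) * c (Fin.natAdd m i)) :
    CliffordAlgebra P →ₐ[A] Matrix (Fin m → Fin 2) (Fin m → Fin 2) A :=
  LinearMap.toMatrixAlgEquiv'.toAlgHom.comp (spinHom e he)

theorem spinMat_bijective (e : (Fin (m + m) → A) ≃ₗ[A] V)
    (he : ∀ c, P (e c) = ∑ i : Fin m, c (Fin.castAdd m i) * c (Fin.natAdd m i)) (h : Hyp P m) :
    Function.Bijective (spinMat e he) :=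
  LinearMap.toMatrixAlgEquiv'.bijective.comp ⟨spinHom_injective e he h, spinHom_surjective e he⟩

theorem isPar_op (i : Fin m) (x : Fin 2) :
    IsPar 1 (LinearMap.toMatrixAlgEquiv' (Spinor.op (R := A) i x)) := fun s t h => by
  classical
  have hval : LinearMap.toMatrixAlgEquiv' (Spinor.op (R := A) i x) s t = Spinor.op (R := A) i x (Pi.single t 1) s := by
    rw [LinearMap.toMatrixAlgEquiv'_apply]
  rw [hval, Spinor.op_apply]
  split_ifs with hs
  · rw [Pi.single_eq_of_ne, mul_zero]
    intro e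
    have h1 := par_update i s
    rw [hs, e] at h1
    apply h
    rw [h1]
    generalize par s = a
    revert a; decide
  · rfl

theorem isPar_ι (e : (Fin (m + m) → A) ≃ₗ[A] V)
    (he : ∀ c, P (e c) = ∑ i : Fin m, c (Fin.castAdd m i) * c (Fin.natAdd m i)) (v : V) :
    IsPar 1 (spinMat e he (ι P v)) := fun s t h => by
  obtain ⟨c, rfl⟩ := e.surjective v
  simp only [spinMat, spinHom, AlgHom.comp_apply, CliffordAlgebra.lift_ι_apply, spinMap_apply,
    AlgEquiv.toAlgHom_eq_coe, AlgEquiv.coe_algHom, map_sum, map_add, map_smul, Matrix.sum_apply,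
    Matrix.add_apply, Matrix.smul_apply, isPar_op _ _ s t h, smul_zero, add_zero, Finset.sum_const_zero]

theorem isPar_even (e : (Fin (m + m) → A) ≃ₗ[A] V)
    (he : ∀ c, P (e c) = ∑ i : Fin m, c (Fin.castAdd m i) * c (Fin.natAdd m i))
    {x : CliffordAlgebra P} (hx : x ∈ evenOdd P 0) : IsPar 0 (spinMat e he x) := by
  induction x, hx using CliffordAlgebra.even_induction with
  | algebraMap r => rw [AlgHom.commutes]; exact isPar_algebraMap r
  | add a b _ _ ha hb => rw [map_add]; exact ha.add hb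
  | ι_mul_ι_mul v w a _ ha =>
    rw [map_mul, map_mul]
    exact ((isPar_ι e he v).mul (isPar_ι e he w)).mul ha

theorem isPar_odd (e : (Fin (m + m) → A) ≃ₗ[A] V)
    (he : ∀ c, P (e c) = ∑ i : Fin m, c (Fin.castAdd m i) * c (Fin.natAdd m i))
    {x : CliffordAlgebra P} (hx : x ∈ evenOdd P 1) : IsPar 1 (spinMat e he x) := by
  induction x, hx using CliffordAlgebra.odd_induction with
  | ι v => exact isPar_ι e he v
  | add a b _ _ ha hb => rw [map_add]; exact ha.add hb
  | ι_mul_ι_mul v w a _ ha =>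
    rw [map_mul, map_mul]
    exact ((isPar_ι e he v).mul (isPar_ι e he w)).mul ha

/-- the half spin representations -/
def evenMat (e : (Fin (m + m) → A) ≃ₗ[A] V)
    (he : ∀ c, P (e c) = ∑ i : Fin m, c (Fin.castAdd m i) * c (Fin.natAdd m i)) (k : Fin 2) :
    ↥(CliffordAlgebra.even P) →ₐ[A] Matrix (St m k) (St m k) A where
  toFun x := blk k (spinMat e he x)
  map_one' := by
    rw [Subalgebra.coe_one, map_one]
    exact Matrix.submatrix_one _ Subtype.val_injective
  map_mul' x y := by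
    rw [Subalgebra.coe_mul, map_mul, blk_mul k (isPar_even e he x.2)]
  map_zero' := by rw [Subalgebra.coe_zero, map_zero]; rfl
  map_add' x y := by rw [Subalgebra.coe_add, map_add]; rfl
  commutes' r := by
    rw [Subalgebra.coe_algebraMap, AlgHom.commutes, Algebra.algebraMap_eq_smul_one, Algebra.algebraMap_eq_smul_one]
    ext s t
    simp [blk, Matrix.one_apply, Subtype.ext_iff]

theorem evenMat_bijective (e : (Fin (m + m) → A) ≃ₗ[A] V)
    (he : ∀ c, P (e c) = ∑ i : Fin m, c (Fin.castAdd m i) * c (Fin.natAdd m i)) (h : Hyp P m) :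
    Function.Bijective ((evenMat e he 0).prod (evenMat e he 1)) := by
  refine ⟨fun x y hxy => ?_, fun p => ?_⟩
  · have h0 := congrArg Prod.fst hxy
    have h1 := congrArg Prod.snd hxy
    refine Subtype.ext ((spinMat_bijective e he h).1 (eq_of_blk (isPar_even e he x.2) (isPar_even e he y.2) fun k => ?_))
    rcases (by decide : ∀ y : Fin 2, y = 0 ∨ y = 1) k with rfl | rfl
    · exact h0
    · exact h1
  · let M : ∀ k : Fin 2, Matrix (St m k) (St m k) A := Fin.cases p.1 (Fin.cases p.2 fun i => i.elim0)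
    obtain ⟨x, hx⟩ := (spinMat_bijective e he h).2 (glue M)
    let x0 : CliffordAlgebra P := DirectSum.decompose (evenOdd P) x 0
    let x1 : CliffordAlgebra P := DirectSum.decompose (evenOdd P) x 1
    have hsum : x = x0 + x1 := sum_decompose x
    have hx1 : x1 = 0 := (spinMat_bijective e he h).1 (by
      rw [map_zero]
      refine eq_zero_of_isPar ?_ (isPar_odd e he (SetLike.coe_mem _))
      have he' : spinMat e he x1 = glue M - spinMat e he x0 := by
        rw [← hx, ← map_sub, hsum, add_sub_cancel_left]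
      intro s t hst
      rw [he', Matrix.sub_apply, isPar_glue M s t hst, isPar_even e he (x := x0) (SetLike.coe_mem _) s t hst, sub_zero])
    have hx0 : x ∈ evenOdd P 0 := by rw [hsum, hx1, add_zero]; exact SetLike.coe_mem _
    refine ⟨⟨x, hx0⟩, Prod.ext ?_ ?_⟩
    · change blk 0 (spinMat e he x) = p.1
      rw [hx, blk_glue]; rfl
    · change blk 1 (spinMat e he x) = p.2
      rw [hx, blk_glue]; rfl

theorem exists_split_equivs (e : (Fin (m + m) → A) ≃ₗ[A] V)
    (he : ∀ c, P (e c) = ∑ i : Fin m, c (Fin.castAdd m i) * c (Fin.natAdd m i)) (h : Hyp P m) :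
    Nonempty (CliffordAlgebra P ≃ₐ[A] Matrix (Fin (2 ^ m)) (Fin (2 ^ m)) A) ∧
    Nonempty (↥(CliffordAlgebra.even P) ≃ₐ[A]
      (Matrix (Fin (2 ^ (m - 1))) (Fin (2 ^ (m - 1))) A × Matrix (Fin (2 ^ (m - 1))) (Fin (2 ^ (m - 1))) A)) := by
  refine ⟨⟨(AlgEquiv.ofBijective _ (spinMat_bijective e he h)).trans (Matrix.reindexAlgEquiv A A finFunctionFinEquiv)⟩, ?_⟩
  obtain ⟨n, rfl⟩ : ∃ n, m = n + 1 := ⟨m - 1, by have := h.pos; omega⟩
  obtain ⟨σ₀⟩ := card_St n 0
  obtain ⟨σ₁⟩ := card_St n 1
  rw [Nat.add_sub_cancel]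
  exact ⟨(AlgEquiv.ofBijective _ (evenMat_bijective e he h)).trans
    ((Matrix.reindexAlgEquiv A A σ₀).prodCongr (Matrix.reindexAlgEquiv A A σ₁))⟩

end Groth.Calg7.EvenSplit
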