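import Groth.Prelude.Def_W4c2filtblowupsingRees
import Groth.Agent.Gorenstein.BaseChange
import Mathlib

/-!
# Transfer of local properties between the extended Rees algebra and the associated graded ring

Helper library (no milestone statements here): for a property `Φ` of noetherian local rings which is
inherited by localizations, can be tested modulo a regular element, descends along flat local maps
with trivial closed fibre and passes to polynomial rings, the extended Rees algebra has `Φ` at all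
primes iff the associated graded ring does.
-/

universe u

open IsLocalRing LaurentPolynomial

namespace Calg7.ExtRees

variable {A : Type u} [CommRing A] (𝓕 : FiltBl.IdealFiltration A)


theorem isLocalization :
    IsLocalization.Away 𝓕.u A[T;T⁻¹] := by
  classical
  constructor
  refine ⟨?_, ?_, ?_⟩
  · rintro ⟨_, m, rfl⟩
    show IsUnit (((𝓕.u ^ m : 𝓕.extRees) : A[T;T⁻¹]))
    rw [SubmonoidClass.coe_pow]
    exact (isUnit_T (-1)).pow m
  · intro f
    obtain ⟨m, hm⟩ : ∃ m : ℕ, ∀ i ∈ f.coeff.support, i ≤ (m : ℤ) :=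
      ⟨f.coeff.support.sup Int.toNat, fun i hi => by
        have := Finset.le_sup (f := Int.toNat) hi
        omega⟩
    have hmem : f * T (-1) ^ m ∈ 𝓕.extRees := fun i => by
      rw [T_pow, T, AddMonoidAlgebra.coeff_mul_single_eq_coeff_mul (i + m)
        (fun x _ => by constructor <;> intro e <;> omega)]
      by_cases hi : i + m ∈ f.coeff.support
      · rw [show i.toNat = 0 by have := hm _ hi; omega, 𝓕.zero_eq]; trivial
      · rw [Finsupp.notMem_support_iff.1 hi, zero_mul]; exact zero_mem _
    exact ⟨⟨⟨_, hmem⟩, ⟨𝓕.u ^ m, m, rfl⟩⟩, rfl⟩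
  · intro x y h
    exact ⟨1, by rw [Subtype.ext (show (x : A[T;T⁻¹]) = y from h)]⟩

theorem u_isSMulRegular : IsSMulRegular 𝓕.extRees 𝓕.u := fun x y h =>
  Subtype.ext ((isUnit_T (R := A) (-1)).mul_left_cancel
    (show T (-1) * (x : A[T;T⁻¹]) = T (-1) * (y : A[T;T⁻¹]) from congrArg Subtype.val h))

theorem finiteType (hfg : Algebra.FiniteType A 𝓕.rees) : Algebra.FiniteType A 𝓕.extRees := by
  classical
  let ι : 𝓕.rees →ₐ[A] 𝓕.extRees := AlgHom.codRestrict
    (Polynomial.toLaurentAlg.comp 𝓕.rees.val) 𝓕.extRees fun f m => by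
      show (Polynomial.toLaurent (f : Polynomial A)).coeff m ∈ _
      rw [LaurentPolynomial.coeff_toLaurent]
      by_cases hm : m < 0
      · rw [Int.toNat_of_nonpos hm.le, 𝓕.zero_eq]; trivial
      · obtain ⟨k, rfl⟩ := Int.eq_ofNat_of_zero_le (not_lt.1 hm)
        rw [show (Finsupp.mapDomain (⇑Nat.castEmbedding) (f : Polynomial A).toFinsupp.coeff) ((k : ℕ) : ℤ)
          = (f : Polynomial A).coeff k from
            Finsupp.mapDomain_apply (f := fun k : ℕ => (k : ℤ)) Nat.cast_injective _ k, Int.toNat_natCast]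
        exact f.2 k
  let Φ : Polynomial 𝓕.rees →ₐ[A] 𝓕.extRees := Polynomial.aevalTower ι 𝓕.u
  haveI := hfg
  haveI : Algebra.FiniteType A (Polynomial 𝓕.rees) :=
    Algebra.FiniteType.trans (S := 𝓕.rees) inferInstance inferInstance
  refine Algebra.FiniteType.of_surjective Φ fun x => ?_
  obtain ⟨f, hf⟩ := x
  suffices h : ∀ s : Finset ℤ, ∃ P, ((Φ P : 𝓕.extRees) : A[T;T⁻¹])
      = ∑ i ∈ s, AddMonoidAlgebra.single i (f.coeff i) by
    obtain ⟨P, hP⟩ := h f.coeff.support
    refine ⟨P, Subtype.ext (hP.trans ?_)⟩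
    exact AddMonoidAlgebra.sum_coeff_single f
  intro s
  induction s using Finset.induction_on with
  | empty => exact ⟨0, by simp⟩
  | insert i s hi ih =>
    obtain ⟨P, hP⟩ := ih
    suffices ∃ Q, ((Φ Q : 𝓕.extRees) : A[T;T⁻¹]) = AddMonoidAlgebra.single i (f.coeff i) by
      obtain ⟨Q, hQ⟩ := this
      exact ⟨Q + P, by rw [map_add, Subalgebra.coe_add, hP, hQ, Finset.sum_insert hi]⟩
    rcases le_or_gt 0 i with h0 | h0
    · obtain ⟨k, rfl⟩ := Int.eq_ofNat_of_zero_le h0
      refine ⟨Polynomial.C ⟨Polynomial.monomial k (f.coeff k), fun m => ?_⟩, ?_⟩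
      · rw [Polynomial.coeff_monomial]
        split_ifs with h
        · subst h; exact hf k
        · exact zero_mem _
      · rw [Polynomial.aevalTower_C]
        show Polynomial.toLaurent (Polynomial.monomial k (f.coeff k)) = _
        rw [Polynomial.toLaurent_C_mul_T, single_eq_C_mul_T]
    · obtain ⟨k, rfl⟩ : ∃ k : ℕ, i = -(k : ℤ) := ⟨(-i).toNat, by omega⟩
      refine ⟨Polynomial.C (algebraMap A 𝓕.rees (f.coeff (-(k : ℤ)))) * Polynomial.X ^ k, ?_⟩
      rw [map_mul, map_pow, Polynomial.aevalTower_C, Polynomial.aevalTower_X, Subalgebra.coe_mul,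
        SubmonoidClass.coe_pow]
      rw [show ((ι (algebraMap A 𝓕.rees (f.coeff (-(k : ℤ))))) : A[T;T⁻¹])
        = C (f.coeff (-(k : ℤ))) from by
          show ((ι (algebraMap A 𝓕.rees _) : 𝓕.extRees) : A[T;T⁻¹]) = _
          rw [ι.commutes]
          rfl]
      show C _ * T (-1) ^ k = _
      rw [T_pow, single_eq_C_mul_T]
      simp

theorem isNoetherianRing [IsNoetherianRing A] (hfg : Algebra.FiniteType A 𝓕.rees) :
    IsNoetherianRing 𝓕.extRees := by
  haveI := finiteType 𝓕 hfg
  exact Algebra.FiniteType.isNoetherianRing A _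

/-- localization of a localization, as an isomorphism -/
theorem nonempty_equiv_of_isLocalization {R S : Type u} [CommRing R] [CommRing S] [Algebra R S]
    (M : Submonoid R) [IsLocalization M S] (Q : Ideal S) [Q.IsPrime] :
    Nonempty (Localization.AtPrime (Q.comap (algebraMap R S)) ≃+* Localization.AtPrime Q) := by
  haveI : IsLocalization.AtPrime (Localization.AtPrime Q) (Q.comap (algebraMap R S)) :=
    IsLocalization.isLocalization_isLocalization_atPrime_isLocalization M (Localization.AtPrime Q) Q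
  exact ⟨(IsLocalization.algEquiv (Q.comap (algebraMap R S)).primeCompl
    (Localization.AtPrime (Q.comap (algebraMap R S))) (Localization.AtPrime Q)).toRingEquiv⟩

section Transfer

variable (Φ : ∀ (R : Type u) [CommRing R], Prop)

theorem congr_atPrime {R : Type u} [CommRing R] {I J : Ideal R} [I.IsPrime] [J.IsPrime] (h : I = J) :
    Φ (Localization.AtPrime I) → Φ (Localization.AtPrime J) := by
  subst h
  exact id

theorem of_le {R : Type u} [CommRing R]
    (hiso : ∀ (R S : Type u) [CommRing R] [CommRing S], (R ≃+* S) → Φ R → Φ S)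
    (hloc : ∀ (R : Type u) [CommRing R] [IsNoetherianRing R] [IsLocalRing R],
      Φ R → ∀ (p : Ideal R) [p.IsPrime], Φ (Localization.AtPrime p))
    [IsNoetherianRing R] (M : Ideal R) [M.IsPrime] (P : Ideal R) [P.IsPrime] (hPM : P ≤ M)
    (h : Φ (Localization.AtPrime M)) : Φ (Localization.AtPrime P) := by
  haveI : IsNoetherianRing (Localization.AtPrime M) :=
    IsLocalization.isNoetherianRing M.primeCompl _ inferInstance
  have hdisj : Disjoint (M.primeCompl : Set R) (P : Set R) :=
    Set.disjoint_left.2 fun x hx hxP => hx (hPM hxP)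
  haveI : (P.map (algebraMap R (Localization.AtPrime M))).IsPrime :=
    IsLocalization.isPrime_of_isPrime_disjoint M.primeCompl _ P inferInstance hdisj
  have hcomap : (P.map (algebraMap R (Localization.AtPrime M))).comap
      (algebraMap R (Localization.AtPrime M)) = P :=
    IsLocalization.comap_map_of_isPrime_disjoint M.primeCompl _ ‹P.IsPrime› hdisj
  obtain ⟨e⟩ := nonempty_equiv_of_isLocalization M.primeCompl (P.map (algebraMap R (Localization.AtPrime M)))
  exact congr_atPrime Φ hcomap (hiso _ _ e.symm (hloc _ h _))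

/-- reduction modulo a regular element at a prime containing it -/
theorem atPrime_quotient_iff {R : Type u} [CommRing R] [IsNoetherianRing R]
    (hiso : ∀ (R S : Type u) [CommRing R] [CommRing S], (R ≃+* S) → Φ R → Φ S)
    (hquot : ∀ (R : Type u) [CommRing R] [IsNoetherianRing R] [IsLocalRing R] (x : R),
      x ∈ maximalIdeal R → IsSMulRegular R x → (Φ R ↔ Φ (R ⧸ Ideal.span {x})))
    (x : R) (hx : IsSMulRegular R x) (P : Ideal (R ⧸ Ideal.span {x})) [P.IsPrime] :
    Φ (Localization.AtPrime (P.comap (Ideal.Quotient.mk (Ideal.span {x})))) ↔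
      Φ (Localization.AtPrime P) := by
  set P' := P.comap (Ideal.Quotient.mk (Ideal.span {x}))
  haveI : IsNoetherianRing (Localization.AtPrime P') :=
    IsLocalization.isNoetherianRing P'.primeCompl _ inferInstance
  obtain ⟨e⟩ := GrothGoren.nonempty_quotient_atPrime_equiv (Ideal.span {x}) P
  have hu : algebraMap R (Localization.AtPrime P') x ∈ maximalIdeal (Localization.AtPrime P') := by
    rw [IsLocalization.AtPrime.to_map_mem_maximal_iff (Localization.AtPrime P') P', Ideal.mem_comap,
      Ideal.Quotient.eq_zero_iff_mem.2 (Ideal.mem_span_singleton_self x)]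
    exact zero_mem _
  have hreg : IsSMulRegular (Localization.AtPrime P') (algebraMap R (Localization.AtPrime P') x) :=
    (RingTheory.Sequence.isWeaklyRegular_singleton_iff (Localization.AtPrime P') _).1
      (((RingTheory.Sequence.isWeaklyRegular_singleton_iff R x).2 hx).of_isLocalization
        (Localization.AtPrime P') P'.primeCompl)
  have e' : (Localization.AtPrime P' ⧸ Ideal.span {algebraMap R (Localization.AtPrime P') x}) ≃+*
      Localization.AtPrime P :=
    (Ideal.quotEquivOfEq (by rw [Ideal.map_span, Set.image_singleton])).trans e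
  exact (hquot _ _ hu hreg).trans ⟨hiso _ _ e', hiso _ _ e'.symm⟩

/-- a property of all localizations of `R ⧸ (x)` is that of those of `R` at primes containing `x` -/
theorem forall_quotient_iff {R : Type u} [CommRing R] [IsNoetherianRing R]
    (hiso : ∀ (R S : Type u) [CommRing R] [CommRing S], (R ≃+* S) → Φ R → Φ S)
    (hquot : ∀ (R : Type u) [CommRing R] [IsNoetherianRing R] [IsLocalRing R] (x : R),
      x ∈ maximalIdeal R → IsSMulRegular R x → (Φ R ↔ Φ (R ⧸ Ideal.span {x})))
    (x : R) (hx : IsSMulRegular R x) :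
    (∀ (P : Ideal (R ⧸ Ideal.span {x})) [P.IsPrime], Φ (Localization.AtPrime P)) ↔
      ∀ (P : Ideal R) [P.IsPrime], x ∈ P → Φ (Localization.AtPrime P) := by
  refine ⟨fun h P _ hxP => ?_, fun h P _ => (atPrime_quotient_iff Φ hiso hquot x hx P).1 (h _ ?_)⟩
  · have hle : Ideal.span {x} ≤ P := (Ideal.span_singleton_le_iff_mem _).2 hxP
    haveI : (P.map (Ideal.Quotient.mk (Ideal.span {x}))).IsPrime :=
      Ideal.map_isPrime_of_surjective Ideal.Quotient.mk_surjective (by rwa [Ideal.mk_ker])
    exact congr_atPrime Φ (by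
      rw [Ideal.comap_map_of_surjective' _ Ideal.Quotient.mk_surjective, Ideal.mk_ker, sup_eq_left.2 hle])
      ((atPrime_quotient_iff Φ hiso hquot x hx _).2 (h _))
  · rw [Ideal.mem_comap, Ideal.Quotient.eq_zero_iff_mem.2 (Ideal.mem_span_singleton_self x)]
    exact zero_mem _

variable [IsNoetherianRing A] [IsLocalRing A]

theorem forall_atPrime (hfg : Algebra.FiniteType A 𝓕.rees) (h1F : (1 : A) ∉ 𝓕.F 1)
    (hiso : ∀ (R S : Type u) [CommRing R] [CommRing S], (R ≃+* S) → Φ R → Φ S)
    (hloc : ∀ (R : Type u) [CommRing R] [IsNoetherianRing R] [IsLocalRing R],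
      Φ R → ∀ (p : Ideal R) [p.IsPrime], Φ (Localization.AtPrime p))
    (hdesc : ∀ (R S : Type u) [CommRing R] [CommRing S] [IsNoetherianRing R] [IsLocalRing R]
      [IsNoetherianRing S] [IsLocalRing S] [Algebra R S] [IsLocalHom (algebraMap R S)] [Module.Flat R S],
      (maximalIdeal R).map (algebraMap R S) = maximalIdeal S → Φ S → Φ R)
    (hpoly : (∀ (p : Ideal A) [p.IsPrime], Φ (Localization.AtPrime p)) →
      ∀ (Q : Ideal (Polynomial A)) [Q.IsPrime], Φ (Localization.AtPrime Q))
    (hu : ∀ (P : Ideal 𝓕.extRees) [P.IsPrime], 𝓕.u ∈ P → Φ (Localization.AtPrime P)) :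
    ∀ (P : Ideal 𝓕.extRees) [P.IsPrime], Φ (Localization.AtPrime P) := by
  classical
  haveI := isNoetherianRing 𝓕 hfg
  haveI := isLocalization 𝓕
  -- the base ring
  have hA : Φ A := by
    set q₀ : Ideal (Polynomial A) := (maximalIdeal A).map Polynomial.C with hq₀
    haveI hq₀p : q₀.IsPrime := Ideal.isPrime_map_C_of_isPrime
    have hdisj : Disjoint (Submonoid.powers (Polynomial.X : Polynomial A) : Set (Polynomial A)) (q₀ : Set _) := by
      refine Set.disjoint_left.2 ?_
      rintro _ ⟨k, rfl⟩ hk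
      have := Ideal.mem_map_C_iff.1 hk k
      rw [Polynomial.coeff_X_pow, if_pos rfl] at this
      exact (maximalIdeal.isMaximal A).ne_top ((Ideal.eq_top_iff_one _).2 this)
    set 𝔔 : Ideal A[T;T⁻¹] := q₀.map (algebraMap (Polynomial A) A[T;T⁻¹]) with h𝔔
    haveI h𝔔p : 𝔔.IsPrime :=
      IsLocalization.isPrime_of_isPrime_disjoint (Submonoid.powers Polynomial.X) _ q₀ hq₀p hdisj
    have h𝔔eq : 𝔔 = (maximalIdeal A).map (algebraMap A A[T;T⁻¹]) := by
      rw [h𝔔, hq₀, Ideal.map_map]
      congr 1
      refine RingHom.ext fun a => ?_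
      show algebraMap (Polynomial A) A[T;T⁻¹] (Polynomial.C a) = algebraMap A A[T;T⁻¹] a
      rw [LaurentPolynomial.algebraMap_eq_toLaurent, Polynomial.toLaurent_C]
      rfl
    have hcoeff : ∀ f ∈ 𝔔, ∀ n, f.coeff n ∈ maximalIdeal A := by
      intro f hf
      rw [h𝔔eq] at hf
      change f ∈ Submodule.span A[T;T⁻¹] (algebraMap A A[T;T⁻¹] '' (maximalIdeal A : Set A)) at hf
      induction hf using Submodule.span_induction with
      | mem x hx =>
        obtain ⟨a, ha, rfl⟩ := hx
        intro n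
        rw [LaurentPolynomial.algebraMap_apply, Algebra.algebraMap_self, RingHom.id_apply, C_apply]
        split_ifs
        · exact ha
        · exact zero_mem _
      | zero => intro n; simp
      | add x y _ _ hx hy => intro n; simpa using add_mem (hx n) (hy n)
      | smul g x _ hx =>
        intro n
        rw [smul_eq_mul, AddMonoidAlgebra.coeff_mul]
        simp only [Finsupp.sum]
        refine Submodule.sum_mem _ fun i _ => Submodule.sum_mem _ fun j _ => ?_
        split_ifs
        · exact Ideal.mul_mem_left _ _ (hx j)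
        · exact zero_mem _
    set 𝔓 : Ideal 𝓕.extRees := 𝔔.comap (algebraMap 𝓕.extRees A[T;T⁻¹]) with h𝔓
    have hF1 : 𝓕.F 1 ≤ maximalIdeal A := IsLocalRing.le_maximalIdeal fun e => h1F (e ▸ trivial)
    have hne : 𝔓 ⊔ Ideal.span {𝓕.u} ≠ ⊤ := by
      intro e
      obtain ⟨a, ha, b, hb, hab⟩ := Submodule.mem_sup.1 ((Ideal.eq_top_iff_one _).1 e)
      obtain ⟨g, rfl⟩ := Ideal.mem_span_singleton'.1 hb
      have h0 : (a : A[T;T⁻¹]).coeff 0 + ((g * 𝓕.u : 𝓕.extRees) : A[T;T⁻¹]).coeff 0
          = (1 : A[T;T⁻¹]).coeff 0 := by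
        rw [← Finsupp.add_apply, ← AddMonoidAlgebra.coeff_add]
        exact congrArg (fun p : A[T;T⁻¹] => p.coeff 0) (congrArg Subtype.val hab)
      have hg : ((g * 𝓕.u : 𝓕.extRees) : A[T;T⁻¹]).coeff 0 = (g : A[T;T⁻¹]).coeff 1 := by
        show ((g : A[T;T⁻¹]) * T (-1)).coeff 0 = _
        rw [T, AddMonoidAlgebra.coeff_mul_single_eq_coeff_mul (1 : ℤ)
          (fun x _ => by constructor <;> intro e <;> omega), mul_one]
      have h1 : (1 : A[T;T⁻¹]).coeff 0 = 1 := by rw [← T_zero, T_apply, if_pos rfl]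
      rw [hg, h1] at h0
      exact (maximalIdeal.isMaximal A).ne_top ((Ideal.eq_top_iff_one _).2
        (h0 ▸ add_mem (hcoeff _ ha 0) (hF1 (g.2 1))))
    obtain ⟨M, hM, hleM⟩ := Ideal.exists_le_maximal _ hne
    haveI := hM.isPrime
    haveI : 𝔓.IsPrime := Ideal.IsPrime.comap _
    have h2 := of_le Φ hiso hloc M 𝔓 (le_sup_left.trans hleM)
      (hu M (hleM (Ideal.mem_sup_right (Ideal.mem_span_singleton_self _))))
    obtain ⟨e⟩ := nonempty_equiv_of_isLocalization (Submonoid.powers 𝓕.u) 𝔔
    have h3 : Φ (Localization.AtPrime 𝔔) := hiso _ _ e h2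
    haveI : IsNoetherianRing A[T;T⁻¹] :=
      IsLocalization.isNoetherianRing (Submonoid.powers (Polynomial.X : Polynomial A)) _ inferInstance
    haveI : IsNoetherianRing (Localization.AtPrime 𝔔) :=
      IsLocalization.isNoetherianRing 𝔔.primeCompl _ inferInstance
    haveI : Module.Flat A (Localization.AtPrime 𝔔) :=
      haveI : Module.Flat A A[T;T⁻¹] := inferInstance
      haveI : Module.Flat A[T;T⁻¹] (Localization.AtPrime 𝔔) := IsLocalization.flat _ 𝔔.primeCompl
      Module.Flat.trans A A[T;T⁻¹] _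
    have hmax : (maximalIdeal A).map (algebraMap A (Localization.AtPrime 𝔔))
        = maximalIdeal (Localization.AtPrime 𝔔) := by
      rw [IsScalarTower.algebraMap_eq A A[T;T⁻¹], ← Ideal.map_map, ← h𝔔eq,
        Localization.AtPrime.map_eq_maximalIdeal]
    haveI : IsLocalHom (algebraMap A (Localization.AtPrime 𝔔)) :=
      ((local_hom_TFAE (algebraMap A (Localization.AtPrime 𝔔))).out 2 0 rfl rfl).1 hmax.le
    exact hdesc A (Localization.AtPrime 𝔔) hmax h3
  intro P _
  by_cases huP : 𝓕.u ∈ P
  · exact hu P huP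
  · have hdisj : Disjoint (Submonoid.powers 𝓕.u : Set 𝓕.extRees) (P : Set _) := by
      refine Set.disjoint_left.2 ?_
      rintro _ ⟨k, rfl⟩ hk
      exact huP (‹P.IsPrime›.mem_of_pow_mem k hk)
    haveI : (P.map (algebraMap 𝓕.extRees A[T;T⁻¹])).IsPrime :=
      IsLocalization.isPrime_of_isPrime_disjoint (Submonoid.powers 𝓕.u) _ P inferInstance hdisj
    have hcomap : (P.map (algebraMap 𝓕.extRees A[T;T⁻¹])).comap (algebraMap 𝓕.extRees A[T;T⁻¹]) = P :=
      IsLocalization.comap_map_of_isPrime_disjoint (Submonoid.powers 𝓕.u) _ ‹P.IsPrime› hdisj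
    obtain ⟨e₁⟩ := nonempty_equiv_of_isLocalization (Submonoid.powers 𝓕.u)
      (P.map (algebraMap 𝓕.extRees A[T;T⁻¹]))
    obtain ⟨e₂⟩ := nonempty_equiv_of_isLocalization (Submonoid.powers (Polynomial.X : Polynomial A))
      (P.map (algebraMap 𝓕.extRees A[T;T⁻¹]))
    haveI := Ideal.IsPrime.comap (K := P.map (algebraMap 𝓕.extRees A[T;T⁻¹]))
      (algebraMap (Polynomial A) A[T;T⁻¹])
    have h1 := hiso _ _ (e₂.trans e₁.symm) (hpoly (fun p _ => hloc A hA p) _)
    exact congr_atPrime Φ hcomap h1

end Transfer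

end Calg7.ExtRees
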