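import Groth.Agent.Calg7.ExtRees
import Groth.Agent.Ega4Algebra1.CMTensor
import Groth.Agent.Calg4.RegularAscent
import Groth.Agent.PropsBasic.CMLocalize
import Groth.Agent.LocCohBase.CM
import Groth.Agent.S5756
import Mathlib

/-!
# Cohen–Macaulay and Gorenstein extended Rees algebras

Helper library (no milestone statements here).
-/

universe u

open IsLocalRing

namespace Calg7.ExtRees

theorem cm_quotient_iff (R : Type u) [CommRing R] [IsNoetherianRing R] [IsLocalRing R] (x : R)
    (hxm : x ∈ maximalIdeal R) (hx : IsSMulRegular R x) :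
    LocCoh.IsCohenMacaulayLocalRing R ↔ LocCoh.IsCohenMacaulayLocalRing (R ⧸ Ideal.span {x}) := by
  haveI : Nontrivial (R ⧸ Ideal.span {x}) := Ideal.Quotient.nontrivial_iff.2
    (ne_top_of_le_ne_top (maximalIdeal.isMaximal R).ne_top ((Ideal.span_singleton_le_iff_mem _).2 hxm))
  haveI : IsLocalRing (R ⧸ Ideal.span {x}) := .of_surjective' _ Ideal.Quotient.mk_surjective
  haveI : IsLocalHom (algebraMap R (R ⧸ Ideal.span {x})) :=
    IsLocalHom.of_surjective _ Ideal.Quotient.mk_surjective
  have htop : maximalIdeal R • (⊤ : Submodule R R) ≠ ⊤ := by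
    simpa using (maximalIdeal.isMaximal R).ne_top
  have h1 : LocCoh.depth R (QuotSMulTop x R) + 1 = LocCoh.depth R R :=
    Groth.LocCohBase.idealDepth_quotSMulTop_add_one (maximalIdeal R) R htop hxm hx
  have hspan : Ideal.span {x} • (⊤ : Submodule R R) = Ideal.span {x} := by simp
  have e : QuotSMulTop x R ≃ₗ[R] R ⧸ Ideal.span {x} :=
    Submodule.quotEquivOfEq _ _ ((Submodule.ideal_span_singleton_smul x _).symm.trans hspan)
  rw [Groth.Ega4b.depth_congr' e, Groth.Agent.S5756.result R (R ⧸ Ideal.span {x})] at h1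
  have h2 : ringKrullDim (R ⧸ Ideal.span {x}) + 1 = ringKrullDim R :=
    ringKrullDim_quotient_span_singleton_succ_eq_ringKrullDim_of_mem_jacobson hx
      (by rw [IsLocalRing.ringJacobson_eq_maximalIdeal]; exact hxm)
  rw [Groth.Calg4.isCohenMacaulayLocalRing_iff_dim_eq, Groth.Calg4.isCohenMacaulayLocalRing_iff_dim_eq,
    ← h1, ← h2, WithBot.coe_add]
  show _ = _ + ((1 : ℕ∞) : WithBot ℕ∞) ↔ _
  rw [WithBot.coe_one, ← Nat.cast_one, ENat.WithBot.add_natCast_cancel]

theorem isCohenMacaulayLocalRing_polynomial (A : Type u) [CommRing A] [IsNoetherianRing A]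
    (h : ∀ (p : Ideal A) [p.IsPrime], LocCoh.IsCohenMacaulayLocalRing (Localization.AtPrime p))
    (Q : Ideal (Polynomial A)) [Q.IsPrime] :
    LocCoh.IsCohenMacaulayLocalRing (Localization.AtPrime Q) := by
  haveI : LocCoh.IsCohenMacaulayRing A := { isCohenMacaulayLocalRing_localization := fun p _ => h p }
  exact (Groth.Ega4b.isCohenMacaulayRing_of_ringEquiv (MvPolynomial.pUnitAlgEquiv A).toRingEquiv
    (Groth.Ega4Algebra1.isCohenMacaulayRing_polynomial A PUnit.{u + 1})).isCohenMacaulayLocalRing_localization Q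

theorem gorenstein_localization (R : Type u) [CommRing R] [IsNoetherianRing R] [IsLocalRing R]
    (h : LocCoh.IsGorensteinLocalRing R) (p : Ideal R) [p.IsPrime] :
    LocCoh.IsGorensteinLocalRing (Localization.AtPrime p) := by
  obtain ⟨n, hn⟩ := h.exists_hasInjectiveDimensionLT
  exact (GrothGoren.isGorensteinRing_and_dim hn).1.isGorensteinLocalRing_localization p

theorem gorenstein_quotient_iff (R : Type u) [CommRing R] [IsNoetherianRing R] [IsLocalRing R] (x : R)
    (hxm : x ∈ maximalIdeal R) (hx : IsSMulRegular R x) :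
    LocCoh.IsGorensteinLocalRing R ↔ LocCoh.IsGorensteinLocalRing (R ⧸ Ideal.span {x}) := by
  haveI : Nontrivial (R ⧸ Ideal.span {x}) := Ideal.Quotient.nontrivial_iff.2
    (ne_top_of_le_ne_top (maximalIdeal.isMaximal R).ne_top ((Ideal.span_singleton_le_iff_mem _).2 hxm))
  haveI : IsLocalRing (R ⧸ Ideal.span {x}) := .of_surjective' _ Ideal.Quotient.mk_surjective
  rw [GrothGoren.isGorenstein_iff, GrothGoren.isGorenstein_iff]
  exact GrothGoren.exists_injLT_quotient_iff R hxm hx

theorem gorenstein_descend (R S : Type u) [CommRing R] [CommRing S] [IsNoetherianRing R] [IsLocalRing R]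
    [IsNoetherianRing S] [IsLocalRing S] [Algebra R S] [IsLocalHom (algebraMap R S)] [Module.Flat R S]
    (h : LocCoh.IsGorensteinLocalRing S) : LocCoh.IsGorensteinLocalRing R :=
  (GrothGoren.isGorenstein_iff R).2 (GrothGoren.exists_injLT_of_flat R S ((GrothGoren.isGorenstein_iff S).1 h))

theorem gorenstein_of_ringEquiv (R S : Type u) [CommRing R] [CommRing S] (e : R ≃+* S)
    (h : LocCoh.IsGorensteinLocalRing R) : LocCoh.IsGorensteinLocalRing S := by
  haveI := h
  haveI := isNoetherianRing_of_ringEquiv R e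
  haveI := e.isLocalRing
  exact (GrothGoren.isGorenstein_iff S).2
    ((GrothGoren.exists_injLT_iff_of_ringEquiv e).1 ((GrothGoren.isGorenstein_iff R).1 h))

theorem gorenstein_polynomial (A : Type u) [CommRing A] [IsNoetherianRing A]
    (h : ∀ (p : Ideal A) [p.IsPrime], LocCoh.IsGorensteinLocalRing (Localization.AtPrime p))
    (Q : Ideal (Polynomial A)) [Q.IsPrime] :
    LocCoh.IsGorensteinLocalRing (Localization.AtPrime Q) := by
  haveI : LocCoh.IsGorensteinRing A := { isGorensteinLocalRing_localization := fun p _ => h p }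
  exact (GrothGoren.isGorensteinRing_polynomial A).isGorensteinLocalRing_localization Q

variable {A : Type u} [CommRing A] [IsNoetherianRing A] [IsLocalRing A] (𝓕 : FiltBl.IdealFiltration A)

theorem one_notMem_F_one (hsep : ⨅ n, 𝓕.F n = ⊥) : (1 : A) ∉ 𝓕.F 1 := fun h1 => by
  have hall : ∀ n, (1 : A) ∈ 𝓕.F n := fun n => by
    induction n with
    | zero => rw [𝓕.zero_eq]; trivial
    | succ n ih => simpa using 𝓕.mul_le n 1 (Ideal.mul_mem_mul ih h1)
  have h2 : (1 : A) ∈ ⨅ n, 𝓕.F n := (Submodule.mem_iInf _).2 hall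
  rw [hsep] at h2
  exact one_ne_zero h2

variable (hfg : Algebra.FiniteType A 𝓕.rees) (hsep : ⨅ n, 𝓕.F n = ⊥)
include hfg hsep

theorem isCohenMacaulayRing_iff :
    LocCoh.IsCohenMacaulayRing 𝓕.extRees ↔
      LocCoh.IsCohenMacaulayRing (𝓕.extRees ⧸ Ideal.span {𝓕.u}) := by
  haveI := isNoetherianRing 𝓕 hfg
  let Φ : ∀ (R : Type u) [CommRing R], Prop := fun R _ => LocCoh.IsCohenMacaulayLocalRing R
  have hiso : ∀ (R S : Type u) [CommRing R] [CommRing S], (R ≃+* S) → Φ R → Φ S := fun R S _ _ e h =>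
    Groth.Ega4b.isCohenMacaulayLocalRing_of_ringEquiv e h
  have key := forall_quotient_iff Φ hiso cm_quotient_iff 𝓕.u (u_isSMulRegular 𝓕)
  constructor
  · intro h
    exact { isCohenMacaulayLocalRing_localization :=
      (key.2 fun P _ _ => h.isCohenMacaulayLocalRing_localization P) }
  · intro h
    refine { isCohenMacaulayLocalRing_localization := ?_ }
    exact forall_atPrime 𝓕 Φ hfg (one_notMem_F_one 𝓕 hsep) hiso
      (fun R _ _ _ h p _ => Groth.PropsBasic.isCohenMacaulayLocalRing_localization h p)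
      (fun R S _ _ _ _ _ _ _ _ _ hm h =>
        Groth.Calg4.isCohenMacaulayLocalRing_of_flat_descend R S h (hm.ge.trans Ideal.le_radical))
      (isCohenMacaulayLocalRing_polynomial A)
      (key.1 fun P _ => h.isCohenMacaulayLocalRing_localization P)

theorem isGorensteinRing_iff :
    LocCoh.IsGorensteinRing 𝓕.extRees ↔
      LocCoh.IsGorensteinRing (𝓕.extRees ⧸ Ideal.span {𝓕.u}) := by
  haveI := isNoetherianRing 𝓕 hfg
  let Φ : ∀ (R : Type u) [CommRing R], Prop := fun R _ => LocCoh.IsGorensteinLocalRing R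
  have key := forall_quotient_iff Φ gorenstein_of_ringEquiv gorenstein_quotient_iff 𝓕.u (u_isSMulRegular 𝓕)
  constructor
  · intro h
    exact { isGorensteinLocalRing_localization :=
      (key.2 fun P _ _ => h.isGorensteinLocalRing_localization P) }
  · intro h
    refine { isGorensteinLocalRing_localization := ?_ }
    exact forall_atPrime 𝓕 Φ hfg (one_notMem_F_one 𝓕 hsep) gorenstein_of_ringEquiv gorenstein_localization
      (fun R S _ _ _ _ _ _ _ _ _ _ h => gorenstein_descend R S h)
      (gorenstein_polynomial A)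
      (key.1 fun P _ => h.isGorensteinLocalRing_localization P)

end Calg7.ExtRees
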