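import Groth.Agent.Calg7.ExtReesCM
import Groth.Agent.Ega4Algebra1.SkFibres
import Groth.Agent.Ega4Algebra2.SkFlat
import Mathlib

/-!
# Serre's conditions for extended Rees algebras

Helper library (no milestone statements here).
-/

universe u

open IsLocalRing LaurentPolynomial

namespace Calg7.ExtRees

open Groth.Ega4b (SkLoc)

theorem withBot_min_add_one (a b : WithBot ℕ∞) : min (a + 1) (b + 1) = min a b + 1 := by
  rcases le_total a b with h | h
  · rw [min_eq_left h, min_eq_left (add_le_add h le_rfl)]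
  · rw [min_eq_right h, min_eq_right (add_le_add h le_rfl)]

theorem skLoc_quotient_iff (n : ℕ) (R : Type u) [CommRing R] [IsNoetherianRing R] [IsLocalRing R] (x : R)
    (hxm : x ∈ maximalIdeal R) (hx : IsSMulRegular R x) [IsLocalRing (R ⧸ Ideal.span {x})] :
    SkLoc (n + 1) R ↔ SkLoc n (R ⧸ Ideal.span {x}) := by
  haveI : IsLocalHom (algebraMap R (R ⧸ Ideal.span {x})) :=
    IsLocalHom.of_surjective _ Ideal.Quotient.mk_surjective
  have htop : maximalIdeal R • (⊤ : Submodule R R) ≠ ⊤ := by
    simpa using (maximalIdeal.isMaximal R).ne_top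
  have h1 : LocCoh.depth R (QuotSMulTop x R) + 1 = LocCoh.depth R R :=
    Groth.LocCohBase.idealDepth_quotSMulTop_add_one (maximalIdeal R) R htop hxm hx
  have hspan : Ideal.span {x} • (⊤ : Submodule R R) = Ideal.span {x} := by simp
  have e : QuotSMulTop x R ≃ₗ[R] R ⧸ Ideal.span {x} :=
    Submodule.quotEquivOfEq _ _ ((Submodule.ideal_span_singleton_smul x _).symm.trans hspan)
  rw [Groth.Ega4b.depth_congr' e, Groth.Agent.S5756.result R (R ⧸ Ideal.span {x})] at h1
  have h2 : ringKrullDim (R ⧸ Ideal.span {x}) + 1 = ringKrullDim R :=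
    ringKrullDim_quotient_span_singleton_succ_eq_ringKrullDim_of_mem_jacobson hx
      (by rw [IsLocalRing.ringJacobson_eq_maximalIdeal]; exact hxm)
  unfold SkLoc
  rw [← h1, ← h2, WithBot.coe_add, WithBot.coe_one, Nat.cast_add, Nat.cast_one, withBot_min_add_one,
    ← Nat.cast_one, ENat.WithBot.add_le_add_natCast_right_iff]

theorem sk_atPrime_quotient_iff (n : ℕ) {R : Type u} [CommRing R] [IsNoetherianRing R] (x : R)
    (hx : IsSMulRegular R x) (P : Ideal (R ⧸ Ideal.span {x})) [P.IsPrime] :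
    SkLoc (n + 1) (Localization.AtPrime (P.comap (Ideal.Quotient.mk (Ideal.span {x})))) ↔
      SkLoc n (Localization.AtPrime P) := by
  set P' := P.comap (Ideal.Quotient.mk (Ideal.span {x}))
  haveI : IsNoetherianRing (Localization.AtPrime P') :=
    IsLocalization.isNoetherianRing P'.primeCompl _ inferInstance
  obtain ⟨e⟩ := GrothGoren.nonempty_quotient_atPrime_equiv (Ideal.span {x}) P
  have hu : algebraMap R (Localization.AtPrime P') x ∈ maximalIdeal (Localization.AtPrime P') := by
    rw [IsLocalization.AtPrime.to_map_mem_maximal_iff (Localization.AtPrime P') P', Ideal.mem_comap,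
      Ideal.Quotient.eq_zero_iff_mem.2 (Ideal.mem_span_singleton_self x)]
    exact zero_mem _
  have hreg : IsSMulRegular (Localization.AtPrime P') (algebraMap R (Localization.AtPrime P') x) :=
    (RingTheory.Sequence.isWeaklyRegular_singleton_iff (Localization.AtPrime P') _).1
      (((RingTheory.Sequence.isWeaklyRegular_singleton_iff R x).2 hx).of_isLocalization
        (Localization.AtPrime P') P'.primeCompl)
  have e' : (Localization.AtPrime P' ⧸ Ideal.span {algebraMap R (Localization.AtPrime P') x}) ≃+*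
      Localization.AtPrime P :=
    (Ideal.quotEquivOfEq (by rw [Ideal.map_span, Set.image_singleton])).trans e
  haveI := e'.symm.isLocalRing
  exact (skLoc_quotient_iff n _ _ hu hreg).trans (Groth.Ega4b.skLoc_of_ringEquiv e')

theorem skLoc_congr (n : ℕ) {R : Type u} [CommRing R] {I J : Ideal R} [I.IsPrime] [J.IsPrime] (h : I = J) :
    SkLoc n (Localization.AtPrime I) → SkLoc n (Localization.AtPrime J) := by
  subst h
  exact id

theorem hasSk_of_isCohenMacaulayRing (n : ℕ) (R : Type u) [CommRing R] [LocCoh.IsCohenMacaulayRing R] :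
    LocCoh.HasSk n R R := by
  rw [Groth.Ega4b.hasSk_self_iff]
  intro Q _
  have h := LocCoh.IsCohenMacaulayRing.isCohenMacaulayLocalRing_localization (R := R) Q
  haveI := h.toIsNoetherian
  rw [Groth.Calg4.isCohenMacaulayLocalRing_iff_dim_eq] at h
  exact (min_le_right _ _).trans h.le

theorem hasSk_polynomial (n : ℕ) (A : Type u) [CommRing A] [IsNoetherianRing A] (h : LocCoh.HasSk n A A) :
    LocCoh.HasSk n (Polynomial A) (Polynomial A) :=
  Groth.Ega4Algebra1.hasSk_of_flat_of_fibers n A (Polynomial A) h fun p _ => by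
    haveI : IsRegularRing (p.Fiber (Polynomial A)) :=
      IsRegularRing.of_ringEquiv (polyEquivTensor A p.ResidueField).toRingEquiv
    haveI : LocCoh.IsCohenMacaulayRing (p.Fiber (Polynomial A)) :=
      { isCohenMacaulayLocalRing_localization := fun Q _ => by
          haveI : IsRegularLocalRing (Localization.AtPrime Q) := IsRegularRing.isRegularLocalRing_localization _
          exact Groth.Calg4.isCohenMacaulayLocalRing_of_isRegularLocalRing _ }
    exact hasSk_of_isCohenMacaulayRing n _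

variable {A : Type u} [CommRing A] (𝓕 : FiltBl.IdealFiltration A)

/-- Off `V(u)` the extended Rees algebra is the Laurent polynomial ring. -/
theorem skLoc_of_laurent [IsNoetherianRing A] (n : ℕ) (h : LocCoh.HasSk n A A)
    (P : Ideal 𝓕.extRees) [P.IsPrime] (huP : 𝓕.u ∉ P) : SkLoc n (Localization.AtPrime P) := by
  haveI := isLocalization 𝓕
  have hdisj : Disjoint (Submonoid.powers 𝓕.u : Set 𝓕.extRees) (P : Set _) := by
    refine Set.disjoint_left.2 ?_
    rintro _ ⟨k, rfl⟩ hk
    exact huP (‹P.IsPrime›.mem_of_pow_mem k hk)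
  haveI : (P.map (algebraMap 𝓕.extRees A[T;T⁻¹])).IsPrime :=
    IsLocalization.isPrime_of_isPrime_disjoint (Submonoid.powers 𝓕.u) _ P inferInstance hdisj
  haveI := Ideal.IsPrime.comap (K := P.map (algebraMap 𝓕.extRees A[T;T⁻¹]))
    (algebraMap (Polynomial A) A[T;T⁻¹])
  obtain ⟨e₁⟩ := nonempty_equiv_of_isLocalization (Submonoid.powers 𝓕.u)
    (P.map (algebraMap 𝓕.extRees A[T;T⁻¹]))
  obtain ⟨e₂⟩ := nonempty_equiv_of_isLocalization (Submonoid.powers (Polynomial.X : Polynomial A))
    (P.map (algebraMap 𝓕.extRees A[T;T⁻¹]))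
  exact skLoc_congr n (IsLocalization.comap_map_of_isPrime_disjoint (Submonoid.powers 𝓕.u) _ ‹P.IsPrime› hdisj)
    ((Groth.Ega4b.skLoc_of_ringEquiv (e₂.trans e₁.symm)).1
      ((Groth.Ega4b.hasSk_self_iff n _).1 (hasSk_polynomial n A h) _))

variable [IsNoetherianRing A] (hfg : Algebra.FiniteType A 𝓕.rees)
include hfg

theorem hasSk_two_iff :
    LocCoh.HasSk 2 𝓕.extRees 𝓕.extRees ↔
      (LocCoh.HasSk 1 (𝓕.extRees ⧸ Ideal.span {𝓕.u}) (𝓕.extRees ⧸ Ideal.span {𝓕.u}) ∧
        LocCoh.HasSk 2 A A) := by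
  haveI := isNoetherianRing 𝓕 hfg
  haveI := isLocalization 𝓕
  constructor
  · intro h
    rw [Groth.Ega4b.hasSk_self_iff] at h
    refine ⟨(Groth.Ega4b.hasSk_self_iff 1 _).2 fun P _ =>
      (sk_atPrime_quotient_iff 1 𝓕.u (u_isSMulRegular 𝓕) P).1 (h _), ?_⟩
    haveI : IsNoetherianRing A[T;T⁻¹] :=
      IsLocalization.isNoetherianRing (Submonoid.powers (Polynomial.X : Polynomial A)) _ inferInstance
    have hL : LocCoh.HasSk 2 A[T;T⁻¹] A[T;T⁻¹] := by
      rw [Groth.Ega4b.hasSk_self_iff]
      intro Q _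
      haveI := Ideal.IsPrime.comap (K := Q) (algebraMap 𝓕.extRees A[T;T⁻¹])
      obtain ⟨e⟩ := nonempty_equiv_of_isLocalization (Submonoid.powers 𝓕.u) Q
      exact (Groth.Ega4b.skLoc_of_ringEquiv e).1 (h _)
    rcases subsingleton_or_nontrivial A with hs | hn
    · intro p hp
      exact absurd (Subsingleton.elim p ⊤) hp.ne_top
    · exact (Groth.Agent.S9437.result 2 A A[T;T⁻¹] hL).2
  · rintro ⟨hG, hA⟩
    rw [Groth.Ega4b.hasSk_self_iff] at hG ⊢
    intro P _
    by_cases huP : 𝓕.u ∈ P
    · have hle : Ideal.span {𝓕.u} ≤ P := (Ideal.span_singleton_le_iff_mem _).2 huP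
      haveI : (P.map (Ideal.Quotient.mk (Ideal.span {𝓕.u}))).IsPrime :=
        Ideal.map_isPrime_of_surjective Ideal.Quotient.mk_surjective (by rwa [Ideal.mk_ker])
      exact skLoc_congr 2 (by
        rw [Ideal.comap_map_of_surjective' _ Ideal.Quotient.mk_surjective, Ideal.mk_ker, sup_eq_left.2 hle])
        ((sk_atPrime_quotient_iff 1 𝓕.u (u_isSMulRegular 𝓕)
          (P.map (Ideal.Quotient.mk (Ideal.span {𝓕.u})))).2 (hG _))
    · exact skLoc_of_laurent 𝓕 2 hA P huP

end Calg7.ExtRees
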