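import Mathlib

/-! Finite commutative algebras over an algebraically closed field. -/

namespace Groth.Calg7.FinAlg

universe u v

variable (k : Type u) [Field k] [IsAlgClosed k] (A : Type v) [CommRing A] [Algebra k A] [Module.Finite k A]

/-- Such an algebra maps onto a finite power of `k` with nilpotent kernel. -/
theorem exists_to_pi : ∃ (n : ℕ) (ψ : A →ₐ[k] (Fin n → k)),
    Function.Surjective ψ ∧ ∀ x, ψ x = 0 ↔ IsNilpotent x := by
  classical
  haveI : IsArtinianRing A := IsArtinianRing.of_finite k A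
  haveI := Fintype.ofFinite (MaximalSpectrum A)
  let e := (Fintype.equivFin (MaximalSpectrum A)).symm
  let I : Fin (Fintype.card (MaximalSpectrum A)) → Ideal A := fun i => (e i).asIdeal
  have hmax : ∀ i, (I i).IsMaximal := fun i => (e i).isMaximal
  have hb : ∀ i, Function.Bijective (algebraMap k (A ⧸ I i)) := by
    intro i
    haveI := hmax i
    letI := Ideal.Quotient.field (I i)
    exact IsAlgClosed.algebraMap_bijective_of_isIntegral
  let q : ∀ i, (A ⧸ I i) ≃ₐ[k] k := fun i =>
    (AlgEquiv.ofBijective (Algebra.ofId k (A ⧸ I i)) (hb i)).symm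
  let ψ : A →ₐ[k] (Fin (Fintype.card (MaximalSpectrum A)) → k) :=
    Pi.algHom _ _ fun i => (q i).toAlgHom.comp (Ideal.Quotient.mkₐ k (I i))
  refine ⟨_, ψ, ?_, ?_⟩
  · intro c
    obtain ⟨x, hx⟩ := Ideal.pi_quotient_surjective (I := I) (fun i j hij => by
      haveI := hmax i
      exact Ideal.isCoprime_iff_sup_eq.2 ((hmax i).coprime_of_ne (hmax j)
        (fun h => hij (e.injective (MaximalSpectrum.ext h))))) (fun i => (q i).symm (c i))
    refine ⟨x, funext fun i => ?_⟩
    show q i (Ideal.Quotient.mk (I i) x) = c i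
    rw [hx i, AlgEquiv.apply_symm_apply]
  · intro x
    constructor
    · intro hx
      rw [nilpotent_iff_mem_prime]
      intro J hJ
      haveI := IsArtinianRing.isMaximal_of_isPrime J
      obtain ⟨i, hi⟩ := e.surjective ⟨J, inferInstance⟩
      have h0 : q i (Ideal.Quotient.mk (I i) x) = 0 := congrFun hx i
      rw [map_eq_zero_iff _ (q i).injective, Ideal.Quotient.eq_zero_iff_mem] at h0
      simpa [I, hi] using h0
    · intro hx
      exact (hx.map ψ).eq_zero

/-- The splitting of `exists_to_pi` by lifting idempotents. -/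
theorem exists_split : ∃ (n : ℕ) (ψ : A →ₐ[k] (Fin n → k)) (s : (Fin n → k) →ₐ[k] A),
    Function.Surjective ψ ∧ (∀ x, ψ x = 0 ↔ IsNilpotent x) ∧ ψ.comp s = AlgHom.id k _ := by
  classical
  obtain ⟨n, ψ, hs, hk⟩ := exists_to_pi k A
  obtain ⟨e, he, hψe⟩ := CompleteOrthogonalIdempotents.lift_of_isNilpotent_ker ψ.toRingHom
    (fun x hx => (hk x).1 hx) (CompleteOrthogonalIdempotents.single (fun _ : Fin n => k))
    (fun i => hs _)
  have hmul : ∀ i j, e i * e j = if i = j then e i else 0 := by
    intro i j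
    split
    · next h => subst h; exact he.idem i
    · next h => exact he.ortho h
  let L : (Fin n → k) →ₗ[k] A :=
    { toFun := fun f => ∑ i, f i • e i
      map_add' := fun f g => by simp [add_smul, Finset.sum_add_distrib]
      map_smul' := fun c f => by simp [Finset.smul_sum, smul_smul] }
  have hone : L 1 = 1 := by simp [L, he.complete]
  have hL : ∀ f g, L (f * g) = L f * L g := by
    intro f g
    show ∑ i, (f i * g i) • e i = (∑ i, f i • e i) * ∑ j, g j • e j
    rw [Finset.sum_mul_sum]
    simp [smul_mul_smul_comm, hmul]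
    exact Finset.sum_congr rfl fun i _ => by rw [smul_smul, mul_comm]
  refine ⟨n, ψ, AlgHom.ofLinearMap L hone hL, hs, hk, AlgHom.ext fun f => ?_⟩
  show ψ (∑ i, f i • e i) = f
  have : ∀ i, ψ (e i) = Pi.single i 1 := fun i => congrFun hψe i
  simp only [map_sum, map_smul, this]
  ext j
  simp [Finset.sum_apply, Pi.single_apply]

/-- A reduced one is a finite power of `k`. -/
theorem exists_equiv_pi [IsReduced A] : ∃ n : ℕ, Nonempty (A ≃ₐ[k] (Fin n → k)) := by
  obtain ⟨n, ψ, hs, hk⟩ := exists_to_pi k A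
  refine ⟨n, ⟨AlgEquiv.ofBijective ψ ⟨?_, hs⟩⟩⟩
  rw [injective_iff_map_eq_zero]
  exact fun x hx => ((hk x).1 hx).eq_zero

end Groth.Calg7.FinAlg
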