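import Mathlib
import Groth.Agent.Calg7.Derived.Tor

/-! Tensoring a map with finite length cokernel, over a one-dimensional local domain. -/

set_option autoImplicit false

namespace Groth.Calg7.FiniteLengthTensor

open IsLocalRing CategoryTheory Limits

universe u

theorem exists_smul_eq_zero {O : Type u} [CommRing O] [IsDomain O] [IsLocalRing O]
    (hdim : ringKrullDim O = 1) {T : Type u} [AddCommGroup T] [Module O T] (hT : IsFiniteLength O T) :
    ∃ c : O, c ≠ 0 ∧ ∀ t : T, c • t = 0 := by
  obtain ⟨hn, ha⟩ := isFiniteLength_iff_isNoetherian_isArtinian.1 hT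
  obtain ⟨x, hx, hx0⟩ : ∃ x ∈ maximalIdeal O, x ≠ 0 := by
    by_contra h
    push Not at h
    have : IsField O := isField_iff_maximalIdeal_eq.2 (eq_bot_iff.2 fun y hy => h y hy)
    rw [ringKrullDim_eq_zero_of_isField this] at hdim
    exact zero_ne_one hdim
  obtain ⟨n, hn'⟩ := IsArtinian.range_smul_pow_stabilizes T x
  refine ⟨x ^ n, pow_ne_zero _ hx0, fun t => ?_⟩
  have hle : LinearMap.range (x ^ n • (LinearMap.id : T →ₗ[O] T)) ≤
      maximalIdeal O • LinearMap.range (x ^ n • (LinearMap.id : T →ₗ[O] T)) := by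
    conv_lhs => rw [hn' (n + 1) (Nat.le_succ n)]
    rintro _ ⟨y, rfl⟩
    rw [LinearMap.smul_apply, LinearMap.id_apply, pow_succ', mul_smul]
    exact Submodule.smul_mem_smul hx ⟨y, rfl⟩
  have hbot := Submodule.eq_bot_of_le_smul_of_le_jacobson_bot _ _ (IsNoetherian.noetherian _) hle
    (IsLocalRing.maximalIdeal_le_jacobson _)
  exact (Submodule.mem_bot O).1 (hbot ▸ ⟨t, rfl⟩)

variable {O : Type u} [CommRing O]

/-- an inverse up to the scalar `c` of an injective map whose cokernel is killed by `c` -/
theorem exists_quasi_inverse {N M : Type u} [AddCommGroup N] [Module O N] [AddCommGroup M] [Module O M]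
    (f : N →ₗ[O] M) (hf : Function.Injective f) (c : O)
    (hc : ∀ t : M ⧸ LinearMap.range f, c • t = 0) :
    ∃ h : M →ₗ[O] N, (∀ y, f (h y) = c • y) ∧ ∀ z, h (f z) = c • z := by
  have hmem : ∀ m : M, (c • LinearMap.id : M →ₗ[O] M) m ∈ LinearMap.range f := fun m => by
    rw [← Submodule.Quotient.mk_eq_zero, LinearMap.smul_apply, LinearMap.id_apply,
      Submodule.Quotient.mk_smul, hc]
  let h := (LinearEquiv.ofInjective f hf).symm.toLinearMap.comp
    (LinearMap.codRestrict (LinearMap.range f) (c • LinearMap.id) hmem)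
  have h1 : ∀ y, f (h y) = c • y := fun y => by
    have := LinearEquiv.ofInjective_apply (f := f) (h := hf)
      ((LinearEquiv.ofInjective f hf).symm ⟨c • y, hmem y⟩)
    rw [LinearEquiv.apply_symm_apply] at this
    exact this.symm
  exact ⟨h, h1, fun z => hf (by rw [h1, map_smul])⟩

theorem eq_zero_of_smul {S : Type u} [CommRing S] [IsDomain S] [Algebra O S] [FaithfulSMul O S]
    {n : ℕ} {c : O} (hc : c ≠ 0) (x : TensorProduct O S (Fin n → O)) (hx : c • x = 0) : x = 0 := by
  refine (TensorProduct.piScalarRight O O S (Fin n)).injective ?_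
  have h := congrArg (TensorProduct.piScalarRight O O S (Fin n)) hx
  rw [map_smul, map_zero] at h
  rw [map_zero]
  funext i
  have hi := congrFun h i
  rw [Pi.smul_apply, Algebra.smul_def, Pi.zero_apply] at hi
  exact (mul_eq_zero.1 hi).resolve_left
    fun h0 => hc (FaithfulSMul.algebraMap_injective O S (h0.trans (map_zero _).symm))

end Groth.Calg7.FiniteLengthTensor
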