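import Groth.Agent.S9319
import Groth.Agent.Calg4.RegularFlat
import Groth.Agent.Calg1.MiracleFlatness
import Groth.Agent.Calg4.RegularAscent
import Groth.Agent.Ega41Adic.RegularOfSmooth
import Groth.Agent.Ega4Algebra2.RegularIdeal
import Groth.Agent.Ega4Algebra2.RsopRegular
import Groth.Agent.CI.Criterion
import Groth.Prelude.Def_CAlgX

/-!
Adically formally smooth algebras over a field are flat over polynomial rings in elements whose differentials
are linearly independent in the residue field.
-/

set_option autoImplicit false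

universe u

open IsLocalRing TensorProduct

namespace Groth.Calg7.GeomRegBasis

/-- A derivation evaluated on a polynomial in given elements. -/
theorem derivation_aeval {k R M : Type*} [CommRing k] [CommRing R] [Algebra k R] [AddCommGroup M] [Module R M]
    [Module k M] (d : Derivation k R M) {m : ℕ} (u : Fin m → R) (g : MvPolynomial (Fin m) k) :
    d (MvPolynomial.aeval u g) = ∑ j, MvPolynomial.aeval u (MvPolynomial.pderiv j g) • d (u j) := by
  classical
  induction g using MvPolynomial.induction_on with
  | C a => simp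
  | add p q hp hq => simp only [map_add, hp, hq, add_smul, Finset.sum_add_distrib]
  | mul_X p i hp =>
    rw [map_mul, MvPolynomial.aeval_X, d.leibniz, hp, Finset.smul_sum]
    simp only [Derivation.leibniz, MvPolynomial.pderiv_X, smul_eq_mul, map_add, map_mul, MvPolynomial.aeval_X,
      add_smul, Finset.sum_add_distrib]
    congr 1
    · rw [Finset.sum_eq_single i]
      · simp
      · intro j _ hj; simp [Ne.symm hj]
      · intro h; exact absurd (Finset.mem_univ i) h
    · exact Finset.sum_congr rfl fun j _ => by rw [smul_smul]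

/-- Two homomorphisms congruent modulo a square-zero ideal agree on critical polynomials. -/
theorem aeval_eq_of_sq_zero {k C : Type*} [CommRing k] [CommRing C] [Algebra k C] (J : Ideal C)
    (hJ : ∀ a ∈ J, ∀ b ∈ J, a * b = 0) {m : ℕ} (x y : Fin m → C) (hxy : ∀ j, x j - y j ∈ J)
    (g : MvPolynomial (Fin m) k) (hg : ∀ j, MvPolynomial.aeval x (MvPolynomial.pderiv j g) ∈ J) :
    MvPolynomial.aeval x g = MvPolynomial.aeval y g := by
  classical
  have hd : ∀ g : MvPolynomial (Fin m) k, MvPolynomial.aeval x g - MvPolynomial.aeval y g ∈ J := fun g => by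
    rw [← Ideal.Quotient.eq, ← Ideal.Quotient.mkₐ_eq_mk k, ← AlgHom.comp_apply, ← AlgHom.comp_apply,
      MvPolynomial.comp_aeval, MvPolynomial.comp_aeval]
    exact congrArg (fun v => MvPolynomial.aeval v g) (funext fun j => Ideal.Quotient.eq.mpr (hxy j))
  have key : ∀ g : MvPolynomial (Fin m) k, MvPolynomial.aeval x g - MvPolynomial.aeval y g =
      ∑ j, MvPolynomial.aeval x (MvPolynomial.pderiv j g) * (x j - y j) := by
    intro g
    induction g using MvPolynomial.induction_on with
    | C a => simp
    | add p q hp hq =>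
      simp only [map_add, add_mul, Finset.sum_add_distrib, ← hp, ← hq]
      ring
    | mul_X p i hp =>
      simp only [map_mul, MvPolynomial.aeval_X, Derivation.leibniz, MvPolynomial.pderiv_X, smul_eq_mul,
        map_add, add_mul, Finset.sum_add_distrib]
      rw [Finset.sum_eq_single i (fun j _ hj => by simp [Ne.symm hj]) (fun h => absurd (Finset.mem_univ i) h)]
      simp only [Pi.single_eq_same, map_one, mul_one, mul_assoc, ← Finset.mul_sum, ← hp]
      linear_combination (norm := ring) -(hJ _ (hd p) _ (hxy i))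
  rw [← sub_eq_zero, key]
  exact Finset.sum_eq_zero fun j _ => hJ _ (hg j) _ (hxy j)

set_option maxHeartbeats 800000 in
theorem flat_and_regular (k : Type u) [Field k] (A : Type u) [CommRing A] [IsLocalRing A] [IsNoetherianRing A]
    [Algebra k A] (hfs : CAlgX.IsAdicFormallySmooth k A (maximalIdeal A))
    (F : IntermediateField k (ResidueField A)) (m : ℕ) (φ : MvPolynomial (Fin m) k →ₐ[k] A)
    (hφ : ∀ i : Fin m, residue A (φ (MvPolynomial.X i)) ∈ F)
    (hb : LinearIndependent F
        (fun i : Fin m => KaehlerDifferential.D k F ⟨residue A (φ (MvPolynomial.X i)), hφ i⟩)) :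
    letI := φ.toRingHom.toAlgebra
    Module.Flat (MvPolynomial (Fin m) k) A ∧
      IsRegularLocalRing (A ⧸ Ideal.map φ.toRingHom (Ideal.comap φ.toRingHom (maximalIdeal A))) := by
  classical
  have hA : IsRegularLocalRing A := Groth.Ega41Adic.isRegularLocalRing_of_isAdicFormallySmooth hfs
  set P := MvPolynomial (Fin m) k
  set K := ResidueField A
  letI algP : Algebra P A := φ.toRingHom.toAlgebra
  have : IsScalarTower k P A := IsScalarTower.of_algebraMap_eq fun a => (φ.commutes a).symm
  set p : Ideal P := Ideal.comap φ.toRingHom (maximalIdeal A) with hp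
  have : p.IsPrime := Ideal.IsPrime.comap _
  set Q := Localization.AtPrime p
  have hu : ∀ s : p.primeCompl, IsUnit (φ.toRingHom s) := fun s => notMem_maximalIdeal.mp s.2
  let ψ : Q →+* A := IsLocalization.lift hu
  letI algQ : Algebra Q A := ψ.toAlgebra
  have hψ : ∀ g : P, algebraMap Q A (algebraMap P Q g) = φ g := fun g => IsLocalization.lift_eq hu g
  have : IsScalarTower P Q A := IsScalarTower.of_algebraMap_eq fun g => (hψ g).symm
  have : IsScalarTower k Q A := IsScalarTower.of_algebraMap_eq fun a => by
    rw [IsScalarTower.algebraMap_apply k P Q, hψ]; exact (φ.commutes a).symm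
  have hloc : IsLocalHom (algebraMap Q A) := by
    refine ((IsLocalRing.local_hom_TFAE (algebraMap Q A)).out 2 0).mp ?_
    rw [← Localization.AtPrime.map_eq_maximalIdeal, Ideal.map_map, ← IsScalarTower.algebraMap_eq,
      Ideal.map_le_iff_le_comap]
    exact le_rfl
  have hQ : IsRegularLocalRing Q :=
    IsRegularRing.isRegularLocalRing_localization (R := P) p
  set κ := ResidueField Q
  -- the residues of the variables
  let η : Fin m → κ := fun j => residue Q (algebraMap P Q (MvPolynomial.X j))
  let z : Fin m → F := fun j => ⟨residue A (φ (MvPolynomial.X j)), hφ j⟩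
  have hηz : ∀ j, algebraMap κ K (η j) = (z j : K) := fun j => by
    show residue A (algebraMap Q A (algebraMap P Q (MvPolynomial.X j))) = _
    rw [hψ]
  have hη : Function.Injective η := fun i j h => by
    have h1 : z i = z j := Subtype.ext (by rw [← hηz, ← hηz, h])
    exact hb.injective (congrArg (KaehlerDifferential.D k F) h1)
  have hevη : ∀ g : P, MvPolynomial.aeval η g = residue Q (algebraMap P Q g) := fun g => by
    have : (MvPolynomial.aeval η : P →ₐ[k] κ) =
        (IsScalarTower.toAlgHom k Q κ).comp (IsScalarTower.toAlgHom k P Q) :=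
      MvPolynomial.algHom_ext fun j => by rw [MvPolynomial.aeval_X]; rfl
    rw [this]; rfl
  have hcrit : ∀ g ∈ p, ∀ j, MvPolynomial.aeval η (MvPolynomial.pderiv j g) = 0 := by
    intro g hg
    have hres : MvPolynomial.aeval η g = 0 := by
      rw [hevη, residue_eq_zero_iff, IsLocalization.AtPrime.to_map_mem_maximal_iff Q p]
      exact hg
    have hval : ∀ f : P, (MvPolynomial.aeval z f : K) = algebraMap κ K (MvPolynomial.aeval η f) := fun f => by
      show F.val (MvPolynomial.aeval z f) = (IsScalarTower.toAlgHom k κ K) (MvPolynomial.aeval η f)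
      rw [← AlgHom.comp_apply, ← AlgHom.comp_apply, MvPolynomial.comp_aeval, MvPolynomial.comp_aeval]
      exact congrArg (fun v => MvPolynomial.aeval v f) (funext fun j => (hηz j).symm)
    have h0 : MvPolynomial.aeval z g = 0 := Subtype.ext (by rw [hval, hres, map_zero]; rfl)
    have h1 : ∑ j, MvPolynomial.aeval z (MvPolynomial.pderiv j g) • KaehlerDifferential.D k F (z j) = 0 := by
      rw [← derivation_aeval, h0, map_zero]
    intro j
    have h2 := Fintype.linearIndependent_iff.mp hb (fun j => MvPolynomial.aeval z (MvPolynomial.pderiv j g)) h1 j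
    have h3 := hval (MvPolynomial.pderiv j g)
    rw [h2] at h3
    exact (map_eq_zero (algebraMap κ K)).mp h3.symm
  -- minimal generators of the maximal ideal of `Q`
  obtain ⟨c, g, hgp, hgspan, hgmin⟩ : ∃ (c : ℕ) (g : Fin c → P), (∀ i, g i ∈ p) ∧
      Ideal.span (Set.range fun i => algebraMap P Q (g i)) = maximalIdeal Q ∧
      ∀ a : Fin c → Q, ∑ i, a i * algebraMap P Q (g i) ∈ maximalIdeal Q ^ 2 → ∀ i, a i ∈ maximalIdeal Q := by
    obtain ⟨c, f, hf, hspan, hmin⟩ := Groth.Ega4b.exists_minimal_complement (Fin.elim0 : Fin 0 → Q)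
      (maximalIdeal Q) (maximalIdeal Q) (by simp)
    have hspan' : Ideal.span (Set.range f) = maximalIdeal Q := by
      rw [← hspan, Fin.elim0_append]
      exact congrArg Ideal.span ((finCongr (Nat.zero_add c)).surjective.range_comp f).symm
    have hmin' : ∀ a : Fin c → Q, ∑ i, a i * f i ∈ maximalIdeal Q * maximalIdeal Q →
        ∀ i, a i ∈ maximalIdeal Q := by
      intro a ha i
      have := hmin (a ∘ Fin.cast (Nat.zero_add c)) (by
        rw [Fin.elim0_append]
        exact ((finCongr (Nat.zero_add c)).sum_comp fun j => a j * f j).symm ▸ ha) i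
      convert this using 2
      exact congrArg a (Fin.ext (by simp))
    choose g s hgs using fun i => IsLocalization.exists_mk'_eq p.primeCompl (f i)
    have he : ∀ i, algebraMap P Q (g i) = algebraMap P Q (s i : P) * f i := fun i => by
      rw [← hgs i, mul_comm, IsLocalization.mk'_spec]
    have hsu : ∀ i, IsUnit (algebraMap P Q (s i : P)) := fun i => IsLocalization.map_units Q (s i)
    refine ⟨c, g, fun i => ?_, ?_, fun a ha i => ?_⟩
    · rw [← IsLocalization.AtPrime.to_map_mem_maximal_iff Q p, he]
      exact Ideal.mul_mem_left _ _ (hf i)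
    · refine le_antisymm (Ideal.span_le.mpr ?_) (hspan'.ge.trans (Ideal.span_le.mpr ?_))
      · rintro _ ⟨i, rfl⟩
        rw [SetLike.mem_coe]
        show algebraMap P Q (g i) ∈ _
        rw [he]
        exact Ideal.mul_mem_left _ _ (hf i)
      · rintro _ ⟨i, rfl⟩
        rw [SetLike.mem_coe, ← Ideal.unit_mul_mem_iff_mem _ (hsu i), ← he]
        exact Ideal.subset_span ⟨i, rfl⟩
    · have h := hmin' (fun i => a i * algebraMap P Q (s i : P)) (by
        rw [← pow_two]
        refine Eq.subst ?_ ha
        exact Finset.sum_congr rfl fun i _ => by rw [he]; ring) i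
      exact (Ideal.mul_unit_mem_iff_mem _ (hsu i)).mp h
  -- the classes in the first cotangent homology
  let Gκ := Algebra.Generators.self k κ
  let GK := Algebra.Generators.self k K
  let Xκ : Fin m → Gκ.toExtension.Ring := fun j => (MvPolynomial.X (η j) : MvPolynomial κ k)
  let XK : Fin m → GK.toExtension.Ring := fun j => (MvPolynomial.X (algebraMap κ K (η j)) : MvPolynomial K k)
  have hπκ : ∀ f : P, algebraMap Gκ.toExtension.Ring κ (MvPolynomial.aeval Xκ f) = MvPolynomial.aeval η f := by
    intro f
    refine (AlgHom.congr_fun (MvPolynomial.comp_aeval Xκ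
      (IsScalarTower.toAlgHom k Gκ.toExtension.Ring κ)) f).trans ?_
    exact congrArg (fun v => MvPolynomial.aeval v f) (funext fun j => MvPolynomial.aeval_X _ _)
  have hGker : ∀ i, MvPolynomial.aeval Xκ (g i) ∈ Gκ.toExtension.ker := fun i => by
    rw [Algebra.Extension.ker, RingHom.mem_ker, hπκ, hevη, residue_eq_zero_iff,
      IsLocalization.AtPrime.to_map_mem_maximal_iff Q p]
    exact hgp i
  have hξ0 : ∀ i, Gκ.toExtension.cotangentComplex (Algebra.Extension.Cotangent.mk ⟨_, hGker i⟩) = 0 := fun i => by
    rw [Algebra.Extension.cotangentComplex_mk]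
    show (1 : κ) ⊗ₜ[Gκ.toExtension.Ring] KaehlerDifferential.D k Gκ.toExtension.Ring (MvPolynomial.aeval Xκ (g i)) = 0
    erw [derivation_aeval]
    rw [TensorProduct.tmul_sum]
    refine Finset.sum_eq_zero fun j _ => ?_
    rw [TensorProduct.tmul_smul, TensorProduct.smul_tmul', Algebra.smul_def]
    erw [hπκ, hcrit _ (hgp i) j]
    rw [zero_mul, TensorProduct.zero_tmul]
  let ξ : Fin c → Algebra.H1Cotangent k κ := fun i =>
    ⟨Algebra.Extension.Cotangent.mk ⟨_, hGker i⟩, hξ0 i⟩
  -- they are independent
  let lift : κ → Q := Function.surjInv residue_surjective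
  let w : κ → Q ⧸ maximalIdeal Q ^ 2 := fun a =>
    Ideal.Quotient.mk _ (if h : ∃ j, η j = a then algebraMap P Q (MvPolynomial.X h.choose) else lift a)
  let μ : Gκ.toExtension.Ring →ₐ[k] Q ⧸ maximalIdeal Q ^ 2 := (MvPolynomial.aeval w : MvPolynomial κ k →ₐ[k] _)
  have hμX : ∀ f : P, μ (MvPolynomial.aeval Xκ f) = Ideal.Quotient.mk _ (algebraMap P Q f) := by
    intro f
    refine (AlgHom.congr_fun (MvPolynomial.comp_aeval (B := Q ⧸ maximalIdeal Q ^ 2) Xκ μ) f).trans ?_
    rw [show (fun j => μ (Xκ j)) = fun j => Ideal.Quotient.mk _ (algebraMap P Q (MvPolynomial.X j)) from funext fun j => by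
        have h : ∃ i, η i = η j := ⟨j, rfl⟩
        show MvPolynomial.aeval w (MvPolynomial.X (η j)) = _
        rw [MvPolynomial.aeval_X]
        show Ideal.Quotient.mk _ (if h : ∃ i, η i = η j then _ else _) = _
        rw [dif_pos h, hη h.choose_spec]]
    have : (MvPolynomial.aeval fun j => Ideal.Quotient.mk (maximalIdeal Q ^ 2) (algebraMap P Q (MvPolynomial.X j))) =
        (Ideal.Quotient.mkₐ k (maximalIdeal Q ^ 2)).comp (IsScalarTower.toAlgHom k P Q) :=
      MvPolynomial.algHom_ext fun j => by rw [MvPolynomial.aeval_X]; rfl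
    rw [this]; rfl
  have hm2 : maximalIdeal Q ^ 2 ≤ maximalIdeal Q := Ideal.pow_le_self two_ne_zero
  let ρ : (Q ⧸ maximalIdeal Q ^ 2) →ₐ[k] κ :=
    { Ideal.Quotient.lift (maximalIdeal Q ^ 2) (residue Q) fun x hx => (residue_eq_zero_iff x).mpr (hm2 hx) with
      commutes' := fun a => rfl }
  have hlift : ∀ a, residue Q (lift a) = a := Function.surjInv_eq residue_surjective
  have hρμ : ∀ x : Gκ.toExtension.Ring, ρ (μ x) = algebraMap Gκ.toExtension.Ring κ x := fun x => by
    have e : (ρ.comp μ : MvPolynomial κ k →ₐ[k] κ) = IsScalarTower.toAlgHom k Gκ.toExtension.Ring κ := by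
      refine MvPolynomial.algHom_ext fun a => ?_
      refine (congrArg ρ (MvPolynomial.aeval_X w a)).trans (Eq.trans ?_ (MvPolynomial.aeval_X Gκ.val a).symm)
      show residue Q (if h : ∃ j, η j = a then algebraMap P Q (MvPolynomial.X h.choose) else lift a) = a
      split
      · next h => exact h.choose_spec
      · exact hlift a
    exact AlgHom.congr_fun e x
  have hξ : LinearIndependent κ ξ := by
    rw [Fintype.linearIndependent_iff]
    intro a ha
    have h1 : ∑ i, Gκ.toExtension.σ (a i) * MvPolynomial.aeval Xκ (g i) ∈ Gκ.toExtension.ker ^ 2 := by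
      have h2 : (∑ i, a i • Algebra.Extension.Cotangent.mk ⟨_, hGker i⟩ : Gκ.toExtension.Cotangent) = 0 := by
        have := congrArg Gκ.toExtension.h1Cotangentι ha
        simp only [map_sum, map_smul, map_zero] at this
        exact this
      have h3 : Algebra.Extension.Cotangent.mk (∑ i, Gκ.toExtension.σ (a i) • (⟨_, hGker i⟩ : Gκ.toExtension.ker)) = 0 := by
        rw [map_sum]
        refine Eq.trans (Finset.sum_congr rfl fun i _ => ?_) h2
        rw [map_smul]
        exact Algebra.Extension.Cotangent.ext (by rw [Algebra.Extension.Cotangent.val_smul, Algebra.Extension.Cotangent.val_smul'])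
      rw [Algebra.Extension.Cotangent.mk_eq_zero_iff] at h3
      simpa only [Submodule.coe_sum, SetLike.val_smul, smul_eq_mul] using h3
    have h4 : μ (∑ i, Gκ.toExtension.σ (a i) * MvPolynomial.aeval Xκ (g i)) = 0 := by
      have hle : Gκ.toExtension.ker.map μ ≤ (maximalIdeal Q).map (Ideal.Quotient.mk (maximalIdeal Q ^ 2)) := by
        rw [Ideal.map_le_iff_le_comap]
        intro x hx
        obtain ⟨y, hy⟩ := Ideal.Quotient.mk_surjective (μ x)
        have h0 : residue Q y = 0 := by
          have := hρμ x
          rw [← hy, show algebraMap Gκ.toExtension.Ring κ x = 0 from hx] at this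
          exact this
        rw [Ideal.mem_comap, ← hy]
        exact Ideal.mem_map_of_mem _ ((residue_eq_zero_iff y).mp h0)
      rw [pow_two] at h1
      refine Submodule.mul_induction_on (C := fun z => μ z = 0) h1 (fun x hx y hy => ?_)
        fun x y hx hy => by rw [map_add, hx, hy, add_zero]
      obtain ⟨u, hu', hux⟩ := (Ideal.mem_map_iff_of_surjective _ Ideal.Quotient.mk_surjective).mp
        (hle (Ideal.mem_map_of_mem μ hx))
      obtain ⟨v, hv', hvy⟩ := (Ideal.mem_map_iff_of_surjective _ Ideal.Quotient.mk_surjective).mp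
        (hle (Ideal.mem_map_of_mem μ hy))
      refine (map_mul μ x y).trans ((congrArg₂ (· * ·) hux hvy).symm.trans ?_)
      exact (map_mul (Ideal.Quotient.mk (maximalIdeal Q ^ 2)) u v).symm.trans
        (Ideal.Quotient.eq_zero_iff_mem.mpr (pow_two (maximalIdeal Q) ▸ Ideal.mul_mem_mul hu' hv'))
    choose b hb' using fun i => Ideal.Quotient.mk_surjective (μ (Gκ.toExtension.σ (a i)))
    have hba : ∀ i, residue Q (b i) = a i := fun i => by
      have := hρμ (Gκ.toExtension.σ (a i))
      rw [← hb' i] at this
      exact this.trans (Gκ.toExtension.algebraMap_σ (a i))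
    simp only [map_sum, map_mul, ← hb', hμX] at h4
    simp only [← map_mul, ← map_sum] at h4
    intro i
    rw [← hba, residue_eq_zero_iff]
    exact hgmin b (Ideal.Quotient.eq_zero_iff_mem.mp h4) i
  -- their images stay independent
  let f : Algebra.Generators.Hom Gκ GK := Algebra.Generators.defaultHom Gκ GK
  have hf : ∀ q : P, f.toExtensionHom.toAlgHom (MvPolynomial.aeval Xκ q) = MvPolynomial.aeval XK q := fun q => by
    refine (AlgHom.congr_fun (MvPolynomial.comp_aeval Xκ f.toExtensionHom.toAlgHom) q).trans ?_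
    exact congrArg (fun v => MvPolynomial.aeval v q) (funext fun j => Algebra.Generators.Hom.toAlgHom_X f _)
  have hπK : ∀ q : P, algebraMap GK.toExtension.Ring K (MvPolynomial.aeval XK q) = residue A (φ q) := by
    intro q
    have : (IsScalarTower.toAlgHom k GK.toExtension.Ring K).comp (MvPolynomial.aeval XK) =
        (IsScalarTower.toAlgHom k A K).comp φ :=
      MvPolynomial.algHom_ext fun j => by
        rw [AlgHom.comp_apply, MvPolynomial.aeval_X]
        exact (MvPolynomial.aeval_X GK.val _).trans (hηz j)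
    exact AlgHom.congr_fun this q
  have hGK : ∀ i, MvPolynomial.aeval XK (g i) ∈ GK.toExtension.ker := fun i => by
    rw [Algebra.Extension.ker, RingHom.mem_ker, hπK, residue_eq_zero_iff]
    exact hgp i
  have hKindep : ∀ a : Fin c → K, ∑ i, GK.toExtension.σ (a i) * MvPolynomial.aeval XK (g i) ∈ GK.toExtension.ker ^ 2 →
      ∀ i, a i = 0 := by
    intro a ha
    let L : (Fin c → κ) →ₗ[κ] Algebra.H1Cotangent k κ := Fintype.linearCombination κ ξ
    have hL : Function.Injective L := by
      rw [← LinearMap.ker_eq_bot, LinearMap.ker_eq_bot']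
      exact fun v hv => funext (Fintype.linearIndependent_iff.mp hξ v hv)
    let t : K ⊗[κ] (Fin c → κ) := ∑ i, a i ⊗ₜ Pi.single i 1
    have ht : (Algebra.H1Cotangent.map k k κ K).liftBaseChange K (L.lTensor K t) = 0 := by
      have e : ∀ i, L (Pi.single i 1) = ξ i := fun i => by simp [L, Fintype.linearCombination_apply_single]
      simp only [t, map_sum, LinearMap.lTensor_tmul, e, LinearMap.liftBaseChange_tmul]
      refine Subtype.ext ?_
      show GK.toExtension.h1Cotangentι (∑ i, a i • Algebra.H1Cotangent.map k k κ K (ξ i)) = GK.toExtension.h1Cotangentι 0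
      have hval : ∀ i, (Algebra.H1Cotangent.map k k κ K (ξ i)).1 = Algebra.Extension.Cotangent.mk ⟨_, hGK i⟩ := fun i => by
        show Algebra.Extension.Cotangent.map f.toExtensionHom (Algebra.Extension.Cotangent.mk ⟨_, hGker i⟩) = _
        rw [Algebra.Extension.Cotangent.map_mk]
        exact congrArg _ (Subtype.ext (hf (g i)))
      simp only [map_sum, map_smul, map_zero]
      refine (Finset.sum_congr rfl fun i _ => congrArg (a i • ·) (hval i)).trans ?_
      have h3 : Algebra.Extension.Cotangent.mk (∑ i, GK.toExtension.σ (a i) • (⟨_, hGK i⟩ : GK.toExtension.ker)) = 0 := by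
        rw [Algebra.Extension.Cotangent.mk_eq_zero_iff]
        simpa only [Submodule.coe_sum, SetLike.val_smul, smul_eq_mul] using ha
      rw [map_sum] at h3
      refine Eq.trans (Finset.sum_congr rfl fun i _ => ?_) h3
      rw [map_smul]
      exact (Algebra.Extension.Cotangent.ext (by rw [Algebra.Extension.Cotangent.val_smul, Algebra.Extension.Cotangent.val_smul']))
    have ht0 : t = 0 := Module.Flat.lTensor_preserves_injective_linearMap L hL
      (Groth.Agent.S9319.result (K := k) (L := κ) (M := K) (ht.trans (map_zero _).symm) |>.trans (map_zero _).symm)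
    intro i
    have := congrArg (fun v => TensorProduct.piScalarRight κ K K (Fin c) v i) ht0
    simpa [t, Pi.single_apply, Finset.sum_apply] using this
  -- independence modulo the square of the maximal ideal of `A`
  have hind : ∀ a : Fin c → A, ∑ i, a i * φ (g i) ∈ maximalIdeal A ^ 2 → ∀ i, a i ∈ maximalIdeal A := by
    intro a ha
    let I : Ideal GK.toExtension.Ring := GK.toExtension.ker
    let C := GK.toExtension.Ring ⧸ I ^ 2
    let J : Ideal C := I.map (Ideal.Quotient.mk (I ^ 2))
    have hJ : J ^ 2 = ⊥ := by rw [← Ideal.map_pow, Ideal.map_quotient_self]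
    have hJJ : ∀ x ∈ J, ∀ y ∈ J, x * y = (0 : C) := fun x hx y hy => by
      have h : x * y ∈ J ^ 2 := (pow_two J).symm ▸ Ideal.mul_mem_mul hx hy
      rwa [hJ, Ideal.mem_bot] at h
    let π : GK.toExtension.Ring →ₐ[k] K := IsScalarTower.toAlgHom k GK.toExtension.Ring K
    have hπs : Function.Surjective π := fun x => ⟨GK.toExtension.σ x, GK.toExtension.algebraMap_σ x⟩
    let ρ : (GK.toExtension.Ring ⧸ RingHom.ker π) →ₐ[k] C ⧸ J :=
      Ideal.Quotient.liftₐ _ ((Ideal.Quotient.mkₐ k J).comp (Ideal.Quotient.mkₐ k (I ^ 2))) fun x hx =>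
        Ideal.Quotient.eq_zero_iff_mem.2 (Ideal.mem_map_of_mem _ hx)
    let e : (GK.toExtension.Ring ⧸ RingHom.ker π) ≃ₐ[k] K := Ideal.quotientKerAlgEquivOfSurjective hπs
    let ν : A →ₐ[k] C ⧸ J := (ρ.comp e.symm.toAlgHom).comp (IsScalarTower.toAlgHom k A K)
    have hνπ : ∀ (x : A) (q : GK.toExtension.Ring), π q = residue A x → ν x = Ideal.Quotient.mk J (Ideal.Quotient.mk (I ^ 2) q) := by
      intro x q hq
      show ρ (e.symm (residue A x)) = _
      rw [← hq, show π q = e (Ideal.Quotient.mk (RingHom.ker π) q) from rfl, AlgEquiv.symm_apply_apply]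
      rfl
    obtain ⟨χ, hχ⟩ := hfs C J hJ ν ⟨1, fun x hx => by
      rw [pow_one, ← residue_eq_zero_iff] at hx
      show ρ (e.symm (residue A x)) = 0
      rw [hx, map_zero, map_zero]⟩
    let mk₂ := Ideal.Quotient.mkₐ k (I ^ 2)
    have hχJ : ∀ (x : A) (q : GK.toExtension.Ring), π q = residue A x → mk₂ q - χ x ∈ J := fun x q hq => by
      rw [← Ideal.Quotient.eq]
      exact ((AlgHom.congr_fun hχ x).trans (hνπ x q hq)).symm
    have hG : ∀ i, mk₂ (MvPolynomial.aeval XK (g i)) = χ (φ (g i)) := fun i => by
      have e1 : χ (φ (g i)) = MvPolynomial.aeval (fun j => χ (φ (MvPolynomial.X j))) (g i) := by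
        rw [← AlgHom.comp_apply, MvPolynomial.aeval_unique (χ.comp φ)]
        rfl
      rw [e1, ← AlgHom.comp_apply, MvPolynomial.comp_aeval]
      refine aeval_eq_of_sq_zero J hJJ _ _ (fun j => hχJ (φ (MvPolynomial.X j)) (XK j) ?_) _ fun j => ?_
      · have := hπK (MvPolynomial.X j)
        rw [MvPolynomial.aeval_X] at this
        exact this
      · rw [← MvPolynomial.comp_aeval, AlgHom.comp_apply]
        refine Ideal.mem_map_of_mem _ ?_
        show algebraMap GK.toExtension.Ring K _ = 0
        rw [hπK, ← hψ]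
        show algebraMap κ K (residue Q _) = 0
        rw [← hevη, hcrit _ (hgp i) j, map_zero]
    have hm : ∀ x ∈ maximalIdeal A, χ x ∈ J := fun x hx => by
      have := hχJ x 0 (by rw [map_zero, (residue_eq_zero_iff x).mpr hx])
      rw [map_zero, zero_sub, neg_mem_iff] at this
      exact this
    have h0 : χ (∑ i, a i * φ (g i)) = 0 := by
      have h2 : (maximalIdeal A).map χ.toRingHom ≤ J := Ideal.map_le_iff_le_comap.2 hm
      have h3 := Ideal.pow_right_mono h2 2 (Ideal.map_pow χ.toRingHom _ 2 ▸ Ideal.mem_map_of_mem χ.toRingHom ha)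
      rwa [hJ, Ideal.mem_bot] at h3
    intro i
    rw [← residue_eq_zero_iff]
    refine hKindep (fun i => residue A (a i)) ?_ i
    refine Ideal.Quotient.eq_zero_iff_mem.mp ?_
    show mk₂ (∑ i, GK.toExtension.σ (residue A (a i)) * MvPolynomial.aeval XK (g i)) = 0
    rw [map_sum, ← h0, map_sum]
    refine Finset.sum_congr rfl fun i _ => ?_
    rw [map_mul, map_mul, hG, ← sub_eq_zero, ← sub_mul]
    refine hJJ _ (hχJ _ _ (GK.toExtension.algebraMap_σ _)) _ ?_
    exact hm _ (hgp i)
  have hgA : ∀ i, φ (g i) ∈ maximalIdeal A := fun i => hgp i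
  obtain ⟨hreg, hseq⟩ := Groth.Calg4.isRegularLocalRing_quotient_of_indep c A (fun i => φ (g i)) hgA hind
  have hmapQ : (maximalIdeal Q).map (algebraMap Q A) = Ideal.span (Set.range fun i => φ (g i)) := by
    rw [← hgspan, Ideal.map_span, ← Set.range_comp]
    exact congrArg (fun v => Ideal.span (Set.range v)) (funext fun i => hψ (g i))
  have hpA : p.map φ.toRingHom = Ideal.span (Set.range fun i => φ (g i)) := by
    rw [← hmapQ, ← Localization.AtPrime.map_eq_maximalIdeal, Ideal.map_map, ← IsScalarTower.algebraMap_eq]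
    rfl
  refine ⟨?_, by rw [hpA]; exact hreg⟩
  -- flatness
  have hw : RingTheory.Sequence.IsRegular Q (List.ofFn fun i => algebraMap P Q (g i)) := by
    refine (IsLocalRing.isRegular_iff_isWeaklyRegular_of_subset_maximalIdeal fun x hx => ?_).mpr
      (Groth.Ega4b.isWeaklyRegular_of_independent_mod_sq c Q _ (fun i => hgspan.le (Ideal.subset_span ⟨i, rfl⟩)) hgmin)
    obtain ⟨i, rfl⟩ := List.mem_ofFn.mp hx
    exact hgspan.le (Ideal.subset_span ⟨i, rfl⟩)
  have hdQ := ringKrullDim_add_length_eq_ringKrullDim_of_isRegular _ hw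
  rw [Groth.Ega4b.ofList_ofFn_eq_span, hgspan, List.length_ofFn] at hdQ
  have hf0 : ringKrullDim (Q ⧸ maximalIdeal Q) = 0 := ringKrullDim_eq_zero_of_field (ResidueField Q)
  rw [hf0, zero_add] at hdQ
  have hdA := ringKrullDim_add_length_eq_ringKrullDim_of_isRegular _ hseq
  rw [Groth.Ega4b.ofList_ofFn_eq_span, List.length_ofFn] at hdA
  have : LocCoh.IsCohenMacaulayLocalRing A := Groth.Calg4.isCohenMacaulayLocalRing_of_isRegularLocalRing A
  have : Module.Flat Q A := by
    refine Groth.Calg1.flat_of_isRegularLocalRing_of_isCohenMacaulay Q A ?_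
    rw [hmapQ, ← hdA, ← hdQ, add_comm]
  exact Module.Flat.trans P Q A

end Groth.Calg7.GeomRegBasis
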