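import Mathlib
import Groth.Agent.HensPair.Universal
import Groth.Agent.Hensel1.QFSplit
import Groth.Agent.Hensel1.Finite
import Groth.Agent.EGA43Topo.UnibranchParams

/-!
The henselization `B` of `R[t]` along `(t)` for a henselian local ring `R`: locality, Weierstrass
preparation and Weierstrass division.
-/

set_option autoImplicit false

namespace Groth.Calg7.HensPoly

open Polynomial IsLocalRing

universe u

/-- distinguished polynomial -/
def IsDist {R : Type u} [CommRing R] [IsLocalRing R] (P : R[X]) : Prop :=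
  P.Monic ∧ ∀ i : ℕ, i < P.natDegree → P.coeff i ∈ maximalIdeal R

variable {R : Type u} [CommRing R] {B : Type u} [CommRing B] [Algebra R B] [Algebra R[X] B]
  [IsScalarTower R R[X] B] (hB : Hens2.IsPairHenselization R[X] (Ideal.span {(X : R[X])}) B)

omit [Algebra R B] [IsScalarTower R R[X] B] in
theorem map_span : (Ideal.span {(X : R[X])}).map (algebraMap R[X] B) =
    Ideal.span {algebraMap R[X] B X} := by
  rw [Ideal.map_span, Set.image_singleton]

omit [Algebra R B] [IsScalarTower R R[X] B] in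
include hB in
theorem t_mem_jacobson : algebraMap R[X] B X ∈ (⊥ : Ideal B).jacobson :=
  hB.1.jac (Ideal.mem_map_of_mem _ (Ideal.mem_span_singleton_self X))

include hB in
/-- the constant coefficient map `B → R` -/
theorem exists_constCoeff : ∃ ε : B →+* R, (∀ p : R[X], ε (algebraMap R[X] B p) = p.coeff 0) ∧
    ∀ b : B, b - algebraMap R B (ε b) ∈ Ideal.span {algebraMap R[X] B X} := by
  have hh : HenselianRing R (⊥ : Ideal R) :=
    Groth.Hensel1.henselianRing_of_forall_isNilpotent fun x hx => by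
      rw [Ideal.mem_bot.1 hx]; exact IsNilpotent.zero
  obtain ⟨ε, hε, -⟩ := hB.2 R ⊥ Polynomial.constantCoeff hh (by
    rw [Ideal.map_span, Set.image_singleton, Ideal.span_le]
    simp)
  have hε' : ∀ p : R[X], ε (algebraMap R[X] B p) = p.coeff 0 := fun p => RingHom.congr_fun hε p
  refine ⟨ε, hε', fun b => ?_⟩
  obtain ⟨p, hp⟩ := Groth.HensPair.exists_sub_mem hB b
  rw [map_span] at hp
  obtain ⟨y, hy⟩ := Ideal.mem_span_singleton.1 hp
  have h0 : ε b = p.coeff 0 := by
    have := congrArg ε hy
    rw [map_sub, map_mul, hε', hε', Polynomial.coeff_X_zero, zero_mul, sub_eq_zero] at this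
    exact this
  have hC : algebraMap R B (ε b) = algebraMap R[X] B (C (p.coeff 0)) := by
    rw [h0, IsScalarTower.algebraMap_apply R R[X] B]; rfl
  refine Ideal.mem_span_singleton.2 ⟨y + algebraMap R[X] B p.divX, ?_⟩
  rw [hC, mul_add, ← hy, ← map_mul]
  have : algebraMap R[X] B p = algebraMap R[X] B (X * p.divX) + algebraMap R[X] B (C (p.coeff 0)) := by
    rw [← map_add, X_mul_divX_add]
  rw [this]; ring

include hB in
theorem isUnit_iff {ε : B →+* R} (hε : ∀ b : B, b - algebraMap R B (ε b) ∈ Ideal.span {algebraMap R[X] B X})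
    (b : B) : IsUnit b ↔ IsUnit (ε b) := by
  refine ⟨fun h => h.map ε, fun h => ?_⟩
  obtain ⟨v, hv⟩ := h.map (algebraMap R B)
  obtain ⟨y, hy⟩ := Ideal.mem_span_singleton.1 (hε b)
  have hu := Ideal.mem_jacobson_bot.1 (t_mem_jacobson hB) (y * ↑v⁻¹)
  have e : b = (algebraMap R[X] B X * (y * ↑v⁻¹) + 1) * ↑v := by
    rw [add_mul, mul_assoc, mul_assoc, Units.inv_mul, mul_one, one_mul, hv, ← hy, sub_add_cancel]
  rw [e]
  exact hu.mul v.isUnit

variable [IsLocalRing R]

include hB in
theorem isLocalRing : IsLocalRing B := by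
  obtain ⟨ε, hε0, hε⟩ := exists_constCoeff hB
  haveI : Nontrivial B := ε.domain_nontrivial
  refine IsLocalRing.of_nonunits_add fun a b ha hb => ?_
  rw [mem_nonunits_iff, isUnit_iff hB hε] at ha hb ⊢
  rw [map_add]
  exact IsLocalRing.nonunits_add (mem_nonunits_iff.2 ha) (mem_nonunits_iff.2 hb)

end Groth.Calg7.HensPoly

namespace Groth.Calg7.HensPoly

open Polynomial IsLocalRing

universe u

variable {R : Type u} [CommRing R] [HenselianLocalRing R] {B : Type u} [CommRing B] [Algebra R B]
  [Algebra R[X] B] [IsScalarTower R R[X] B]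
  (hB : Hens2.IsPairHenselization R[X] (Ideal.span {(X : R[X])}) B)

/-- `R[t]/(P)` is a henselian pair along `t` for a distinguished `P`. -/
theorem henselianRing_adjoinRoot {P : R[X]} (hP : IsDist P) :
    HenselianRing (AdjoinRoot P) (Ideal.span {AdjoinRoot.root P}) := by
  haveI : Module.Finite R (AdjoinRoot P) := hP.1.finite_adjoinRoot
  haveI : HenselianRing R (maximalIdeal R) := inferInstance
  haveI : Algebra.IsIntegral R (AdjoinRoot P) := Algebra.IsIntegral.of_finite R _
  haveI := Groth.Hensel1.henselianRing_of_isIntegral (A := R) (I := maximalIdeal R) (AdjoinRoot P)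
  refine Groth.Hensel1.henselianRing_of_le_radical (I := (maximalIdeal R).map (algebraMap R (AdjoinRoot P))) ?_
  rw [Ideal.span_le, Set.singleton_subset_iff]
  refine ⟨P.natDegree, ?_⟩
  have h0 : Polynomial.aeval (AdjoinRoot.root P) P = 0 := (AdjoinRoot.aeval_eq P).trans AdjoinRoot.mk_self
  rw [Polynomial.aeval_eq_sum_range, Finset.sum_range_succ, hP.1.coeff_natDegree, one_smul] at h0
  rw [eq_neg_of_add_eq_zero_right h0]
  refine neg_mem (Ideal.sum_mem _ fun i hi => ?_)
  rw [Algebra.smul_def]
  exact Ideal.mul_mem_right _ _ (Ideal.mem_map_of_mem _ (hP.2 i (Finset.mem_range.1 hi)))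

include hB in
/-- Weierstrass division by a distinguished polynomial. -/
theorem quotient_dist {P : R[X]} (hP : IsDist P) :
    (∀ b : B, ∃ q : R[X], algebraMap R[X] B q - b ∈ Ideal.span {algebraMap R[X] B P}) ∧
    (∀ q : R[X], algebraMap R[X] B q ∈ Ideal.span {algebraMap R[X] B P} → P ∣ q) := by
  obtain ⟨ψ, hψ, -⟩ := hB.2 (AdjoinRoot P) _ (AdjoinRoot.mk P) (henselianRing_adjoinRoot hP) (by
    rw [Ideal.map_span, Set.image_singleton, AdjoinRoot.mk_X])
  have hψ' : ∀ p : R[X], ψ (algebraMap R[X] B p) = AdjoinRoot.mk P p := fun p => RingHom.congr_fun hψ p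
  refine ⟨fun b => ?_, fun q hq => ?_⟩
  · haveI := hB.1
    set K := Ideal.span {algebraMap R[X] B P}
    have hK := Groth.Hensel1.henselianRing_quotient (I := (Ideal.span {(X : R[X])}).map (algebraMap R[X] B)) K
    let θ : AdjoinRoot P →+* B ⧸ K := Ideal.Quotient.lift (Ideal.span {P})
      ((Ideal.Quotient.mk K).comp (algebraMap R[X] B)) fun a ha => by
        obtain ⟨c, rfl⟩ := Ideal.mem_span_singleton.1 ha
        rw [RingHom.comp_apply, Ideal.Quotient.eq_zero_iff_mem, map_mul]
        exact Ideal.mul_mem_right _ _ (Ideal.mem_span_singleton_self _)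
    have hθ : ∀ p : R[X], θ (AdjoinRoot.mk P p) = Ideal.Quotient.mk K (algebraMap R[X] B p) := fun p => rfl
    obtain ⟨g, -, hg⟩ := hB.2 (B ⧸ K) _ ((Ideal.Quotient.mk K).comp (algebraMap R[X] B)) hK
      (by rw [Ideal.map_map])
    have h1 : θ.comp ψ = Ideal.Quotient.mk K := (hg _ (RingHom.ext fun p => by
      rw [RingHom.comp_apply, RingHom.comp_apply, hψ', hθ]; rfl)).trans (hg _ rfl).symm
    obtain ⟨q, hq⟩ := AdjoinRoot.mk_surjective (ψ b)
    refine ⟨q, Ideal.Quotient.eq.1 ?_⟩
    rw [← hθ, hq]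
    exact RingHom.congr_fun h1 b
  · obtain ⟨c, hc⟩ := Ideal.mem_span_singleton.1 hq
    rw [← AdjoinRoot.mk_eq_zero, ← hψ', hc, map_mul, hψ', AdjoinRoot.mk_self, zero_mul]

omit [HenselianLocalRing R] [Algebra R B] [IsScalarTower R R[X] B] in
theorem isSMulRegular_quotient (I : Ideal R[X]) {x : R[X]} [Module.Flat R[X] B]
    (hx : IsSMulRegular (R[X] ⧸ I) x) {b : B} (hb : algebraMap R[X] B x * b ∈ I.map (algebraMap R[X] B)) :
    b ∈ I.map (algebraMap R[X] B) := by
  have h1 : IsSMulRegular (TensorProduct R[X] B (R[X] ⧸ I)) x := hx.lTensor B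
  have h2 : IsSMulRegular (B ⧸ (I • ⊤ : Submodule R[X] B)) x :=
    ((TensorProduct.tensorQuotEquivQuotSMul B I).isSMulRegular_congr x).1 h1
  have hmem : ∀ z : B, z ∈ (I • ⊤ : Submodule R[X] B) ↔ z ∈ I.map (algebraMap R[X] B) := fun z => by
    rw [Ideal.smul_top_eq_map]; rfl
  rw [← hmem] at hb ⊢
  rw [← Submodule.Quotient.mk_eq_zero] at hb ⊢
  refine h2 ?_
  show x • Submodule.Quotient.mk b = x • (0 : B ⧸ (I • ⊤ : Submodule R[X] B))
  rw [smul_zero, ← Submodule.Quotient.mk_smul, Algebra.smul_def, hb]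

omit [HenselianLocalRing R] [Algebra R B] [IsScalarTower R R[X] B] in
theorem isSMulRegular_monic [Module.Flat R[X] B] {P : R[X]} (hP : P.Monic) {b : B}
    (hb : algebraMap R[X] B P * b = 0) : b = 0 := by
  have hx : IsSMulRegular (R[X] ⧸ (⊥ : Ideal R[X])) P := by
    rw [isSMulRegular_iff_right_eq_zero_of_smul]
    intro y hy
    obtain ⟨p, rfl⟩ := Ideal.Quotient.mk_surjective y
    rw [← Ideal.Quotient.mk_eq_mk, ← Submodule.Quotient.mk_smul, Submodule.Quotient.mk_eq_zero,
      Ideal.mem_bot, smul_eq_mul, hP.mul_right_eq_zero_iff] at hy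
    rw [hy, map_zero]
  have := isSMulRegular_quotient (B := B) ⊥ hx (b := b) (by simp [hb])
  simpa using this

include hB in
/-- an element of `B` comes from an étale neighbourhood -/
theorem exists_nbhd (b : B) : ∃ (C : Type u) (_ : CommRing C) (_ : Algebra R[X] C),
    Groth.HensPair.IsNbhd (Ideal.span {(X : R[X])}) C ∧ ∃ g : C →ₐ[R[X]] B, b ∈ g.range := by
  obtain ⟨e⟩ := Groth.HensPair.nonempty_algEquiv
    (Groth.HensPair.isPairHenselization (Ideal.span {(X : R[X])})) hB
  obtain ⟨i, y, hy⟩ := Groth.HensPair.exists_of (e.symm b)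
  exact ⟨i.Obj, inferInstance, inferInstance, i.isNbhd,
    e.toAlgHom.comp (Groth.HensPair.of _ i), ⟨y, by simp [hy]⟩⟩

include hB in
/-- For `f` outside `m B`, the quotient `B/(f)` is finite over `R` and `t` is nilpotent in `B/(f, m)`. -/
theorem finite_quotient (f : B) (hf : f ∉ (maximalIdeal R).map (algebraMap R B)) :
    Module.Finite R (B ⧸ Ideal.span {f}) ∧
      ∃ N : ℕ, (algebraMap R[X] B X) ^ N ∈ Ideal.span {f} ⊔ (maximalIdeal R).map (algebraMap R B) := by
  classical
  haveI := isLocalRing hB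
  obtain ⟨ε, hε0, hε⟩ := exists_constCoeff hB
  by_cases hfu : IsUnit f
  · rw [Ideal.span_singleton_eq_top.2 hfu]
    haveI : Subsingleton (B ⧸ (⊤ : Ideal B)) := Ideal.Quotient.subsingleton_iff.2 rfl
    exact ⟨inferInstance, 0, by rw [top_sup_eq]; exact Submodule.mem_top⟩
  obtain ⟨C, _, _, hC, g, f₀, hf₀⟩ := exists_nbhd hB f
  replace hf₀ : g f₀ = f := hf₀
  haveI := hC.etale
  letI : Algebra R C := ((algebraMap R[X] C).comp (algebraMap R R[X])).toAlgebra
  haveI : IsScalarTower R R[X] C := IsScalarTower.of_algebraMap_eq fun _ => rfl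
  let gR : C →ₐ[R] B := g.restrictScalars R
  haveI : Algebra.FiniteType R C := Algebra.FiniteType.trans (S := R[X]) inferInstance inferInstance
  let S := C ⧸ Ideal.span {f₀}
  haveI : Algebra.FiniteType R S := Algebra.FiniteType.of_surjective (Ideal.Quotient.mkₐ R _)
    (Ideal.Quotient.mkₐ_surjective R _)
  -- the closed point
  let qC : Ideal C := (maximalIdeal B).comap g.toRingHom
  have hfq : Ideal.span {f₀} ≤ qC := by
    rw [Ideal.span_le, Set.singleton_subset_iff]
    show g f₀ ∈ maximalIdeal B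
    rw [hf₀]; exact (IsLocalRing.mem_maximalIdeal f).2 hfu
  let q : Ideal S := qC.map (Ideal.Quotient.mk _)
  have hqc : q.comap (Ideal.Quotient.mk (Ideal.span {f₀})) = qC := by
    rw [Ideal.comap_map_of_surjective _ Ideal.Quotient.mk_surjective, ← RingHom.ker_eq_comap_bot,
      Ideal.mk_ker, sup_eq_left.2 hfq]
  haveI hqp : q.IsPrime := Ideal.map_isPrime_of_surjective Ideal.Quotient.mk_surjective
    (by rw [Ideal.mk_ker]; exact hfq)
  have hmB : ∀ r : R, algebraMap R B r ∈ maximalIdeal B ↔ r ∈ maximalIdeal R := fun r => by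
    rw [IsLocalRing.mem_maximalIdeal, mem_nonunits_iff, isUnit_iff hB hε,
      IsScalarTower.algebraMap_apply R R[X] B, hε0, ← mem_nonunits_iff, ← IsLocalRing.mem_maximalIdeal]
    simp
  haveI : q.LiesOver (maximalIdeal R) := ⟨by
    ext r
    rw [Ideal.under_def, Ideal.mem_comap, IsScalarTower.algebraMap_apply R C S,
      show algebraMap C S = Ideal.Quotient.mk _ from rfl, ← Ideal.mem_comap, hqc, ← hmB]
    show _ ↔ gR (algebraMap R C r) ∈ maximalIdeal B
    rw [AlgHom.commutes]⟩
  have htB : algebraMap R[X] B X ∈ maximalIdeal B := by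
    rw [IsLocalRing.mem_maximalIdeal, mem_nonunits_iff, isUnit_iff hB hε, hε0]
    simp
  -- qC = (m, t)
  have hqC : ∀ x ∈ qC, ∀ (J : Ideal C), (∀ r ∈ maximalIdeal R, algebraMap R C r ∈ J) →
      algebraMap R[X] C X ∈ J → x ∈ J := by
    intro x hx J hJm hJt
    obtain ⟨p, hp⟩ := hC.surj x
    rw [Ideal.map_span, Set.image_singleton] at hp
    obtain ⟨y, hy⟩ := Ideal.mem_span_singleton.1 hp
    have e1 : x = algebraMap R C (p.coeff 0) + algebraMap R[X] C X * (y + algebraMap R[X] C p.divX) := by
      have e2 : algebraMap R C (p.coeff 0) = algebraMap R[X] C (Polynomial.C (p.coeff 0)) := rfl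
      have e3 : algebraMap R[X] C p = algebraMap R[X] C (X * p.divX) + algebraMap R[X] C (Polynomial.C (p.coeff 0)) := by
        rw [← map_add, X_mul_divX_add]
      rw [e2, mul_add, ← hy, ← map_mul, e3]; ring
    have hr : p.coeff 0 ∈ maximalIdeal R := by
      rw [← hmB, ← gR.commutes]
      have h1 : g (algebraMap R[X] C X) ∈ maximalIdeal B := by rw [g.commutes]; exact htB
      have := sub_mem (show g x ∈ maximalIdeal B from hx)
        (Ideal.mul_mem_right (g (y + algebraMap R[X] C p.divX)) _ h1)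
      rw [← map_mul, ← map_sub, e1, add_sub_cancel_right] at this
      exact this
    rw [e1]
    exact add_mem (hJm _ hr) (Ideal.mul_mem_right _ _ hJt)
  haveI : IsNoetherianRing (C ⧸ (maximalIdeal R).map (algebraMap R C)) := by
    let θ : ResidueField R →+* C ⧸ (maximalIdeal R).map (algebraMap R C) :=
      Ideal.Quotient.lift (maximalIdeal R) ((Ideal.Quotient.mk _).comp (algebraMap R C)) fun a ha =>
        Ideal.Quotient.eq_zero_iff_mem.2 (Ideal.mem_map_of_mem _ ha)
    letI : Algebra (ResidueField R) (C ⧸ (maximalIdeal R).map (algebraMap R C)) := θ.toAlgebra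
    haveI : IsScalarTower R (ResidueField R) (C ⧸ (maximalIdeal R).map (algebraMap R C)) :=
      IsScalarTower.of_algebraMap_eq fun _ => rfl
    haveI : Algebra.FiniteType R (C ⧸ (maximalIdeal R).map (algebraMap R C)) :=
      Algebra.FiniteType.of_surjective (Ideal.Quotient.mkₐ R _) (Ideal.Quotient.mkₐ_surjective R _)
    haveI : Algebra.FiniteType (ResidueField R) (C ⧸ (maximalIdeal R).map (algebraMap R C)) :=
      Algebra.FiniteType.of_restrictScalars_finiteType R _ _
    exact Algebra.FiniteType.isNoetherianRing (ResidueField R) _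
  haveI : Algebra.QuasiFiniteAt R q := by
    refine Groth.EGA43Topo.quasiFiniteAt_of_comparable q fun q' hq' hcomp hlie => ?_
    set qC' := q'.comap (Ideal.Quotient.mk (Ideal.span {f₀})) with hqC'
    have hm' : ∀ r ∈ maximalIdeal R, algebraMap R C r ∈ qC' := fun r hr => by
      have : r ∈ q'.comap (algebraMap R S) := by
        rw [hlie, ← Ideal.under_def, ← q.over_def (maximalIdeal R)]; exact hr
      exact this
    suffices qC ≤ qC' by
      have hmax : qC.IsMaximal := by
        haveI : qC.IsPrime := Ideal.IsPrime.comap _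
        refine Ideal.isMaximal_iff.2 ⟨fun h => Ideal.IsPrime.ne_top inferInstance ((Ideal.eq_top_iff_one qC).2 h),
          fun J x hJ hx hxJ => ?_⟩
        obtain ⟨p, hp⟩ := hC.surj x
        rw [Ideal.map_span, Set.image_singleton] at hp
        obtain ⟨y, hy⟩ := Ideal.mem_span_singleton.1 hp
        have htq : algebraMap R[X] C X ∈ qC := by
          show g _ ∈ maximalIdeal B
          rw [g.commutes]; exact htB
        set z := algebraMap R C (p.coeff 0) with hz
        have hxz : x - z ∈ qC := by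
          have e2 : z = algebraMap R[X] C (Polynomial.C (p.coeff 0)) := rfl
          have e3 : algebraMap R[X] C p = algebraMap R[X] C (X * p.divX) + algebraMap R[X] C (Polynomial.C (p.coeff 0)) := by
            rw [← map_add, X_mul_divX_add]
          rw [show x - z = algebraMap R[X] C X * (y + algebraMap R[X] C p.divX) by
            rw [e2, mul_add, ← hy, ← map_mul, e3]; ring]
          exact Ideal.mul_mem_right _ _ htq
        have hu : IsUnit (p.coeff 0) := by
          by_contra hnu
          refine hx ?_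
          have : z ∈ qC := by
            show gR z ∈ maximalIdeal B
            rw [hz, AlgHom.commutes, hmB]; exact hnu
          simpa using add_mem hxz this
        have hzJ : z ∈ J := by simpa using sub_mem hxJ (hJ hxz)
        exact (Ideal.eq_top_iff_one J).1 (Ideal.eq_top_of_isUnit_mem J hzJ (hu.map (algebraMap R C)))
      have heq : qC' = qC := (hmax.eq_of_le (Ideal.IsPrime.ne_top (Ideal.IsPrime.comap _)) this).symm
      rw [← Ideal.map_comap_of_surjective _ Ideal.Quotient.mk_surjective q', ← hqC', heq]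
    intro x hx
    refine hqC x hx qC' hm' ?_
    by_contra ht
    have hle : qC' ≤ qC := by
      rcases hcomp with h | h
      · exact hqc ▸ Ideal.comap_mono h
      · exact absurd (show algebraMap R[X] C X ∈ qC' from Ideal.comap_mono h (show
          algebraMap R[X] C X ∈ q.comap _ by
            rw [hqc]; show g _ ∈ maximalIdeal B; rw [g.commutes]; exact htB)) ht
    -- work in the localization of `C/mC` at the closed point
    set D := C ⧸ (maximalIdeal R).map (algebraMap R C) with hD
    have hmC : (maximalIdeal R).map (algebraMap R C) ≤ qC' := Ideal.map_le_iff_le_comap.2 hm'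
    let πD := Ideal.Quotient.mk ((maximalIdeal R).map (algebraMap R C))
    haveI : qC'.IsPrime := Ideal.IsPrime.comap _
    haveI : qC.IsPrime := Ideal.IsPrime.comap _
    haveI hqD : (qC.map πD).IsPrime :=
      Ideal.map_isPrime_of_surjective Ideal.Quotient.mk_surjective (by rw [Ideal.mk_ker]; exact hmC.trans hle)
    haveI hqD' : (qC'.map πD).IsPrime :=
      Ideal.map_isPrime_of_surjective Ideal.Quotient.mk_surjective (by rw [Ideal.mk_ker]; exact hmC)
    let O := Localization.AtPrime (qC.map πD)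
    haveI : IsNoetherianRing O := IsLocalization.isNoetherianRing (qC.map πD).primeCompl O inferInstance
    let τ : C →+* O := (algebraMap D O).comp πD
    set P := qC'.map τ with hP
    have hPle : P ≤ Ideal.span {τ (algebraMap R[X] C X)} * P := by
      rw [hP, Ideal.map_le_iff_le_comap]
      intro z hz
      have hz' := hqC z (hle hz) ((maximalIdeal R).map (algebraMap R C) ⊔ Ideal.span {algebraMap R[X] C X})
        (fun r hr => Ideal.mem_sup_left (Ideal.mem_map_of_mem _ hr))
        (Ideal.mem_sup_right (Ideal.mem_span_singleton_self _))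
      obtain ⟨a, ha, b, hb, rfl⟩ := Submodule.mem_sup.1 hz'
      obtain ⟨y, rfl⟩ := Ideal.mem_span_singleton.1 hb
      have hy : y ∈ qC' := by
        have h := sub_mem hz (hmC ha)
        rw [add_sub_cancel_left] at h
        exact ((Ideal.IsPrime.mem_or_mem inferInstance h).resolve_left ht)
      rw [Ideal.mem_comap, map_add, map_mul]
      have h0 : τ a = 0 := by
        show algebraMap D O (πD a) = 0
        rw [Ideal.Quotient.eq_zero_iff_mem.2 ha, map_zero]
      rw [h0, zero_add]
      exact Ideal.mul_mem_mul (Ideal.mem_span_singleton_self _) (Ideal.mem_map_of_mem _ hy)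
    have hP0 : P = ⊥ := by
      refine Submodule.eq_bot_of_le_smul_of_le_jacobson_bot _ P (IsNoetherian.noetherian _)
        (by rwa [smul_eq_mul]) ?_
      refine le_trans ?_ (IsLocalRing.maximalIdeal_le_jacobson _)
      rw [Ideal.span_le, Set.singleton_subset_iff]
      show algebraMap D O (πD _) ∈ maximalIdeal O
      rw [IsLocalization.AtPrime.to_map_mem_maximal_iff O (qC.map πD)]
      refine Ideal.mem_map_of_mem _ ?_
      show g _ ∈ maximalIdeal B
      rw [g.commutes]; exact htB
    have hf0 : τ f₀ = 0 := by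
      rw [← Ideal.mem_bot, ← hP0]
      refine Ideal.mem_map_of_mem _ ?_
      show Ideal.Quotient.mk _ f₀ ∈ q'
      rw [Ideal.Quotient.eq_zero_iff_mem.2 (Ideal.mem_span_singleton_self f₀)]
      exact zero_mem _
    obtain ⟨⟨c, hc⟩, hcf⟩ := (IsLocalization.map_eq_zero_iff (qC.map πD).primeCompl O _).1 hf0
    obtain ⟨c, rfl⟩ := Ideal.Quotient.mk_surjective c
    change πD c * πD f₀ = 0 at hcf
    rw [← map_mul, Ideal.Quotient.eq_zero_iff_mem] at hcf
    have hcf' : g (c * f₀) ∈ (maximalIdeal R).map (algebraMap R B) := by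
      have := Ideal.mem_map_of_mem gR.toRingHom hcf
      rwa [Ideal.map_map, AlgHom.toRingHom_eq_coe, gR.comp_algebraMap] at this
    have hcu : IsUnit (g c) := by
      by_contra hnu
      exact hc (Ideal.mem_map_of_mem _ (show g c ∈ maximalIdeal B from hnu))
    rw [map_mul, hf₀, mul_comm] at hcf'
    obtain ⟨v, hv⟩ := hcu
    have := Ideal.mul_mem_right (↑v⁻¹ : B) _ hcf'
    rw [← hv, Units.mul_inv_cancel_right] at this
    exact hf this
  obtain ⟨e, heq, hfg, hloc⟩ := Groth.Hensel1.exists_idempotent_of_quasiFiniteAt (R := R) q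
  haveI := hfg.finite
  let E := S ⧸ Ideal.span {1 - e}
  haveI : HenselianLocalRing E := Groth.Hensel1.henselianLocalRing_of_finite R E
  set K := Ideal.span {f}
  haveI : Nontrivial (B ⧸ K) := Ideal.Quotient.nontrivial_iff.2 (fun h => hfu (Ideal.span_singleton_eq_top.1 h))
  let gbar : S →ₐ[R] B ⧸ K := Ideal.Quotient.liftₐ _ ((Ideal.Quotient.mkₐ R K).comp gR) fun a ha => by
    obtain ⟨c, rfl⟩ := Ideal.mem_span_singleton.1 ha
    show Ideal.Quotient.mk K (g (f₀ * c)) = 0
    rw [map_mul, hf₀, Ideal.Quotient.eq_zero_iff_mem]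
    exact Ideal.mul_mem_right _ _ (Ideal.mem_span_singleton_self f)
  have hge : gbar e = 1 := by
    obtain ⟨e₀, rfl⟩ := Ideal.Quotient.mk_surjective e
    have hu : IsUnit (g e₀) := by
      by_contra hnu
      exact heq (Ideal.mem_map_of_mem _ (show g e₀ ∈ maximalIdeal B from hnu))
    have hu' : IsUnit (gbar (Ideal.Quotient.mk _ e₀)) := hu.map (Ideal.Quotient.mk K)
    exact hu'.mul_left_cancel (by rw [← map_mul, hfg.1.eq, mul_one])
  let π : E →ₐ[R] B ⧸ K := Ideal.Quotient.liftₐ _ gbar fun a ha => by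
    obtain ⟨c, rfl⟩ := Ideal.mem_span_singleton.1 ha
    rw [map_mul, map_sub, map_one, hge, sub_self, zero_mul]
  let ι : R[X] →+* E := (Ideal.Quotient.mk _).comp ((Ideal.Quotient.mk _).comp (algebraMap R[X] C))
  have hiX : ι X ∈ maximalIdeal E := by
    rw [IsLocalRing.mem_maximalIdeal, mem_nonunits_iff]
    intro hu
    have h1 := hu.map π.toRingHom
    have h2 : π.toRingHom (ι X) = Ideal.Quotient.mk K (algebraMap R[X] B X) := by
      show Ideal.Quotient.mk K (g (algebraMap R[X] C X)) = _
      rw [g.commutes]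
    rw [h2] at h1
    obtain ⟨w, hw⟩ := h1.exists_right_inv
    obtain ⟨w, rfl⟩ := Ideal.Quotient.mk_surjective w
    rw [← map_mul, ← map_one (Ideal.Quotient.mk K), Ideal.Quotient.eq] at hw
    have hK1 : K ≤ maximalIdeal B :=
      Ideal.span_le.2 (Set.singleton_subset_iff.2 ((IsLocalRing.mem_maximalIdeal f).2 hfu))
    have := sub_mem (Ideal.mul_mem_right w _ htB) (hK1 hw)
    rw [sub_sub_cancel] at this
    exact (maximalIdeal.isMaximal B).ne_top ((Ideal.eq_top_iff_one _).2 this)
  have hEt : HenselianRing E (Ideal.span {ι X}) := by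
    haveI : HenselianRing E (maximalIdeal E) := inferInstance
    exact Groth.Hensel1.henselianRing_of_le_radical (I := maximalIdeal E)
      ((Ideal.span_le.2 (Set.singleton_subset_iff.2 hiX)).trans Ideal.le_radical)
  obtain ⟨φ, hφ, -⟩ := hB.2 E _ ι hEt (by rw [Ideal.map_span, Set.image_singleton])
  haveI := hB.1
  have hK := Groth.Hensel1.henselianRing_quotient (I := (Ideal.span {(X : R[X])}).map (algebraMap R[X] B)) K
  obtain ⟨g', -, hg'⟩ := hB.2 (B ⧸ K) _ ((Ideal.Quotient.mk K).comp (algebraMap R[X] B)) hK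
    (by rw [Ideal.map_map])
  have hcomp : π.toRingHom.comp φ = Ideal.Quotient.mk K := (hg' _ (RingHom.ext fun p => by
    rw [RingHom.comp_apply, RingHom.comp_apply, show φ (algebraMap R[X] B p) = ι p from RingHom.congr_fun hφ p]
    show Ideal.Quotient.mk K (g (algebraMap R[X] C p)) = _
    rw [g.commutes]; rfl)).trans (hg' _ rfl).symm
  have hsurj : Function.Surjective π.toLinearMap := fun y => by
    obtain ⟨b, rfl⟩ := Ideal.Quotient.mk_surjective y
    exact ⟨φ b, RingHom.congr_fun hcomp b⟩
  refine ⟨Module.Finite.of_surjective π.toLinearMap hsurj, ?_⟩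
  have hrad : ι X ∈ ((maximalIdeal R).map (algebraMap R E)).radical := by
    rw [Ideal.radical_eq_sInf, Ideal.mem_sInf]
    rintro P ⟨hP1, hP2⟩
    haveI : P.IsPrime := hP2
    haveI : Algebra.IsIntegral R E := Algebra.IsIntegral.of_finite R E
    have h1 : P.comap (algebraMap R E) = maximalIdeal R :=
      ((maximalIdeal.isMaximal R).eq_of_le (Ideal.IsPrime.ne_top (Ideal.IsPrime.comap _))
        (Ideal.map_le_iff_le_comap.1 hP1)).symm
    have h2 : P.IsMaximal := Ideal.isMaximal_of_isIntegral_of_isMaximal_comap P (h1 ▸ maximalIdeal.isMaximal R)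
    rw [IsLocalRing.eq_maximalIdeal h2]; exact hiX
  obtain ⟨N, hN⟩ := hrad
  refine ⟨N, ?_⟩
  have h1 := Ideal.mem_map_of_mem π.toRingHom hN
  rw [Ideal.map_map, AlgHom.toRingHom_eq_coe, π.comp_algebraMap, map_pow,
    show (π : E →+* B ⧸ K) (ι X) = Ideal.Quotient.mk K (algebraMap R[X] B X) by
      show Ideal.Quotient.mk K (g (algebraMap R[X] C X)) = _
      rw [g.commutes],
    show algebraMap R (B ⧸ K) = (Ideal.Quotient.mk K).comp (algebraMap R B) from rfl,
    ← Ideal.map_map, ← map_pow, ← Ideal.mem_comap,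
    Ideal.comap_map_of_surjective _ Ideal.Quotient.mk_surjective, ← RingHom.ker_eq_comap_bot,
    Ideal.mk_ker, sup_comm] at h1
  exact h1

include hB in
/-- Weierstrass preparation. -/
theorem exists_dist (f : B) (hf : f ∉ (maximalIdeal R).map (algebraMap R B)) :
    ∃ (P : R[X]) (u : Bˣ), IsDist P ∧ f = algebraMap R[X] B P * (u : B) := by
  classical
  haveI := isLocalRing hB
  obtain ⟨ε, hε0, hε⟩ := exists_constCoeff hB
  obtain ⟨hfin, hN⟩ := finite_quotient hB f hf
  haveI := hfin
  set t := algebraMap R[X] B X with ht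
  set M := (maximalIdeal R).map (algebraMap R B) with hM
  set W := Ideal.span {f} ⊔ M with hW
  set n := Nat.find hN
  have hn : t ^ n ∈ W := Nat.find_spec hN
  -- B = span of powers of t below n, modulo W
  have hdiv : ∀ b : B, ∀ k : ℕ, ∃ a : ℕ → R, ∃ y : B,
      b = (∑ i ∈ Finset.range k, algebraMap R B (a i) * t ^ i) + t ^ k * y := by
    intro b k
    induction k with
    | zero => exact ⟨fun _ => 0, b, by simp⟩
    | succ k ih =>
      obtain ⟨a, y, hy⟩ := ih
      obtain ⟨y', hy'⟩ := Ideal.mem_span_singleton.1 (hε y)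
      refine ⟨Function.update a k (ε y), y', ?_⟩
      have hs : ∑ i ∈ Finset.range k, algebraMap R B (Function.update a k (ε y) i) * t ^ i =
          ∑ i ∈ Finset.range k, algebraMap R B (a i) * t ^ i :=
        Finset.sum_congr rfl fun i hi => by rw [Function.update_of_ne (Finset.mem_range.1 hi).ne]
      rw [Finset.sum_range_succ, hs, Function.update_self, pow_succ, mul_assoc (t ^ k), ← hy', hy]
      ring
  let Mq := B ⧸ Ideal.span {f}
  let F : (Fin n → R) →ₗ[R] Mq := Fintype.linearCombination R fun i : Fin n => Ideal.Quotient.mk _ (t ^ (i : ℕ))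
  have hF : ∀ a : ℕ → R, F (fun i => a i) = Ideal.Quotient.mk _ (∑ i ∈ Finset.range n, algebraMap R B (a i) * t ^ i) := by
    intro a
    rw [Fintype.linearCombination_apply, map_sum, Finset.sum_range]
    refine Finset.sum_congr rfl fun i _ => ?_
    rw [Algebra.smul_def, IsScalarTower.algebraMap_apply R B Mq, map_mul]
    rfl
  have htop : (⊤ : Submodule R Mq) ≤ LinearMap.range F ⊔ maximalIdeal R • ⊤ := by
    intro x _
    obtain ⟨b, rfl⟩ := Ideal.Quotient.mk_surjective x
    obtain ⟨a, y, rfl⟩ := hdiv b n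
    rw [map_add]
    refine add_mem (Submodule.mem_sup_left ⟨_, hF a⟩) (Submodule.mem_sup_right ?_)
    obtain ⟨z, hz, w, hw, hzw⟩ := Submodule.mem_sup.1 hn
    rw [Ideal.smul_top_eq_map, Submodule.restrictScalars_mem, IsScalarTower.algebraMap_eq R B Mq,
      ← Ideal.map_map, ← hzw, add_mul, map_add,
      Ideal.Quotient.eq_zero_iff_mem.2 (Ideal.mul_mem_right y _ hz), zero_add]
    exact Ideal.mem_map_of_mem _ (Ideal.mul_mem_right y _ hw)
  have hFs : LinearMap.range F = ⊤ := top_le_iff.1
    (Submodule.le_of_le_smul_of_le_jacobson_bot Module.Finite.fg_top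
      (IsLocalRing.maximalIdeal_le_jacobson _) htop)
  obtain ⟨a, ha⟩ := (hFs ▸ Submodule.mem_top : Ideal.Quotient.mk (Ideal.span {f}) (t ^ n) ∈ LinearMap.range F)
  set a' : ℕ → R := fun i => if h : i < n then a ⟨i, h⟩ else 0
  have ha' : (fun i : Fin n => a' i) = a := funext fun i => by simp [a', i.isLt]
  rw [← ha', hF, Ideal.Quotient.eq] at ha
  have ham : ∀ i, a' i ∈ maximalIdeal R := by
    by_contra hcon
    push Not at hcon
    set i₀ := Nat.find hcon
    have hi₀ : a' i₀ ∉ maximalIdeal R := Nat.find_spec hcon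
    have hi₀n : i₀ < n := by
      by_contra h
      exact hi₀ (by simp [a', h])
    have hsum : (∑ i ∈ Finset.range n, algebraMap R B (a' i) * t ^ i) ∈ W := by
      have := add_mem (Submodule.mem_sup_left ha : _ ∈ W) hn
      simpa using this
    have hrest : (∑ i ∈ Finset.Ico i₀ n, algebraMap R B (a' i) * t ^ i) ∈ W := by
      have h0 : (∑ i ∈ Finset.range i₀, algebraMap R B (a' i) * t ^ i) ∈ W :=
        Ideal.sum_mem _ fun i hi => Ideal.mem_sup_right (Ideal.mul_mem_right _ _
          (Ideal.mem_map_of_mem _ (not_not.1 (Nat.find_min hcon (Finset.mem_range.1 hi)))))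
      rw [← Finset.sum_range_add_sum_Ico _ hi₀n.le] at hsum
      simpa using sub_mem hsum h0
    rw [Finset.sum_eq_sum_Ico_succ_bot hi₀n] at hrest
    have hy : ∑ i ∈ Finset.Ico (i₀ + 1) n, algebraMap R B (a' i) * t ^ i =
        t ^ i₀ * (t * ∑ i ∈ Finset.Ico (i₀ + 1) n, algebraMap R B (a' i) * t ^ (i - (i₀ + 1))) := by
      rw [← mul_assoc, ← pow_succ, Finset.mul_sum]
      refine Finset.sum_congr rfl fun i hi => ?_
      rw [mul_left_comm, ← pow_add, Nat.add_sub_cancel' (Finset.mem_Ico.1 hi).1]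
    rw [hy, mul_comm (algebraMap R B (a' i₀)), ← mul_add] at hrest
    have hu : IsUnit (algebraMap R B (a' i₀) +
        t * ∑ i ∈ Finset.Ico (i₀ + 1) n, algebraMap R B (a' i) * t ^ (i - (i₀ + 1))) := by
      rw [isUnit_iff hB hε, map_add, map_mul, IsScalarTower.algebraMap_apply R R[X] B, hε0, ht, hε0]
      simpa using hi₀
    obtain ⟨v, hv⟩ := hu
    rw [← hv] at hrest
    have := Ideal.mul_mem_right (↑v⁻¹ : B) _ hrest
    rw [Units.mul_inv_cancel_right] at this
    exact Nat.find_min hN hi₀n this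
  set P : R[X] := X ^ n - ∑ i ∈ Finset.range n, C (a' i) * X ^ i with hP
  have hdeg : (∑ i ∈ Finset.range n, C (a' i) * X ^ i).degree < (n : WithBot ℕ) := by
    refine (degree_sum_le _ _).trans_lt ((Finset.sup_lt_iff (WithBot.bot_lt_coe n)).2 fun i hi => ?_)
    exact (degree_C_mul_X_pow_le i _).trans_lt (Nat.cast_lt.2 (Finset.mem_range.1 hi))
  have hmon : P.Monic := monic_X_pow_sub hdeg
  have hnd : P.natDegree = n := natDegree_eq_of_degree_eq_some (by
    rw [hP, degree_sub_eq_left_of_degree_lt (by rwa [degree_X_pow]), degree_X_pow])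
  have hdist : IsDist P := ⟨hmon, fun i hi => by
    rw [hnd] at hi
    rw [hP, coeff_sub, coeff_X_pow, if_neg hi.ne, zero_sub, neg_mem_iff, finsetSum_coeff]
    simp only [coeff_C_mul_X_pow]
    rw [Finset.sum_ite_eq, if_pos (Finset.mem_range.2 hi)]
    exact ham i⟩
  have hPB : algebraMap R[X] B P = t ^ n - ∑ i ∈ Finset.range n, algebraMap R B (a' i) * t ^ i := by
    simp [hP, ht, IsScalarTower.algebraMap_apply R R[X] B]
  obtain ⟨v, hv⟩ := Ideal.mem_span_singleton.1 ha
  have hv' : algebraMap R[X] B P = f * -v := by rw [hPB, mul_neg, ← hv]; ring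
  have hvu : IsUnit (-v) := by
    by_contra hnu
    obtain ⟨y, hy⟩ := Ideal.mem_span_singleton.1 (hε (-v))
    have hvm : algebraMap R B (ε (-v)) ∈ M := Ideal.mem_map_of_mem _ (by
      rw [isUnit_iff hB hε] at hnu; exact hnu)
    have hsM : ∑ i ∈ Finset.range n, algebraMap R B (a' i) * t ^ i ∈ M :=
      Ideal.sum_mem _ fun i _ => Ideal.mul_mem_right _ _ (Ideal.mem_map_of_mem _ (ham i))
    rcases Nat.eq_zero_or_pos n with h0 | hnpos
    · refine hnu ?_
      have : algebraMap R[X] B P = 1 := by rw [hPB, h0]; simp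
      exact IsUnit.of_mul_eq_one _ ((mul_comm _ f).trans (hv'.symm.trans this))
    have h1 : t * (t ^ (n - 1) - f * y) ∈ M := by
      rw [mul_sub, ← pow_succ', Nat.sub_add_cancel hnpos, mul_left_comm, ← hy]
      have e : t ^ n - f * (-v - algebraMap R B (ε (-v))) =
          (algebraMap R[X] B P - f * -v) + (∑ i ∈ Finset.range n, algebraMap R B (a' i) * t ^ i) +
            f * algebraMap R B (ε (-v)) := by rw [hPB]; ring
      rw [e, hv', sub_self, zero_add]
      exact add_mem hsM (Ideal.mul_mem_left _ _ hvm)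
    haveI : Module.Flat R[X] B := Groth.HensPair.flat_of_isPairHenselization hB
    have hMeq : M = ((maximalIdeal R).map (algebraMap R R[X])).map (algebraMap R[X] B) := by
      rw [hM, Ideal.map_map, ← IsScalarTower.algebraMap_eq]
    rw [hMeq] at h1
    have hreg : IsSMulRegular (R[X] ⧸ (maximalIdeal R).map (algebraMap R R[X])) (X : R[X]) := by
      rw [isSMulRegular_iff_right_eq_zero_of_smul]
      intro z hz
      obtain ⟨p, rfl⟩ := Ideal.Quotient.mk_surjective z
      rw [← Ideal.Quotient.mk_eq_mk, ← Submodule.Quotient.mk_smul, Submodule.Quotient.mk_eq_zero,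
        smul_eq_mul, show algebraMap R R[X] = C from rfl, Ideal.mem_map_C_iff] at hz
      rw [Ideal.Quotient.eq_zero_iff_mem, show algebraMap R R[X] = C from rfl, Ideal.mem_map_C_iff]
      intro i
      have := hz (i + 1)
      rwa [coeff_X_mul] at this
    have h2 := isSMulRegular_quotient _ hreg h1
    rw [← hMeq] at h2
    refine Nat.find_min hN (show n - 1 < n by omega) ?_
    have := add_mem (Submodule.mem_sup_right h2 : _ ∈ W)
      (Submodule.mem_sup_left (Ideal.mul_mem_right y _ (Ideal.mem_span_singleton_self f)) : _ ∈ W)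
    rwa [sub_add_cancel] at this
  obtain ⟨u, hu⟩ := hvu
  exact ⟨P, u⁻¹, hdist, by rw [hv', ← hu, Units.mul_inv_cancel_right]⟩

include hB in
theorem eq_of_dist {P P' : R[X]} (hP : IsDist P) (hP' : IsDist P') (u u' : Bˣ)
    (h : algebraMap R[X] B P * (u : B) = algebraMap R[X] B P' * (u' : B)) : P = P' ∧ u = u' := by
  have e : P = P' := by
    have h1 : P' ∣ P := (quotient_dist hB hP').2 P (Ideal.mem_span_singleton.2
      ⟨(u' : B) * ↑u⁻¹, by rw [← mul_assoc, ← h, Units.mul_inv_cancel_right]⟩)
    have h2 : P ∣ P' := (quotient_dist hB hP).2 P' (Ideal.mem_span_singleton.2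
      ⟨(u : B) * ↑u'⁻¹, by rw [← mul_assoc, h, Units.mul_inv_cancel_right]⟩)
    obtain ⟨c, hc⟩ := h1
    have hc0 : c ≠ 0 := fun h0 => hP.1.ne_zero (by rw [hc, h0, mul_zero])
    obtain ⟨d, hd⟩ := h2
    have hd0 : d ≠ 0 := fun h0 => hP'.1.ne_zero (by rw [hd, h0, mul_zero])
    have e1 : P.natDegree = P'.natDegree + c.natDegree := by rw [hc, hP'.1.natDegree_mul' hc0]
    have e2 : P'.natDegree = P.natDegree + d.natDegree := by rw [hd, hP.1.natDegree_mul' hd0]
    exact (eq_of_monic_of_dvd_of_natDegree_le hP.1 hP'.1 ⟨d, hd⟩ (by omega)).symm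
  subst e
  haveI : Module.Flat R[X] B := Groth.HensPair.flat_of_isPairHenselization hB
  exact ⟨rfl, Units.ext (sub_eq_zero.1 (isSMulRegular_monic hP.1 (by rw [mul_sub, h, sub_self])))⟩

end Groth.Calg7.HensPoly
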