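import Mathlib

/-! Lifting finite projective modules along a surjection along which idempotent matrices lift. -/

namespace Groth.Calg7.LiftProj

open TensorProduct

universe u v

variable {B A : Type u} [CommRing B] [CommRing A] [Algebra B A]

theorem baseChange_toLin' {n : ℕ} (e : Matrix (Fin n) (Fin n) B) :
    (TensorProduct.piScalarRight B A A (Fin n)).toLinearMap ∘ₗ (Matrix.toLin' e).baseChange A =
      Matrix.toLin' (e.map (algebraMap B A)) ∘ₗ (TensorProduct.piScalarRight B A A (Fin n)).toLinearMap := by
  classical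
  refine TensorProduct.AlgebraTensorModule.ext fun a v => funext fun i => ?_
  simp [Matrix.mulVec, dotProduct, Algebra.smul_def, map_sum, Finset.sum_mul, mul_assoc]

/-- If idempotent matrices lift along `B → A`, so do finite projective modules. -/
theorem exists_lift
    (hid : ∀ (n : ℕ) (e : Matrix (Fin n) (Fin n) A), IsIdempotentElem e →
      ∃ e' : Matrix (Fin n) (Fin n) B, IsIdempotentElem e' ∧ e'.map (algebraMap B A) = e)
    (P : Type v) [AddCommGroup P] [Module A P] [Module.Finite A P] [Module.Projective A P] :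
    ∃ (Q : Type u) (_ : AddCommGroup Q) (_ : Module B Q),
      Module.Finite B Q ∧ Module.Projective B Q ∧ Nonempty (A ⊗[B] Q ≃ₗ[A] P) := by
  classical
  obtain ⟨n, π, hπ⟩ := Module.Finite.exists_fin' A P
  obtain ⟨ι, hι⟩ := Module.projective_lifting_property π LinearMap.id hπ
  have hιπ : IsIdempotentElem (LinearMap.toMatrix' (ι ∘ₗ π)) := by
    show _ * _ = _
    rw [← LinearMap.toMatrix'_comp]
    congr 1
    refine LinearMap.ext fun x => ?_
    exact congrArg ι (LinearMap.congr_fun hι (π x))
  obtain ⟨e', he', hee⟩ := hid n _ hιπ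
  let E : (Fin n → B) →ₗ[B] (Fin n → B) := Matrix.toLin' e'
  have hE : ∀ v, E (E v) = E v := fun v => by
    show Matrix.toLin' e' (Matrix.toLin' e' v) = _
    rw [← LinearMap.comp_apply, ← Matrix.toLin'_mul, he'.eq]
  let Q := LinearMap.range E
  let i : Q →ₗ[B] (Fin n → B) := Q.subtype
  let q : (Fin n → B) →ₗ[B] Q := E.rangeRestrict
  have hqi : q ∘ₗ i = LinearMap.id := LinearMap.ext fun x => Subtype.ext <| by
    obtain ⟨v, hv⟩ := x.2
    show E x.1 = x.1
    rw [← hv, hE]
  have hiq : i ∘ₗ q = E := rfl
  haveI : Module.Finite B Q := Module.Finite.of_surjective q E.surjective_rangeRestrict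
  haveI : Module.Projective B Q := Module.Projective.of_split i q hqi
  refine ⟨Q, inferInstance, inferInstance, inferInstance, inferInstance, ⟨?_⟩⟩
  let w : A ⊗[B] (Fin n → B) ≃ₗ[A] (Fin n → A) := TensorProduct.piScalarRight B A A (Fin n)
  have hkey : w.toLinearMap ∘ₗ E.baseChange A = (ι ∘ₗ π) ∘ₗ w.toLinearMap := by
    rw [baseChange_toLin' e', hee, Matrix.toLin'_toMatrix']
  refine LinearEquiv.ofLinearMap (π ∘ₗ w.toLinearMap ∘ₗ i.baseChange A)
    (q.baseChange A ∘ₗ w.symm.toLinearMap ∘ₗ ι) ?_ ?_
  · refine LinearMap.ext fun x => ?_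
    have h1 : i.baseChange A (q.baseChange A (w.symm (ι x))) = E.baseChange A (w.symm (ι x)) := by
      rw [← LinearMap.comp_apply, ← LinearMap.baseChange_comp, hiq]
    have h2 := LinearMap.congr_fun hkey (w.symm (ι x))
    have h3 : π (ι x) = x := LinearMap.congr_fun hι x
    simp only [LinearMap.comp_apply, LinearEquiv.coe_coe, LinearEquiv.apply_symm_apply] at h2 ⊢
    rw [h1, h2, h3, h3, LinearMap.id_apply]
  · refine LinearMap.ext fun z => ?_
    have h2 := LinearMap.congr_fun hkey (i.baseChange A z)
    simp only [LinearMap.comp_apply, LinearEquiv.coe_coe] at h2 ⊢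
    rw [← h2, LinearEquiv.symm_apply_apply, ← hiq, LinearMap.baseChange_comp, LinearMap.comp_apply]
    have h3 : ∀ y, q.baseChange A (i.baseChange A y) = y := fun y => by
      rw [← LinearMap.comp_apply, ← LinearMap.baseChange_comp, hqi, LinearMap.baseChange_id, LinearMap.id_apply]
    rw [h3, h3, LinearMap.id_apply]

/-- Idempotent matrices lift along a surjection with nilpotent kernel. -/
theorem idem_lift_of_isNilpotent (hsurj : Function.Surjective (algebraMap B A))
    (hnil : IsNilpotent (RingHom.ker (algebraMap B A))) (n : ℕ) (e : Matrix (Fin n) (Fin n) A)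
    (he : IsIdempotentElem e) :
    ∃ e' : Matrix (Fin n) (Fin n) B, IsIdempotentElem e' ∧ e'.map (algebraMap B A) = e := by
  classical
  refine exists_isIdempotentElem_eq_of_ker_isNilpotent ((algebraMap B A).mapMatrix) ?_ e ?_ he
  · intro M hM
    obtain ⟨N, hN⟩ := hnil
    have hent : ∀ i j, M i j ∈ RingHom.ker (algebraMap B A) := fun i j => congrFun (congrFun hM i) j
    have key : ∀ k i j, (M ^ k) i j ∈ RingHom.ker (algebraMap B A) ^ k := by
      intro k
      induction k with
      | zero => simp
      | succ k ih =>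
        intro i j
        rw [pow_succ, pow_succ, Matrix.mul_apply]
        exact Ideal.sum_mem _ fun l _ => Ideal.mul_mem_mul (ih i l) (hent l j)
    exact ⟨N, Matrix.ext fun i j => by simpa [hN] using key N i j⟩
  · exact ⟨Matrix.of fun i j => (hsurj (e i j)).choose,
      Matrix.ext fun i j => (hsurj (e i j)).choose_spec⟩

end Groth.Calg7.LiftProj
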