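import Mathlib

/-! Adic completeness of rings of Witt vectors. -/

set_option autoImplicit false

namespace Groth.Calg7.WittComplete

open WittVector

universe u

variable {p : ℕ} [hp : Fact p.Prime] {R : Type u} [CommRing R]

theorem frob_pow (N i : ℕ) :
    frobenius^[i] ((p : WittVector p R) ^ N) = (p : WittVector p R) ^ N := by
  induction i with
  | zero => rfl
  | succ i ih => rw [Function.iterate_succ_apply', ih, map_pow, map_natCast]

theorem raise {N : ℕ} (hN : (p : R) ^ N = 0) {x : WittVector p R} {i : ℕ}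
    (hx : ∀ j < i, x.coeff j = 0) : ∀ j < i + 1, ((p : WittVector p R) ^ N * x).coeff j = 0 := by
  intro j hj
  rw [eq_iterate_verschiebung hx, mul_comm, iterate_verschiebung_mul_left, frob_pow]
  rcases Nat.lt_succ_iff_lt_or_eq.1 hj with h | h
  · exact iterate_verschiebung_coeff_eq_zero _ h
  · rw [h]
    have := iterate_verschiebung_coeff (x.shift i * (p : WittVector p R) ^ N) i 0
    rw [zero_add] at this
    rw [this, mul_coeff_zero]
    have hc : ((p : WittVector p R) ^ N).coeff 0 = 0 := by
      change constantCoeff ((p : WittVector p R) ^ N) = 0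
      rw [map_pow, map_natCast, hN]
    rw [hc, mul_zero]

theorem truncate_p_pow {N : ℕ} (hN : (p : R) ^ N = 0) (n : ℕ) :
    truncate n ((p : WittVector p R) ^ (N * n)) = 0 := by
  rw [← RingHom.mem_ker, mem_ker_truncate]
  induction n with
  | zero => intro i hi; omega
  | succ n ih =>
    rw [show N * (n + 1) = N + N * n by ring, pow_add]
    exact raise hN ih

/-- reduction to `W_n(R/p^s)` -/
noncomputable def red (n s : ℕ) :
    WittVector p R →+* TruncatedWittVector p n (R ⧸ Ideal.span {(p : R) ^ s}) :=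
  (truncate n).comp (WittVector.map (Ideal.Quotient.mk _))

theorem red_eq_iff (n s : ℕ) (x y : WittVector p R) :
    red n s x = red n s y ↔ ∀ i < n, x.coeff i - y.coeff i ∈ Ideal.span {(p : R) ^ s} := by
  constructor
  · intro h i hi
    have := congrArg (fun z => TruncatedWittVector.coeff ⟨i, hi⟩ z) h
    simp only [red, RingHom.comp_apply, coeff_truncate, map_coeff] at this
    exact Ideal.Quotient.eq.1 this
  · intro h
    ext i
    simp only [red, RingHom.comp_apply, coeff_truncate, map_coeff]
    exact Ideal.Quotient.eq.2 (h i i.2)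

theorem red_p_pow {n s k : ℕ} (hk : s * n ≤ k) : red n s ((p : WittVector p R) ^ k) = 0 := by
  obtain ⟨t, rfl⟩ := Nat.exists_eq_add_of_le hk
  rw [pow_add, map_mul]
  have h0 : red (R := R) n s ((p : WittVector p R) ^ (s * n)) = 0 := by
    rw [red, RingHom.comp_apply, map_pow, map_natCast]
    refine truncate_p_pow ?_ n
    rw [← map_natCast (Ideal.Quotient.mk (Ideal.span {(p : R) ^ s})), ← map_pow,
      Ideal.Quotient.eq_zero_iff_mem]
    exact Ideal.mem_span_singleton_self _
  rw [h0, zero_mul]

theorem eq_zero_of_red [IsHausdorff (Ideal.span {(p : R)}) R] {x : WittVector p R}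
    (h : ∀ n s, red n s x = 0) : x = 0 := by
  refine WittVector.ext fun i => ?_
  rw [zero_coeff]
  refine IsHausdorff.haus ‹_› _ fun s => ?_
  rw [SModEq.zero, smul_eq_mul, Ideal.mul_top, Ideal.span_singleton_pow]
  have h1 := (red_eq_iff (i + 1) s x 0).1 (by rw [h, map_zero]) i (Nat.lt_succ_self i)
  simpa using h1

theorem exists_lim [IsPrecomplete (Ideal.span {(p : R)}) R] (g : ℕ → WittVector p R)
    (hg : ∀ k l, k ≤ l → (p : WittVector p R) ^ k ∣ g k - g l) :
    ∃ L : WittVector p R, ∀ n s k, s * n ≤ k → red n s (g k) = red n s L := by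
  have hred : ∀ n s k l, s * n ≤ k → s * n ≤ l → red n s (g k) = red n s (g l) := by
    intro n s k l hk hl
    wlog hkl : k ≤ l generalizing k l
    · exact (this l k hl hk (by omega)).symm
    obtain ⟨a, ha⟩ := hg k l hkl
    rw [← sub_eq_zero, ← map_sub, ha, map_mul, red_p_pow hk, zero_mul]
  have hlim : ∀ i, ∃ c : R, ∀ s, (g (s * (i + 1))).coeff i - c ∈ Ideal.span {(p : R) ^ s} := by
    intro i
    obtain ⟨c, hc⟩ := IsPrecomplete.prec (I := Ideal.span {(p : R)}) (M := R) inferInstance
      (f := fun s => (g (s * (i + 1))).coeff i) (fun {a b} hab => by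
        rw [SModEq.sub_mem, smul_eq_mul, Ideal.mul_top, Ideal.span_singleton_pow]
        exact (red_eq_iff (i + 1) a _ _).1
          (hred (i + 1) a _ _ le_rfl (Nat.mul_le_mul_right _ hab)) i (Nat.lt_succ_self i))
    refine ⟨c, fun s => ?_⟩
    have := SModEq.sub_mem.1 (hc s)
    rwa [smul_eq_mul, Ideal.mul_top, Ideal.span_singleton_pow] at this
  choose c hc using hlim
  refine ⟨WittVector.mk p c, fun n s k hk => (red_eq_iff n s _ _).2 fun i hi => ?_⟩
  have hle : s * (i + 1) ≤ k := le_trans (Nat.mul_le_mul_left _ hi) hk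
  have h1 := (red_eq_iff (i + 1) s _ _).1 (hred (i + 1) s k (s * (i + 1)) hle le_rfl) i
    (Nat.lt_succ_self i)
  have h2 := hc i s
  rw [coeff_mk]
  simpa using Ideal.add_mem _ h1 h2

theorem mem_pow_iff (k : ℕ) (x : WittVector p R) :
    x ∈ (Ideal.span {(p : WittVector p R)}) ^ k • (⊤ : Submodule (WittVector p R) (WittVector p R)) ↔
      (p : WittVector p R) ^ k ∣ x := by
  rw [smul_eq_mul, Ideal.mul_top, Ideal.span_singleton_pow, Ideal.mem_span_singleton]

theorem isAdicComplete_p [IsAdicComplete (Ideal.span {(p : R)}) R] :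
    IsAdicComplete (Ideal.span {(p : WittVector p R)}) (WittVector p R) := by
  have hH : IsHausdorff (Ideal.span {(p : WittVector p R)}) (WittVector p R) := ⟨fun x hx => by
    refine eq_zero_of_red fun n s => ?_
    have h := hx (s * n)
    rw [SModEq.zero, mem_pow_iff] at h
    obtain ⟨a, rfl⟩ := h
    rw [map_mul, red_p_pow le_rfl, zero_mul]⟩
  have hP : IsPrecomplete (Ideal.span {(p : WittVector p R)}) (WittVector p R) := ⟨fun {f} hf => by
    have hf' : ∀ k l, k ≤ l → (p : WittVector p R) ^ k ∣ f k - f l := fun k l h => by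
      rw [← mem_pow_iff, ← SModEq.sub_mem]; exact hf h
    choose a ha using fun j => hf' j (j + 1) (Nat.le_succ j)
    obtain ⟨L, hL⟩ := exists_lim f hf'
    refine ⟨L, fun m => ?_⟩
    rw [SModEq.sub_mem, mem_pow_iff]
    let S : ℕ → WittVector p R := fun k => ∑ i ∈ Finset.range k, (p : WittVector p R) ^ i * a (m + i)
    have hS : ∀ k, f m - f (m + k) = (p : WittVector p R) ^ m * S k := by
      intro k
      induction k with
      | zero => simp [S]
      | succ k ih =>
        simp only [S, Finset.sum_range_succ, mul_add]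
        rw [← ih, ← mul_assoc, ← pow_add, ← ha (m + k), ← Nat.add_assoc]
        ring
    have hS' : ∀ k l, k ≤ l → (p : WittVector p R) ^ k ∣ S k - S l := by
      intro k l hkl
      rw [← dvd_neg, neg_sub]
      simp only [S, ← Finset.sum_Ico_eq_sub _ hkl]
      exact Finset.dvd_sum fun i hi => Dvd.dvd.mul_right (pow_dvd_pow _ (Finset.mem_Ico.1 hi).1) _
    obtain ⟨b, hb⟩ := exists_lim S hS'
    refine ⟨b, sub_eq_zero.1 (eq_zero_of_red fun n s => ?_)⟩
    rw [map_sub, map_sub, map_mul, ← hb n s (s * n) le_rfl, ← map_mul, ← hS, map_sub,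
      hL n s (m + s * n) (Nat.le_add_left _ _), sub_self]⟩
  exact { toIsHausdorff := hH, toIsPrecomplete := hP }

theorem exists_eq_verschiebung {x : WittVector p R} (hx : constantCoeff x = 0) :
    ∃ y, x = verschiebung y := by
  refine ⟨x.shift 1, ?_⟩
  simpa using eq_iterate_verschiebung (x := x) (n := 1) (fun i hi => by
    rw [Nat.lt_one_iff.1 hi]; exact hx)

theorem verschiebung_p_pow_mul (k : ℕ) (y : WittVector p R) :
    verschiebung ((p : WittVector p R) ^ k * y) = (p : WittVector p R) ^ k * verschiebung y := by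
  have e : (p : WittVector p R) ^ k * y = (p ^ k : ℕ) • y := by rw [nsmul_eq_mul, Nat.cast_pow]
  rw [e, map_nsmul, nsmul_eq_mul, Nat.cast_pow]

theorem verschiebung_mul_verschiebung (a b : WittVector p R) :
    verschiebung a * verschiebung b = (p : WittVector p R) * verschiebung (a * b) := by
  rw [← verschiebung_mul_frobenius, frobenius_verschiebung, ← mul_assoc,
    show a * b * (p : WittVector p R) = (p : WittVector p R) ^ 1 * (a * b) by ring,
    verschiebung_p_pow_mul, pow_one]

/-- `I^(m+1) = p^m I`, elementwise -/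
theorem mem_ker_pow_succ_iff (m : ℕ) (x : WittVector p R) :
    x ∈ (RingHom.ker (constantCoeff : WittVector p R →+* R)) ^ (m + 1) ↔
      ∃ y, x = (p : WittVector p R) ^ m * verschiebung y := by
  induction m generalizing x with
  | zero =>
    rw [pow_one, RingHom.mem_ker]
    refine ⟨fun h => ?_, ?_⟩
    · obtain ⟨y, hy⟩ := exists_eq_verschiebung h
      exact ⟨y, by rw [pow_zero, one_mul, hy]⟩
    · rintro ⟨y, rfl⟩
      rw [pow_zero, one_mul]
      exact verschiebung_coeff_zero y
  | succ m ih =>
    refine ⟨fun h => ?_, ?_⟩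
    · rw [pow_succ] at h
      refine Submodule.mul_induction_on h (fun a ha b hb => ?_) (fun a b ha hb => ?_)
      · obtain ⟨y, rfl⟩ := (ih a).1 ha
        obtain ⟨z, rfl⟩ := exists_eq_verschiebung hb
        exact ⟨y * z, by rw [mul_assoc, verschiebung_mul_verschiebung, ← mul_assoc, ← pow_succ]⟩
      · obtain ⟨y, rfl⟩ := ha
        obtain ⟨z, rfl⟩ := hb
        exact ⟨y + z, by rw [map_add, mul_add]⟩
    · rintro ⟨y, rfl⟩
      rw [show (p : WittVector p R) ^ (m + 1) * verschiebung y =
          (p : WittVector p R) ^ m * verschiebung y * verschiebung 1 by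
        rw [mul_assoc, verschiebung_mul_verschiebung, mul_one, ← mul_assoc, ← pow_succ], pow_succ]
      exact Ideal.mul_mem_mul ((ih _).2 ⟨y, rfl⟩) (verschiebung_coeff_zero (1 : WittVector p R))

theorem isAdicComplete_ker [IsAdicComplete (Ideal.span {(p : R)}) R] :
    IsAdicComplete (RingHom.ker (constantCoeff : WittVector p R →+* R)) (WittVector p R) := by
  haveI := isAdicComplete_p (p := p) (R := R)
  set I := RingHom.ker (constantCoeff : WittVector p R →+* R) with hI
  have mem : ∀ k x, x ∈ I ^ k • (⊤ : Submodule (WittVector p R) (WittVector p R)) ↔ x ∈ I ^ k := fun k x => by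
    rw [smul_eq_mul, Ideal.mul_top]
  have hH : IsHausdorff I (WittVector p R) := ⟨fun x hx => by
    refine IsHausdorff.haus (I := Ideal.span {(p : WittVector p R)}) inferInstance x fun k => ?_
    have h := hx (k + 1)
    rw [SModEq.zero, mem, hI, mem_ker_pow_succ_iff] at h
    obtain ⟨y, rfl⟩ := h
    rw [SModEq.zero, mem_pow_iff]
    exact dvd_mul_right _ _⟩
  have hP : IsPrecomplete I (WittVector p R) := ⟨fun {f} hf => by
    have hd : ∀ j, ∃ y, f 1 - f (j + 1) = verschiebung y := fun j => by
      have h := hf (show 1 ≤ j + 1 by omega)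
      rw [SModEq.sub_mem, mem, hI, show (1 : ℕ) = 0 + 1 from rfl, mem_ker_pow_succ_iff] at h
      obtain ⟨y, hy⟩ := h
      exact ⟨y, by simpa using hy⟩
    choose a ha using hd
    obtain ⟨A, hA⟩ := IsPrecomplete.prec (I := Ideal.span {(p : WittVector p R)}) inferInstance
      (f := a) (fun {k l} hkl => by
        rw [SModEq.sub_mem, mem_pow_iff]
        have h := hf (show k + 1 ≤ l + 1 by omega)
        rw [SModEq.sub_mem, mem, hI, mem_ker_pow_succ_iff] at h
        obtain ⟨y, hy⟩ := h
        refine ⟨-y, verschiebung_injective p R ?_⟩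
        rw [map_sub, ← ha, ← ha, verschiebung_p_pow_mul, map_neg, mul_neg, ← hy]
        ring)
    refine ⟨f 1 - verschiebung A, fun k => ?_⟩
    rw [SModEq.sub_mem, mem, hI]
    cases k with
    | zero => simp
    | succ k =>
      rw [mem_ker_pow_succ_iff]
      have h := hA k
      rw [SModEq.sub_mem, mem_pow_iff] at h
      obtain ⟨b, hb⟩ := h
      refine ⟨-b, ?_⟩
      rw [map_neg, mul_neg, ← verschiebung_p_pow_mul, ← hb, map_sub, ← ha]
      ring⟩
  exact { toIsHausdorff := hH, toIsPrecomplete := hP }

end Groth.Calg7.WittComplete
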