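import Mathlib
import Groth.Agent.Calg7.WittComplete
import Groth.Agent.Calg7.LiftProjective

/-! Lifting idempotent matrices: nil kernels, complete ideals, and Witt vectors. -/

set_option autoImplicit false

namespace Groth.Calg7.IdemLift

universe u v

theorem isAdicComplete_of_pow_eq_bot {B : Type u} [CommRing B] (I : Ideal B) (M : Type v)
    [AddCommGroup M] [Module B M] {N : ℕ} (hN : I ^ N = ⊥) : IsAdicComplete I M := by
  have h0 : (I ^ N • ⊤ : Submodule B M) = ⊥ := by rw [hN, Submodule.bot_smul]
  have hH : IsHausdorff I M := ⟨fun x hx => by simpa [SModEq.zero, h0] using hx N⟩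
  have hP : IsPrecomplete I M := ⟨fun {f} hf => ⟨f N, fun m => by
    rcases le_total m N with h | h
    · exact hf h
    · have e := hf h
      rw [SModEq.sub_mem, h0, Submodule.mem_bot, sub_eq_zero] at e
      rw [e]⟩⟩
  exact { toIsHausdorff := hH, toIsPrecomplete := hP }

variable {B A : Type u} [CommRing B] [CommRing A] {n : ℕ}

/-- lifting along a surjection whose kernel consists of nilpotent elements -/
theorem exists_idem_of_nil (φ : B →+* A) (hφ : Function.Surjective φ)
    (hnil : ∀ b, φ b = 0 → IsNilpotent b) (e : Matrix (Fin n) (Fin n) A) (he : IsIdempotentElem e) :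
    ∃ e' : Matrix (Fin n) (Fin n) B, IsIdempotentElem e' ∧ e'.map φ = e := by
  classical
  refine exists_isIdempotentElem_eq_of_ker_isNilpotent φ.mapMatrix ?_ e ?_ he
  · intro M hM
    have hent : ∀ i j, IsNilpotent (M i j) := fun i j => hnil _ (congrFun (congrFun hM i) j)
    let K : Ideal B := Ideal.span (Set.range fun ij : Fin n × Fin n => M ij.1 ij.2)
    obtain ⟨N, hN⟩ : IsNilpotent K := by
      refine Ideal.FG.isNilpotent_iff_le_nilradical (Submodule.fg_span (Set.finite_range _)) |>.2 ?_
      rw [Ideal.span_le]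
      rintro _ ⟨ij, rfl⟩
      exact mem_nilradical.2 (hent _ _)
    have key : ∀ k i j, (M ^ k) i j ∈ K ^ k := by
      intro k
      induction k with
      | zero => simp
      | succ k ih =>
        intro i j
        rw [pow_succ, pow_succ, Matrix.mul_apply]
        exact Ideal.sum_mem _ fun l _ => Ideal.mul_mem_mul (ih i l) (Ideal.subset_span ⟨(l, j), rfl⟩)
    exact ⟨N, Matrix.ext fun i j => by simpa [hN] using key N i j⟩
  · exact ⟨Matrix.of fun i j => (hφ (e i j)).choose, Matrix.ext fun i j => (hφ (e i j)).choose_spec⟩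

/-- matrices with all entries in `I` -/
def EntIn (I : Ideal B) (M : Matrix (Fin n) (Fin n) B) : Prop := ∀ i j, M i j ∈ I

theorem entIn_mul {I J : Ideal B} {M N : Matrix (Fin n) (Fin n) B} (hM : EntIn I M) (hN : EntIn J N) :
    EntIn (I * J) (M * N) := fun i j => by
  rw [Matrix.mul_apply]
  exact Ideal.sum_mem _ fun l _ => Ideal.mul_mem_mul (hM i l) (hN l j)

theorem entIn_mul_right {I : Ideal B} {M : Matrix (Fin n) (Fin n) B} (hM : EntIn I M)
    (N : Matrix (Fin n) (Fin n) B) : EntIn I (M * N) := fun i j => by
  rw [Matrix.mul_apply]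
  exact Ideal.sum_mem _ fun l _ => Ideal.mul_mem_right _ _ (hM i l)

/-- lifting along a complete ideal -/
theorem exists_idem_of_complete (I : Ideal B) [IsAdicComplete I B] (x : Matrix (Fin n) (Fin n) B)
    (hx : EntIn I (x * x - x)) :
    ∃ e : Matrix (Fin n) (Fin n) B, IsIdempotentElem e ∧ EntIn I (e - x) := by
  classical
  let F : Matrix (Fin n) (Fin n) B → Matrix (Fin n) (Fin n) B := fun y => 3 • (y * y) - 2 • (y * y * y)
  let X : ℕ → Matrix (Fin n) (Fin n) B := fun k => F^[k] x
  have hstep : ∀ y, F y - y = (y * y - y) * (1 - 2 • y) := by intro y; simp only [F]; noncomm_ring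
  have hsq : ∀ y, F y * F y - F y =
      (y * y - y) * (y * y - y) * (4 • (y * y) - 4 • y - 3 • 1) := by intro y; simp only [F]; noncomm_ring
  have hd : ∀ k, EntIn (I ^ (k + 1)) (X k * X k - X k) := by
    intro k
    induction k with
    | zero => simpa [X] using hx
    | succ k ih =>
      have e : X (k + 1) = F (X k) := Function.iterate_succ_apply' F k x
      rw [e, hsq]
      have h := entIn_mul_right (entIn_mul ih ih) (4 • (X k * X k) - 4 • X k - 3 • 1)
      intro i j
      rw [← pow_add] at h
      exact Ideal.pow_le_pow_right (by omega) (h i j)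
  have hc : ∀ k l, k ≤ l → EntIn (I ^ (k + 1)) (X l - X k) := by
    intro k l hkl
    induction l, hkl using Nat.le_induction with
    | base => intro i j; simp
    | succ l hl ih =>
      intro i j
      have e : X (l + 1) = F (X l) := Function.iterate_succ_apply' F l x
      have : (X (l + 1) - X k) i j = (F (X l) - X l) i j + (X l - X k) i j := by
        rw [e]; simp
      rw [this, hstep]
      exact Ideal.add_mem _ (Ideal.pow_le_pow_right (by omega) (entIn_mul_right (hd l) _ i j)) (ih i j)
  have hlim : ∀ i j, ∃ L : B, ∀ k, (X k) i j - L ∈ I ^ k := by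
    intro i j
    obtain ⟨L, hL⟩ := IsPrecomplete.prec (I := I) (M := B) inferInstance
      (f := fun k => (X k) i j) (fun {a b} hab => by
        rw [SModEq.sub_mem, smul_eq_mul, Ideal.mul_top, ← neg_sub, Submodule.neg_mem_iff]
        exact Ideal.pow_le_pow_right (Nat.le_succ a) (hc a b hab i j))
    refine ⟨L, fun k => ?_⟩
    have := SModEq.sub_mem.1 (hL k)
    rwa [smul_eq_mul, Ideal.mul_top] at this
  choose L hL using hlim
  refine ⟨Matrix.of L, ?_, fun i j => ?_⟩
  · have h0 : ∀ k, EntIn (I ^ k) (Matrix.of L * Matrix.of L - Matrix.of L) := by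
      intro k
      have hdiff : EntIn (I ^ k) (X k - Matrix.of L) := fun i j => hL i j k
      have e : Matrix.of L * Matrix.of L - Matrix.of L =
          (X k * X k - X k) - ((X k - Matrix.of L) * X k + Matrix.of L * (X k - Matrix.of L) -
            (X k - Matrix.of L)) := by noncomm_ring
      intro i j
      rw [e, Matrix.sub_apply]
      refine Ideal.sub_mem _ (Ideal.pow_le_pow_right (Nat.le_succ k) (hd k i j)) ?_
      rw [Matrix.sub_apply, Matrix.add_apply]
      refine Ideal.sub_mem _ (Ideal.add_mem _ (entIn_mul_right hdiff _ i j) ?_) (hdiff i j)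
      rw [Matrix.mul_apply]
      exact Ideal.sum_mem _ fun l _ => Ideal.mul_mem_left _ _ (hdiff l j)
    refine Matrix.ext fun i j => sub_eq_zero.1 ?_
    refine IsHausdorff.haus (I := I) (M := B) inferInstance _ fun k => ?_
    rw [SModEq.zero, smul_eq_mul, Ideal.mul_top]
    exact h0 k i j
  · have h1 := hL i j 1
    have h2 := hc 0 1 (by omega) i j
    rw [pow_one] at h1
    rw [zero_add, pow_one] at h2
    have : (Matrix.of L - x) i j = -((X 1) i j - L i j) + (X 1 - X 0) i j := by
      simp [X]
    rw [this]
    exact Ideal.add_mem _ (Submodule.neg_mem _ h1) h2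

section Witt

variable {p : ℕ} [Fact p.Prime] {S R : Type u} [CommRing S] [CommRing R]

theorem isUnit_witt_iff [IsAdicComplete (Ideal.span {(p : S)}) S] (x : WittVector p S) :
    IsUnit x ↔ IsUnit (WittVector.constantCoeff x) := by
  refine ⟨fun h => h.map _, fun h => ?_⟩
  haveI := WittComplete.isAdicComplete_ker (p := p) (R := S)
  obtain ⟨u, hu⟩ := h
  obtain ⟨y, hy⟩ := WittVector.constantCoeff_surjective p (↑u⁻¹ : S)
  have hxy : IsUnit (x * y) := by
    have := Ideal.mem_jacobson_bot.1 (IsAdicComplete.le_jacobson_bot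
      (RingHom.ker (WittVector.constantCoeff : WittVector p S →+* S))
      (show x * y - 1 ∈ _ by rw [RingHom.mem_ker, map_sub, map_mul, hy, ← hu]; simp)) 1
    simpa using this
  exact isUnit_of_mul_isUnit_left hxy

theorem isUnit_of_map [IsAdicComplete (Ideal.span {(p : S)}) S] (φ : S →+* R)
    (hφ : Function.Surjective φ) (hnil : ∀ a, φ a = 0 → IsNilpotent a) (x : WittVector p S)
    (h : IsUnit (WittVector.map φ x)) : IsUnit x := by
  rw [isUnit_witt_iff]
  have h1 : IsUnit (φ (WittVector.constantCoeff x)) := by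
    have := h.map (WittVector.constantCoeff : WittVector p R →+* R)
    exact this
  obtain ⟨b, hb⟩ := hφ ↑h1.unit⁻¹
  have h2 : IsUnit (WittVector.constantCoeff x * b) := by
    have hn : IsNilpotent (WittVector.constantCoeff x * b - 1) := hnil _ (by
      rw [map_sub, map_mul, hb, map_one, IsUnit.mul_val_inv, sub_self])
    simpa using hn.isUnit_add_one
  exact isUnit_of_mul_isUnit_left h2

/-- idempotent matrices lift along `W(S) → W(R)` -/
theorem exists_idem_witt [IsAdicComplete (Ideal.span {(p : S)}) S] [IsAdicComplete (Ideal.span {(p : R)}) R]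
    (φ : S →+* R) (hφ : Function.Surjective φ) (hnil : ∀ a, φ a = 0 → IsNilpotent a)
    (e : Matrix (Fin n) (Fin n) (WittVector p R)) (he : IsIdempotentElem e) :
    ∃ e' : Matrix (Fin n) (Fin n) (WittVector p S),
      IsIdempotentElem e' ∧ e'.map (WittVector.map φ) = e := by
  classical
  haveI := WittComplete.isAdicComplete_ker (p := p) (R := S)
  haveI := WittComplete.isAdicComplete_ker (p := p) (R := R)
  set cS : WittVector p S →+* S := WittVector.constantCoeff
  set cR : WittVector p R →+* R := WittVector.constantCoeff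
  set Φ : WittVector p S →+* WittVector p R := WittVector.map φ
  have he0 : IsIdempotentElem (e.map cR) := by
    show e.map cR * e.map cR = e.map cR
    rw [← Matrix.map_mul, he.eq]
  obtain ⟨f, hf, hfe⟩ := exists_idem_of_nil φ hφ hnil _ he0
  let x : Matrix (Fin n) (Fin n) (WittVector p S) :=
    Matrix.of fun i j => (WittVector.constantCoeff_surjective p (f i j)).choose
  have hx : x.map cS = f := Matrix.ext fun i j => (WittVector.constantCoeff_surjective p (f i j)).choose_spec
  obtain ⟨g, hg, hgx⟩ := exists_idem_of_complete (RingHom.ker cS) x (fun i j => by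
    rw [RingHom.mem_ker]
    have : (x * x - x).map cS = f * f - f := by
      rw [Matrix.map_sub _ (map_sub cS), Matrix.map_mul, hx]
    rw [hf.eq, sub_self] at this
    exact congrFun (congrFun this i) j)
  set g' := g.map Φ
  have hg' : IsIdempotentElem g' := by
    show g.map Φ * g.map Φ = g.map Φ
    rw [← Matrix.map_mul, hg.eq]
  have hcg : g'.map cR = e.map cR := by
    have h1 : g.map cS = f := by
      rw [← hx]
      refine Matrix.ext fun i j => sub_eq_zero.1 ?_
      simpa [sub_eq_zero] using hgx i j
    rw [← hfe, ← h1]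
    exact Matrix.ext fun i j => rfl
  set u := e * g' + (1 - e) * (1 - g')
  have hu1 : u.map cR = 1 := by
    rw [← RingHom.mapMatrix_apply]
    simp only [u, map_add, map_mul, map_sub, map_one]
    simp only [RingHom.mapMatrix_apply, hcg]
    have : e.map cR * e.map cR = e.map cR := by rw [← Matrix.map_mul, he.eq]
    simp [mul_sub, sub_mul, this]
  obtain ⟨u', hu'⟩ : ∃ u' : Matrix (Fin n) (Fin n) (WittVector p S), u'.map Φ = u :=
    ⟨Matrix.of fun i j => (WittVector.map_surjective φ hφ (u i j)).choose,
      Matrix.ext fun i j => (WittVector.map_surjective φ hφ (u i j)).choose_spec⟩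
  have hdet : IsUnit u.det := by
    rw [isUnit_witt_iff, RingHom.map_det, RingHom.mapMatrix_apply, hu1, Matrix.det_one]
    exact isUnit_one
  have hdet' : IsUnit u'.det := by
    refine isUnit_of_map φ hφ hnil _ ?_
    rw [RingHom.map_det, RingHom.mapMatrix_apply, hu']
    exact hdet
  obtain ⟨U, hU⟩ := (Matrix.isUnit_iff_isUnit_det u').2 hdet'
  refine ⟨u' * g * (↑U⁻¹ : Matrix (Fin n) (Fin n) (WittVector p S)), ?_, ?_⟩
  · show _ * _ = _
    rw [← hU]
    simp only [mul_assoc, Units.inv_mul_cancel_left]
    rw [← mul_assoc g g, hg.eq]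
  · have hinv : Φ.mapMatrix u' * Φ.mapMatrix (↑U⁻¹ : Matrix (Fin n) (Fin n) (WittVector p S)) = 1 := by
      rw [← map_mul, ← hU, Units.mul_inv, map_one]
    rw [← RingHom.mapMatrix_apply, map_mul, map_mul]
    have key : Φ.mapMatrix u' * Φ.mapMatrix g = e * Φ.mapMatrix u' := by
      rw [RingHom.mapMatrix_apply, RingHom.mapMatrix_apply, hu']
      change u * g' = e * u
      simp only [u, mul_add, add_mul, mul_sub, sub_mul, mul_one, one_mul, mul_assoc, hg'.eq]
      rw [← mul_assoc e e, he.eq]
      abel
    rw [key, mul_assoc, hinv, mul_one]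

end Witt

end Groth.Calg7.IdemLift
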