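import Mathlib

/-!
Height one primes of invariant rings of factorial domains with trivial residue extension are principal.
-/

set_option autoImplicit false

namespace Groth.Calg7.InvariantHeightOne

open scoped Pointwise

universe u

variable {A B G : Type u} [CommRing A] [IsDomain A] [UniqueFactorizationMonoid A]
  [CommRing B] [Algebra B A] [FaithfulSMul B A] [Module.Finite B A]
  [Group G] [Finite G] [MulSemiringAction G A] [FaithfulSMul G A] [SMulCommClass G B A]
  [Algebra.IsInvariant B A G]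

omit [UniqueFactorizationMonoid A] [FaithfulSMul B A] [Module.Finite B A] [Algebra.IsInvariant B A G] in
theorem card_le_of_dense {ι : Type u} [Fintype ι] (v : ι → A) (d : B) (hd : algebraMap B A d ≠ 0)
    (hv : ∀ x : A, ∃ c : ι → B, d • x = ∑ i, c i • v i) : Nat.card G ≤ Fintype.card ι := by
  classical
  cases nonempty_fintype G
  have hli : LinearIndependent A (fun (g : G) (i : ι) => g • v i) := by
    rw [Fintype.linearIndependent_iff]
    intro a ha
    have hinj : Function.Injective fun g : G => (MulSemiringAction.toRingHom G A g).toMonoidHom :=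
      fun g h hgh => FaithfulSMul.eq_of_smul_eq_smul fun x : A => by
        simpa using DFunLike.congr_fun hgh x
    have key := (linearIndependent_monoidHom A A).comp _ hinj
    rw [Fintype.linearIndependent_iff] at key
    refine key a (funext fun x => ?_)
    obtain ⟨c, hc⟩ := hv x
    have h0 : ∀ i, ∑ g, a g * (g • v i) = 0 := fun i => by simpa using congrFun ha i
    have h1 : algebraMap B A d * ∑ g, a g * (g • x) = 0 := by
      rw [Finset.mul_sum]
      have : ∀ g : G, algebraMap B A d * (a g * (g • x)) = ∑ i, algebraMap B A (c i) * (a g * (g • v i)) := by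
        intro g
        rw [mul_left_comm, ← Algebra.smul_def, ← smul_comm g d x, hc, Finset.smul_sum, Finset.mul_sum]
        refine Finset.sum_congr rfl fun i _ => ?_
        rw [smul_comm g (c i) (v i), Algebra.smul_def]; ring
      rw [Finset.sum_congr rfl fun g _ => this g, Finset.sum_comm]
      refine Finset.sum_eq_zero fun i _ => ?_
      rw [← Finset.mul_sum, h0, mul_zero]
    simpa [Finset.sum_apply] using (mul_eq_zero.1 h1).resolve_left hd
  have := hli.fintype_card_le_finrank
  rwa [Module.finrank_fintype_fun_eq_card, ← Nat.card_eq_fintype_card] at this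

omit [FaithfulSMul G A] in
/-- a prime over a height one prime of `B` is generated by a prime element -/
theorem exists_prime_generator (q : Ideal B) [q.IsPrime] (hq : q.height = 1) (p : Ideal A) [p.IsPrime]
    [p.LiesOver q] : ∃ π : A, Prime π ∧ p = Ideal.span {π} := by
  haveI : IsDomain B := (FaithfulSMul.algebraMap_injective B A).isDomain (algebraMap B A)
  haveI : Algebra.IsIntegral B A := Algebra.IsIntegral.of_finite B A
  have hq0 : q ≠ ⊥ := Ideal.ne_bot_of_height_eq_one hq
  have hp0 : p ≠ ⊥ := by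
    intro h
    refine hq0 (eq_bot_iff.2 fun x hx => ?_)
    rw [Ideal.mem_of_liesOver p q, h, Ideal.mem_bot, map_eq_zero_iff _ (FaithfulSMul.algebraMap_injective B A)] at hx
    exact hx
  obtain ⟨π, hπp, hπ⟩ := Ideal.IsPrime.exists_mem_prime_of_ne_bot ‹p.IsPrime› hp0
  refine ⟨π, hπ, ?_⟩
  by_contra hne
  haveI : (Ideal.span {π}).IsPrime := (Ideal.span_singleton_prime hπ.ne_zero).2 hπ
  have hlt : Ideal.span {π} < p := lt_of_le_of_ne ((Ideal.span_singleton_le_iff_mem _).2 hπp) (Ne.symm hne)
  have h1 : (Ideal.span {π}).comap (algebraMap B A) < q := by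
    rw [p.over_def q]
    exact Ideal.IsIntegral.comap_lt_comap hlt
  have h2 : (⊥ : Ideal B) < (Ideal.span {π}).comap (algebraMap B A) := by
    have : (⊥ : Ideal A).comap (algebraMap B A) < (Ideal.span {π}).comap (algebraMap B A) :=
      Ideal.IsIntegral.comap_lt_comap (bot_lt_iff_ne_bot.2 (by simpa using hπ.ne_zero))
    exact lt_of_le_of_lt bot_le this
  haveI : q.FiniteHeight := Ideal.finiteHeight_iff q |>.2 (Or.inr (by simp [hq]))
  have h3 := Ideal.height_strict_mono_of_isPrime_of_isPrime h1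
  rw [hq, ENat.lt_one_iff_eq_zero] at h3
  haveI : ((Ideal.span {π}).comap (algebraMap B A)).FiniteHeight :=
    Ideal.finiteHeight_iff _ |>.2 (Or.inr (by simp [h3]))
  have h4 := Ideal.height_strict_mono_of_isPrime_of_isPrime h2
  rw [h3] at h4
  exact not_lt_zero h4

theorem isPrincipal {A B : Type u} [CommRing A] [IsDomain A] [UniqueFactorizationMonoid A]
    [CommRing B] [Algebra B A] [FaithfulSMul B A] [Module.Finite B A]
    (G : Type u) [Group G] [Finite G] [MulSemiringAction G A] [FaithfulSMul G A] [SMulCommClass G B A]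
    [Algebra.IsInvariant B A G] (q : Ideal B) [q.IsPrime] (hq : q.height = 1)
    (p : Ideal A) [p.IsPrime] [p.LiesOver q]
    (hres : ∀ a : A, ∃ b c : B, c ∉ q ∧ algebraMap B A c * a - algebraMap B A b ∈ p) :
    Submodule.IsPrincipal q := by
  classical
  cases nonempty_fintype G
  have hinj := FaithfulSMul.algebraMap_injective B A
  haveI : IsDomain B := hinj.isDomain (algebraMap B A)
  obtain ⟨π, hπ, hp⟩ := exists_prime_generator q hq p
  have hmemp : ∀ x, x ∈ p ↔ π ∣ x := fun x => by rw [hp, Ideal.mem_span_singleton]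
  have hB : ∀ (g : G) (b : B), g • algebraMap B A b = algebraMap B A b := fun g b => by
    rw [Algebra.algebraMap_eq_smul_one, smul_comm, smul_one]
  have hmap : ∀ (g : G) {a x : A}, a ∣ x → g • a ∣ g • x := fun g a x h =>
    map_dvd (MulSemiringAction.toRingHom G A g) h
  have hsd : ∀ (g : G) (a x : A), g • a ∣ g • x ↔ a ∣ x := fun g a x =>
    ⟨fun h => by simpa using hmap g⁻¹ h, hmap g⟩
  have hgπ : ∀ g : G, Prime (g • π) := fun g =>
    (MulEquiv.prime_iff (MulSemiringAction.toRingEquiv G A g).toMulEquiv).2 hπ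
  -- the orbit of `π`, up to associates
  let cls : G → Associates A := fun g => Associates.mk (g • π)
  let O : Finset (Associates A) := Finset.univ.image cls
  let ix : G → O := fun g => ⟨cls g, Finset.mem_image_of_mem _ (Finset.mem_univ g)⟩
  have hrep : ∀ o : O, ∃ g : G, ix g = o := fun o => by
    obtain ⟨g, -, hg⟩ := Finset.mem_image.1 o.2
    exact ⟨g, Subtype.ext hg⟩
  choose r hr using hrep
  let P : O → A := fun o => r o • π
  have hP : ∀ g : G, Associated (g • π) (P (ix g)) := fun g =>
    Associates.mk_eq_mk_iff_associated.1 (congrArg Subtype.val (hr (ix g))).symm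
  have hPne : ∀ o o' : O, o ≠ o' → ¬ P o ∣ P o' := fun o o' hne h => hne <| by
    rw [← hr o, ← hr o']
    exact Subtype.ext (Associates.mk_eq_mk_iff_associated.2 ((hgπ _).associated_of_dvd (hgπ _) h))
  have hrel : ∀ o o' : O, o ≠ o' → IsRelPrime (P o) (P o') := fun o o' hne =>
    (hgπ (r o)).irreducible.isRelPrime_iff_not_dvd.2 (hPne o o' hne)
  have hPpow : ∀ (o : O) (n : ℕ) (b : B), P o ^ n ∣ algebraMap B A b ↔ π ^ n ∣ algebraMap B A b := fun o n b => by
    conv_lhs => rw [← hB (r o) b, ← smul_pow', hsd]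
  have hPmem : ∀ (o : O) (b : B), P o ∣ algebraMap B A b ↔ b ∈ q := fun o b => by
    have := hPpow o 1 b
    rw [pow_one, pow_one] at this
    rw [this, ← hmemp, ← Ideal.mem_of_liesOver p q]
  let Pr : A := ∏ o : O, P o
  let h : O → A := fun o => ∏ o' ∈ Finset.univ.erase o, P o'
  have hh : ∀ o, P o * h o = Pr := fun o => Finset.mul_prod_erase _ _ (Finset.mem_univ o)
  have hh' : ∀ o o', o' ≠ o → P o' ∣ h o := fun o o' hne =>
    Finset.dvd_prod_of_mem _ (Finset.mem_erase.2 ⟨hne, Finset.mem_univ o'⟩)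
  have hho : ∀ o, ¬ P o ∣ h o := fun o hd => by
    obtain ⟨o', ho', hd'⟩ := (hgπ (r o)).exists_mem_finset_dvd hd
    exact hPne o o' (Finset.mem_erase.1 ho').1.symm hd'
  -- the least multiplicity of `π` in the elements of `q`
  obtain ⟨b₀, hb₀, hb₀0⟩ := (Submodule.ne_bot_iff q).1 (Ideal.ne_bot_of_height_eq_one hq)
  have hex : ∃ n : ℕ, ∃ b ∈ q, ¬ π ^ (n + 1) ∣ algebraMap B A b := by
    obtain ⟨n, hn⟩ := FiniteMultiplicity.of_prime_left hπ ((map_ne_zero_iff _ hinj).2 hb₀0)
    exact ⟨n, b₀, hb₀, hn⟩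
  let e := Nat.find hex
  have he : ∀ b ∈ q, π ^ e ∣ algebraMap B A b := by
    intro b hb
    by_contra hne
    rcases Nat.eq_zero_or_pos e with h0 | h0
    · rw [h0, pow_zero] at hne
      exact hne (one_dvd _)
    · refine Nat.find_min hex (show e - 1 < e by omega) ⟨b, hb, ?_⟩
      rwa [Nat.sub_add_cancel h0]
  obtain ⟨b₁, hb₁, hb₁'⟩ := Nat.find_spec hex
  have hPr : ∀ b ∈ q, Pr ^ e ∣ algebraMap B A b := fun b hb => by
    rw [← Finset.prod_pow]
    exact Finset.prod_dvd_of_isRelPrime (fun o _ o' _ hne => (hrel o o' hne).pow)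
      (fun o _ => (hPpow o e b).2 (he b hb))
  obtain ⟨a, ha⟩ := hPr b₁ hb₁
  have hao : ∀ o, ¬ P o ∣ a := fun o hd => hb₁' <| by
    rw [← hPpow o, ha, pow_succ]
    exact mul_dvd_mul (pow_dvd_pow_of_dvd (Finset.dvd_prod_of_mem _ (Finset.mem_univ o)) e) hd
  obtain ⟨cN, hcN⟩ := Algebra.IsInvariant.isInvariant (A := B) (G := G) (∏ g : G, g • a) fun g' => by
    rw [Finset.smul_prod']
    exact Fintype.prod_equiv (Equiv.mulLeft g') _ _ fun g => (mul_smul g' g a).symm
  have hcNq : cN ∉ q := fun hc => by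
    rw [← hPmem (ix 1), hcN] at hc
    obtain ⟨g, -, hg⟩ := (hgπ _).exists_mem_finset_dvd hc
    have h1 : (g⁻¹ * r (ix 1)) • π ∣ a := by
      rw [← hsd g, smul_smul, mul_inv_cancel_left]
      exact hg
    exact hao _ ((hP _).symm.dvd.trans h1)
  have hcPr : ∀ z : A, cN • (Pr ^ e * z) ∈ q • (⊤ : Submodule B A) := fun z => by
    have : cN • (Pr ^ e * z) = b₁ • ((∏ g ∈ Finset.univ.erase (1 : G), g • a) * z) := by
      rw [Algebra.smul_def, Algebra.smul_def, hcN, ha, ← Finset.mul_prod_erase _ _ (Finset.mem_univ (1 : G)),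
        one_smul]
      ring
    rw [this]
    exact Submodule.smul_mem_smul hb₁ trivial
  -- `h o` span modulo `Pr`
  have hstep : ∀ x : A, ∃ C : B, C ∉ q ∧ ∃ c : O → B, Pr ∣ C • x - ∑ o, c o • h o := by
    intro x
    have hloc : ∀ (o : O) (y : A), ∃ b c : B, c ∉ q ∧ P o ∣ algebraMap B A c * y - algebraMap B A b := by
      intro o y
      obtain ⟨b, c, hc, hd⟩ := hres ((r o)⁻¹ • y)
      refine ⟨b, c, hc, ?_⟩
      rw [hmemp, ← hsd (r o), smul_sub, smul_mul', hB, hB, smul_inv_smul] at hd
      exact hd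
    have hone : ∀ o : O, ∃ C D : B, C ∉ q ∧ P o ∣ C • x - D • h o := by
      intro o
      obtain ⟨b, c, hc, hd⟩ := hloc o x
      obtain ⟨b', c', hc', hd'⟩ := hloc o (h o)
      have hb' : b' ∉ q := fun hb' => by
        rw [← hPmem o] at hb'
        have h1 := dvd_add hd' hb'
        rw [sub_add_cancel] at h1
        rcases (hgπ (r o)).dvd_or_dvd h1 with h2 | h2
        · exact hc' ((hPmem o c').1 h2)
        · exact hho o h2
      refine ⟨c * b', b * c', fun hm => (Ideal.IsPrime.mem_or_mem ‹_› hm).elim hc hb', ?_⟩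
      have : (c * b') • x - (b * c') • h o = algebraMap B A b' * (algebraMap B A c * x - algebraMap B A b)
          - algebraMap B A b * (algebraMap B A c' * h o - algebraMap B A b') := by
        simp only [Algebra.smul_def, map_mul]; ring
      rw [this]
      exact dvd_sub (hd.mul_left _) (hd'.mul_left _)
    choose C D hC hCD using hone
    refine ⟨∏ o, C o, fun hm => ?_, fun o => D o * ∏ o' ∈ Finset.univ.erase o, C o', ?_⟩
    · obtain ⟨o, -, ho⟩ := (Ideal.IsPrime.prod_mem_iff (s := Finset.univ)).1 hm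
      exact hC o ho
    refine Finset.prod_dvd_of_isRelPrime (fun o _ o' _ hne => hrel o o' hne) fun o _ => ?_
    rw [← Finset.add_sum_erase _ _ (Finset.mem_univ o), ← sub_sub]
    refine dvd_sub ?_ (Finset.dvd_sum fun o' ho' => ?_)
    · have : (∏ o', C o') • x - (D o * ∏ o' ∈ Finset.univ.erase o, C o') • h o
          = (∏ o' ∈ Finset.univ.erase o, C o') • (C o • x - D o • h o) := by
        rw [smul_sub, smul_smul, smul_smul, ← Finset.mul_prod_erase _ _ (Finset.mem_univ o), mul_comm (C o),
          mul_comm (D o)]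
      rw [this, Algebra.smul_def]
      exact (hCD o).mul_left _
    · rw [Algebra.smul_def]
      exact (hh' o' o (Finset.mem_erase.1 ho').1.symm).mul_left _
  let v : O × Fin e → A := fun oi => h oi.1 * Pr ^ (oi.2 : ℕ)
  let W : Submodule B A := Submodule.span B (Set.range v)
  have hiter : ∀ j ≤ e, ∀ x : A, ∃ C : B, C ∉ q ∧ ∃ w ∈ W, Pr ^ j ∣ C • x - w := by
    intro j
    induction j with
    | zero =>
      exact fun _ x => ⟨1, fun h1 => Ideal.IsPrime.ne_top ‹q.IsPrime› ((Ideal.eq_top_iff_one q).2 h1),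
        0, W.zero_mem, by simp⟩
    | succ j ih =>
      intro hj x
      obtain ⟨C, hC, w, hw, y, hy⟩ := ih (by omega) x
      obtain ⟨C', hC', c, z, hz⟩ := hstep y
      refine ⟨C' * C, fun hm => (Ideal.IsPrime.mem_or_mem ‹_› hm).elim hC' hC,
        C' • w + ∑ o, c o • v (o, ⟨j, hj⟩), W.add_mem (W.smul_mem _ hw)
          (W.sum_mem fun o _ => W.smul_mem _ (Submodule.subset_span ⟨_, rfl⟩)), z, ?_⟩
      have h2 : (∑ o, c o • v (o, ⟨j, hj⟩)) = (∑ o, c o • h o) * Pr ^ j := by
        rw [Finset.sum_mul]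
        exact Finset.sum_congr rfl fun o _ => (smul_mul_assoc _ _ _).symm
      rw [h2, ← sub_sub, mul_smul, ← smul_sub, hy, mul_comm (Pr ^ j) y, ← smul_mul_assoc, ← sub_mul, hz]
      ring
  have hall : ∀ x : A, ∃ C : B, C ∉ q ∧ C • x ∈ W ⊔ q • ⊤ := by
    intro x
    obtain ⟨C, hC, w, hw, z, hz⟩ := hiter e le_rfl x
    refine ⟨cN * C, fun hm => (Ideal.IsPrime.mem_or_mem ‹_› hm).elim hcNq hC, ?_⟩
    rw [mul_smul, show C • x = w + Pr ^ e * z by rw [← hz]; ring, smul_add]
    exact Submodule.add_mem_sup (W.smul_mem _ hw) (hcPr z)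
  choose Cx hCx hCxm using hall
  obtain ⟨s, hs⟩ := (Module.Finite.fg_top (R := B) (M := A))
  let C : B := ∏ x ∈ s, Cx x
  have hCall : ∀ x : A, C • x ∈ W ⊔ q • ⊤ := by
    intro x
    have hx : x ∈ Submodule.span B (s : Set A) := hs ▸ Submodule.mem_top
    induction hx using Submodule.span_induction with
    | mem x hx =>
      rw [show C = (∏ y ∈ s.erase x, Cx y) * Cx x from (Finset.prod_erase_mul _ _ hx).symm, mul_smul]
      exact Submodule.smul_mem _ _ (hCxm x)
    | zero => simp
    | add x y _ _ hx hy => rw [smul_add]; exact add_mem hx hy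
    | smul c x _ hx => rw [smul_comm]; exact Submodule.smul_mem _ _ hx
  have hCq : C ∉ q := fun hm => by
    obtain ⟨x, -, hx⟩ := (Ideal.IsPrime.prod_mem_iff (s := s)).1 hm
    exact hCx x hx
  -- determinant trick
  have hrange : LinearMap.range (algebraMap B (Module.End B (A ⧸ W)) C) ≤ q • ⊤ := by
    rintro _ ⟨y, rfl⟩
    obtain ⟨x, rfl⟩ := W.mkQ_surjective y
    have := Submodule.mem_map_of_mem (f := W.mkQ) (hCall x)
    rw [Submodule.map_sup, Submodule.map_smul'', Submodule.mkQ_map_self, bot_sup_eq] at this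
    rw [Module.algebraMap_end_apply, ← map_smul]
    exact Submodule.smul_mono le_rfl le_top this
  obtain ⟨f, hfm, -, hfc, hf0⟩ :=
    LinearMap.exists_monic_and_coeff_mem_pow_and_aeval_eq_zero_of_range_le_smul B _ q hrange
  rw [Polynomial.aeval_algebraMap_apply] at hf0
  have hdq : Polynomial.aeval C f ∉ q := by
    intro hm
    have h1 : f.map (Ideal.Quotient.mk q) = Polynomial.X ^ f.natDegree := by
      ext k
      rw [Polynomial.coeff_map, Polynomial.coeff_X_pow]
      rcases lt_trichotomy k f.natDegree with hk | hk | hk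
      · rw [if_neg hk.ne, Ideal.Quotient.eq_zero_iff_mem]
        exact Ideal.pow_le_self (by omega) (hfc k)
      · rw [if_pos hk, hk, Polynomial.Monic.coeff_natDegree hfm, map_one]
      · rw [if_neg hk.ne', Polynomial.coeff_eq_zero_of_natDegree_lt hk, map_zero]
    rw [← Ideal.Quotient.eq_zero_iff_mem, Polynomial.coe_aeval_eq_eval, ← Polynomial.eval_map_apply, h1,
      Polynomial.eval_pow, Polynomial.eval_X, ← map_pow, Ideal.Quotient.eq_zero_iff_mem] at hm
    exact hCq (Ideal.IsPrime.mem_of_pow_mem ‹_› _ hm)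
  have hcard : Nat.card G ≤ Fintype.card (O × Fin e) := by
    refine card_le_of_dense v (Polynomial.aeval C f) (fun h0 => hdq ?_) fun x => ?_
    · rw [map_eq_zero_iff _ hinj] at h0
      rw [h0]; exact q.zero_mem
    · have h1 := LinearMap.congr_fun hf0 (W.mkQ x)
      rw [Module.algebraMap_end_apply, ← map_smul, LinearMap.zero_apply, Submodule.mkQ_apply,
        Submodule.Quotient.mk_eq_zero, Submodule.mem_span_range_iff_exists_fun] at h1
      obtain ⟨c, hc⟩ := h1
      exact ⟨c, hc.symm⟩
  -- the fibres of `ix` have the same cardinality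
  let k : O → ℕ := fun o => (Finset.univ.filter fun g => ix g = o).card
  have hk : ∀ o o', k o ≤ k o' := by
    intro o o'
    refine Finset.card_le_card_of_injOn (fun g => r o' * (r o)⁻¹ * g) (fun g hg => ?_)
      (fun g _ g' _ hgg => mul_left_cancel hgg)
    rw [Finset.mem_coe, Finset.mem_filter] at hg ⊢
    refine ⟨Finset.mem_univ _, (Eq.trans ?_ (hr o'))⟩
    refine Subtype.ext (Associates.mk_eq_mk_iff_associated.2 ?_)
    have h1 : Associated (g • π) (r o • π) :=
      Associates.mk_eq_mk_iff_associated.1 (congrArg Subtype.val (hg.2.trans (hr o).symm))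
    have h2 := h1.map (MulSemiringAction.toRingHom G A (r o' * (r o)⁻¹))
    simpa [← mul_smul] using h2
  have hke : ∀ o, k o ≤ e := by
    intro o
    have hsum : Nat.card G = ∑ o', k o' := by
      rw [Nat.card_eq_fintype_card, ← Finset.card_univ]
      exact Finset.card_eq_sum_card_fiberwise fun g _ => Finset.mem_univ _
    have h1 : Fintype.card O * k o ≤ Fintype.card O * e := by
      calc Fintype.card O * k o = ∑ _o' : O, k o := by simp
        _ ≤ ∑ o', k o' := Finset.sum_le_sum fun o' _ => hk o o'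
        _ ≤ _ := by rw [← hsum]; simpa using hcard
    exact Nat.le_of_mul_le_mul_left h1 (Fintype.card_pos_iff.2 ⟨o⟩)
  obtain ⟨n, hn⟩ := Algebra.IsInvariant.isInvariant (A := B) (G := G) (∏ g : G, g • π) fun g' => by
    rw [Finset.smul_prod']
    exact Fintype.prod_equiv (Equiv.mulLeft g') _ _ fun g => (mul_smul g' g π).symm
  have hN0 : algebraMap B A n ≠ 0 := by
    rw [hn]
    exact Finset.prod_ne_zero_iff.2 fun g _ => (hgπ g).ne_zero
  have hNPr : algebraMap B A n ∣ Pr ^ e := by
    rw [hn, ← Finset.prod_pow]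
    refine (Finset.prod_dvd_prod_of_dvd _ (fun g => P (ix g)) fun g _ => (hP g).dvd).trans ?_
    rw [← Finset.prod_fiberwise_of_maps_to (t := Finset.univ) fun g _ => Finset.mem_univ (ix g)]
    refine Finset.prod_dvd_prod_of_dvd _ _ fun o _ => ?_
    rw [Finset.prod_congr rfl fun g hg => by rw [(Finset.mem_filter.1 hg).2], Finset.prod_const]
    exact pow_dvd_pow _ (hke o)
  refine ⟨n, le_antisymm (fun b hb => ?_) ((Submodule.span_singleton_le_iff_mem _ _).2 ?_)⟩
  · obtain ⟨z, hz⟩ := hNPr.trans (hPr b hb)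
    obtain ⟨z', hz'⟩ := Algebra.IsInvariant.isInvariant (A := B) (G := G) z fun g => by
      refine mul_left_cancel₀ hN0 ?_
      conv_rhs => rw [← hz, ← hB g b, hz, smul_mul', hB]
    exact Submodule.mem_span_singleton.2 ⟨z', hinj (by rw [smul_eq_mul, map_mul, hz', hz, mul_comm])⟩
  · rw [← hPmem (ix 1), hn]
    exact (hP 1).symm.dvd.trans (Finset.dvd_prod_of_mem _ (Finset.mem_univ 1))

end Groth.Calg7.InvariantHeightOne
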