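import Groth.Agent.FrobLCI.Avramov.Flat
import Groth.Agent.Calg5.RelGCINoeth
import Groth.Agent.Ega4Algebra2.RegularQuotient
import Groth.Agent.Ega4Algebra2.Noeth
import Groth.Agent.ArtfunDeform.Schlessinger
import Groth.Agent.Calg1.CompletionLocal
import Mathlib.RingTheory.LocalRing.Pullback

/-!
Independence of the regular-kernel condition from the choice of a factorization `A → S → B` with `A → S`
flat with regular closed fibre.
-/

universe u

open IsLocalRing RingTheory.Sequence TensorProduct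

namespace Groth.Calg7.LCIIndep

/-- `K ∩ 𝔪_A S'' = 𝔪_A K` when the quotient by `K` is flat over `A`. -/
theorem ker_inf_map_le {A S'' S : Type u} [CommRing A] [IsLocalRing A] [IsNoetherianRing A] [CommRing S'']
    [CommRing S] [Algebra A S''] [Algebra A S] [Module.Flat A S] (σ : S'' →ₐ[A] S) (hσ : Function.Surjective σ) :
    RingHom.ker σ ⊓ (maximalIdeal A).map (algebraMap A S'') ≤
      (maximalIdeal A).map (algebraMap A S'') * RingHom.ker σ := by
  rintro z ⟨hzK, hz⟩
  obtain ⟨n, a, ha⟩ := Submodule.fg_iff_exists_fin_generating_family.mp (IsNoetherian.noetherian (maximalIdeal A))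
  rw [SetLike.mem_coe, ← ha, Ideal.submodule_span_eq, Ideal.map_span, ← Set.range_comp] at hz
  obtain ⟨s, rfl⟩ := Ideal.mem_span_range_iff_exists_fun.mp hz
  have hrel : ∑ i, a i • σ (s i) = 0 := by
    refine Eq.trans ?_ (RingHom.mem_ker.mp hzK)
    simp only [map_sum, map_mul, Function.comp_apply, AlgHom.commutes, Algebra.smul_def]
    exact Finset.sum_congr rfl fun i _ => mul_comm _ _
  obtain ⟨m, α, y, hy, hα⟩ := (Module.Flat.iff_forall_isTrivialRelation (R := A) (M := S)).mp inferInstance hrel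
  choose Y hY using fun j => hσ (y j)
  have key : ∑ i, s i * algebraMap A S'' (a i) =
      ∑ i, algebraMap A S'' (a i) * (s i - ∑ j, α i j • Y j) := by
    have h0 : ∑ i, algebraMap A S'' (a i) * (∑ j, α i j • Y j) = 0 := by
      simp only [Finset.mul_sum, Algebra.smul_def, ← mul_assoc, ← map_mul]
      rw [Finset.sum_comm]
      refine Finset.sum_eq_zero fun j _ => ?_
      rw [← Finset.sum_mul, ← map_sum, hα, map_zero, zero_mul]
    simp only [mul_sub, Finset.sum_sub_distrib, h0, sub_zero]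
    exact Finset.sum_congr rfl fun i _ => mul_comm _ _
  simp only [Function.comp_apply, key]
  refine Ideal.sum_mem _ fun i _ => Ideal.mul_mem_mul (Ideal.mem_map_of_mem _ (ha ▸ Submodule.subset_span ⟨i, rfl⟩)) ?_
  have hyi : σ (s i) = ∑ j, α i j • y j := hy i
  rw [RingHom.mem_ker, map_sub, map_sum, hyi, sub_eq_zero]
  exact Finset.sum_congr rfl fun j _ => by rw [map_smul, hY]

/-- The kernel of a surjection between flat algebras with regular closed fibres is generated by a weakly regular
family that is independent modulo `𝔪² + 𝔪_A`. -/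
theorem exists_ker_generators {A S'' S : Type u} [CommRing A] [IsLocalRing A] [IsNoetherianRing A]
    [CommRing S''] [IsNoetherianRing S''] [IsLocalRing S''] [CommRing S] [IsNoetherianRing S] [IsLocalRing S]
    [Algebra A S''] [Algebra A S] [IsLocalHom (algebraMap A S'')] [Module.Flat A S''] [Module.Flat A S]
    [IsRegularLocalRing (S'' ⧸ (maximalIdeal A).map (algebraMap A S''))]
    [IsRegularLocalRing (S ⧸ (maximalIdeal A).map (algebraMap A S))]
    (σ : S'' →ₐ[A] S) (hσ : Function.Surjective σ) :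
    ∃ (r : ℕ) (k : Fin r → S''), Ideal.span (Set.range k) = RingHom.ker σ ∧
      IsWeaklyRegular S'' (List.ofFn k) ∧
      ∀ c : Fin r → S'', ∑ i, c i * k i ∈ maximalIdeal S'' ^ 2 ⊔ (maximalIdeal A).map (algebraMap A S'') →
        ∀ i, c i ∈ maximalIdeal S'' := by
  classical
  set K := RingHom.ker σ with hK
  set 𝔞 := (maximalIdeal A).map (algebraMap A S'') with h𝔞
  have h𝔞m : 𝔞 ≤ maximalIdeal S'' := IsLocalRing.map_maximalIdeal_le _
  have hKm : K ≤ maximalIdeal S'' := IsLocalRing.le_maximalIdeal (RingHom.ker_ne_top _)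
  obtain ⟨r, k, hkK, hspan, hmin⟩ := Groth.Ega4b.exists_minimal_complement (Fin.elim0 : Fin 0 → S'') K K (by simp)
  have hk' : Ideal.span (Set.range k) = K := by
    rw [← hspan, Fin.elim0_append]
    exact congrArg Ideal.span ((finCongr (Nat.zero_add r)).surjective.range_comp k).symm
  have hmin' : ∀ c : Fin r → S'', ∑ i, c i * k i ∈ maximalIdeal S'' * K → ∀ i, c i ∈ maximalIdeal S'' := by
    intro c hc i
    have := hmin (c ∘ Fin.cast (Nat.zero_add r)) (by
      rw [Fin.elim0_append]
      exact ((finCongr (Nat.zero_add r)).sum_comp fun j => c j * k j).symm ▸ hc) i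
    convert this using 2
    exact congrArg c (Fin.ext (by simp))
  -- the map of closed fibres
  let φ : (S'' ⧸ 𝔞) →+* S ⧸ (maximalIdeal A).map (algebraMap A S) :=
    Ideal.quotientMap _ (σ : S'' →+* S) (Ideal.map_le_iff_le_comap.mp (by
      rw [h𝔞, Ideal.map_map, AlgHom.comp_algebraMap σ]))
  have hφ : Function.Surjective φ := Ideal.quotientMap_surjective hσ
  have hker : RingHom.ker φ = K.map (Ideal.Quotient.mk 𝔞) := by
    refine le_antisymm (fun z hz => ?_) (Ideal.map_le_iff_le_comap.mpr fun x hx => ?_)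
    · obtain ⟨z, rfl⟩ := Ideal.Quotient.mk_surjective z
      have hz' : σ z ∈ 𝔞.map (σ : S'' →+* S) := by
        rw [h𝔞, Ideal.map_map, AlgHom.comp_algebraMap σ]
        exact Ideal.Quotient.eq_zero_iff_mem.mp (RingHom.mem_ker.mp hz)
      obtain ⟨d, hd, hdz⟩ := (Ideal.mem_map_iff_of_surjective _ hσ).mp hz'
      rw [show Ideal.Quotient.mk 𝔞 z = Ideal.Quotient.mk 𝔞 (z - d) by
        rw [map_sub, Ideal.Quotient.eq_zero_iff_mem.mpr hd, sub_zero]]
      refine Ideal.mem_map_of_mem _ ?_
      rw [hK, RingHom.mem_ker, map_sub, ← show σ d = σ z from hdz, sub_self]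
    · rw [Ideal.mem_comap, RingHom.mem_ker]
      show Ideal.Quotient.mk _ (σ x) = 0
      rw [RingHom.mem_ker.mp hx, map_zero]
  have hregQ : IsRegularLocalRing ((S'' ⧸ 𝔞) ⧸ K.map (Ideal.Quotient.mk 𝔞)) :=
    IsRegularLocalRing.of_ringEquiv ((Ideal.quotEquivOfEq hker.symm).trans
      (RingHom.quotientKerEquivOfSurjective hφ)).symm
  have hmk : (maximalIdeal S'').map (Ideal.Quotient.mk 𝔞) = maximalIdeal (S'' ⧸ 𝔞) :=
    IsLocalRing.map_maximalIdeal_of_surjective _ Ideal.Quotient.mk_surjective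
  have hind : ∀ c : Fin r → S'', ∑ i, c i * k i ∈ maximalIdeal S'' ^ 2 ⊔ 𝔞 → ∀ i, c i ∈ maximalIdeal S'' := by
    intro c hc
    have hxK : ∑ i, c i * k i ∈ K := Ideal.sum_mem _ fun i _ => Ideal.mul_mem_left _ _ (hkK i)
    have h1 : Ideal.Quotient.mk 𝔞 (∑ i, c i * k i) ∈
        K.map (Ideal.Quotient.mk 𝔞) ⊓ maximalIdeal (S'' ⧸ 𝔞) ^ 2 := by
      refine ⟨Ideal.mem_map_of_mem _ hxK, ?_⟩
      rw [SetLike.mem_coe, ← hmk, ← Ideal.map_pow]
      exact Ideal.mem_quotient_iff_mem_sup.mpr hc
    have h2 := Groth.Ega4b.inf_sq_le_mul_of_regular_quotient (S'' ⧸ 𝔞) _ h1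
    rw [← hmk, ← Ideal.map_mul, Ideal.mem_quotient_iff_mem_sup] at h2
    obtain ⟨y, hy, w, hw, hyw⟩ := Submodule.mem_sup.mp h2
    have hwK : w ∈ K := by
      rw [show w = (∑ i, c i * k i) - y by rw [← hyw]; ring]
      exact Ideal.sub_mem _ hxK (Ideal.mul_le_right hy)
    have hw' : w ∈ maximalIdeal S'' * K :=
      Ideal.mul_mono_left h𝔞m (ker_inf_map_le σ hσ ⟨hwK, hw⟩)
    refine hmin' c ?_
    rw [← hyw]
    exact Ideal.add_mem _ hy hw'
  refine ⟨r, k, hk', ?_, hind⟩
  have hfib : IsWeaklyRegular (S'' ⧸ 𝔞) (List.ofFn k) := by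
    refine (isWeaklyRegular_map_algebraMap_iff (S'' ⧸ 𝔞) _ (List.ofFn k)).mp ?_
    rw [List.map_ofFn]
    refine Groth.Ega4b.isWeaklyRegular_of_independent_mod_sq r (S'' ⧸ 𝔞) _
      (fun i => hmk ▸ Ideal.mem_map_of_mem _ (hKm (hkK i))) fun c hc i => ?_
    choose d hd using fun j => Ideal.Quotient.mk_surjective (c j)
    rw [← hd i, ← hmk]
    refine Ideal.mem_map_of_mem _ (hind d ?_ i)
    rw [← Ideal.mem_quotient_iff_mem_sup, Ideal.map_pow, hmk, map_sum]
    simpa [hd] using hc
  exact (Groth.Calg5.RelGCI.regular_flat_of_fibre (A := A) (List.ofFn k) S''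
    (((Algebra.TensorProduct.quotIdealMapEquivTensorQuot S'' (maximalIdeal A)).toLinearEquiv.isWeaklyRegular_congr
      (List.ofFn k)).mp hfib)).1

/-- Independence of the regular-kernel condition along a surjection of flat algebras with regular fibres. -/
theorem iff_comap {A S'' S : Type u} [CommRing A] [IsLocalRing A] [IsNoetherianRing A]
    [CommRing S''] [IsNoetherianRing S''] [IsLocalRing S''] [CommRing S] [IsNoetherianRing S] [IsLocalRing S]
    [Algebra A S''] [Algebra A S] [IsLocalHom (algebraMap A S'')] [Module.Flat A S''] [Module.Flat A S]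
    [IsRegularLocalRing (S'' ⧸ (maximalIdeal A).map (algebraMap A S''))]
    [IsRegularLocalRing (S ⧸ (maximalIdeal A).map (algebraMap A S))]
    (σ : S'' →ₐ[A] S) (hσ : Function.Surjective σ) (J : Ideal S) (hJ : J ≠ ⊤) :
    (∃ rs : List S'', Ideal.ofList rs = J.comap σ ∧ IsRegular S'' rs) ↔
      ∃ rs : List S, Ideal.ofList rs = J ∧ IsRegular S rs := by
  classical
  obtain ⟨r, k, hk, hkreg, hind⟩ := exists_ker_generators σ hσ
  set J'' := J.comap σ with hJ''
  have hKJ : RingHom.ker σ ≤ J'' := fun x hx => by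
    rw [hJ'', Ideal.mem_comap, RingHom.mem_ker.mp hx]; exact zero_mem _
  have hJm : J'' ≤ maximalIdeal S'' :=
    IsLocalRing.le_maximalIdeal ((Ideal.comap_ne_top _ hJ))
  have hJm' : J ≤ maximalIdeal S := IsLocalRing.le_maximalIdeal hJ
  have hmap : J''.map σ = J := Ideal.map_comap_of_surjective _ hσ J
  letI alg : Algebra S'' S := σ.toRingHom.toAlgebra
  have hsurj : Function.Surjective (algebraMap S'' S) := hσ
  have hK : Ideal.ofList (List.ofFn k) = RingHom.ker σ := by rw [Groth.Ega4b.ofList_ofFn_eq_span, hk]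
  let e : (S'' ⧸ (Ideal.ofList (List.ofFn k) • (⊤ : Submodule S'' S''))) ≃ₗ[S''] S :=
    (Submodule.quotEquivOfEq _ (LinearMap.ker (Algebra.linearMap S'' S)) (by
      rw [smul_eq_mul, Ideal.mul_top, hK]; ext x; rfl)).trans
      ((Algebra.linearMap S'' S).quotKerEquivOfSurjective hsurj)
  constructor
  · rintro ⟨f, hf, hfreg⟩
    obtain ⟨m, g, hgJ, hspan, hmin⟩ := Groth.Ega4b.exists_minimal_complement k J'' J''
      (by rw [hk]; exact (sup_eq_right.mpr hKJ).symm)
    have hminimal : Groth.Ega4b.Minimal (Fin.append k g) := by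
      intro c hc
      rw [hspan] at hc
      have hb := hmin c hc
      intro i
      induction i using Fin.addCases with
      | right i => exact hb i
      | left i =>
        refine hind (fun j => c (Fin.castAdd m j)) (Ideal.mem_sup_left ?_) i
        rw [Fin.sum_univ_add] at hc
        simp only [Fin.append_left, Fin.append_right] at hc
        have h2 : ∑ j, c (Fin.natAdd r j) * g j ∈ maximalIdeal S'' * J'' :=
          Ideal.sum_mem _ fun j _ => Ideal.mul_mem_mul (hb j) (hgJ j)
        have h3 := (Ideal.add_mem_iff_left _ h2).mp hc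
        rw [pow_two]
        exact Ideal.mul_mono_right hJm h3
    have hw := Groth.Ega4b.isWeaklyRegular_of_minimal (fun i => f.get i)
      (fun i => hJm (hf ▸ Ideal.subset_span (List.get_mem f i)))
      (by rw [List.ofFn_get]; exact hfreg.toIsWeaklyRegular) _
      (by rw [hspan, ← Groth.Ega4b.ofList_ofFn_eq_span (fun i => f.get i), List.ofFn_get, hf]) hminimal
    rw [List.ofFn_fin_append, isWeaklyRegular_append_iff] at hw
    have hg := (isWeaklyRegular_map_algebraMap_iff S _ (List.ofFn g)).mpr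
      ((e.isWeaklyRegular_congr _).mp hw.2)
    have hspan' : Ideal.ofList ((List.ofFn g).map (algebraMap S'' S)) = J := by
      rw [← Ideal.map_ofList]
      refine le_antisymm (hmap ▸ Ideal.map_mono ?_) (hmap ▸ Ideal.map_le_iff_le_comap.mpr ?_)
      · rw [Groth.Ega4b.ofList_ofFn_eq_span, Ideal.span_le]
        rintro _ ⟨i, rfl⟩
        exact hgJ i
      · rw [← hspan, Ideal.span_le]
        rintro _ ⟨i, rfl⟩
        induction i using Fin.addCases with
        | left i =>
          rw [Fin.append_left, SetLike.mem_coe, Ideal.mem_comap, show σ (k i) = 0 from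
            RingHom.mem_ker.mp (hk ▸ Ideal.subset_span ⟨i, rfl⟩)]
          exact zero_mem _
        | right i =>
          rw [Fin.append_right, SetLike.mem_coe, Ideal.mem_comap]
          exact Ideal.mem_map_of_mem _ (Ideal.subset_span (List.mem_ofFn.mpr ⟨i, rfl⟩))
    refine ⟨_, hspan', (IsLocalRing.isRegular_iff_isWeaklyRegular_of_subset_maximalIdeal fun x hx => ?_).mpr hg⟩
    exact hJm' (hspan' ▸ Ideal.subset_span hx)
  · rintro ⟨rs, hrs, hreg⟩
    obtain ⟨ts, rfl⟩ := List.map_surjective_iff.mpr hsurj rs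
    have hall : Ideal.ofList (List.ofFn k ++ ts) = J'' := by
      rw [Ideal.ofList_append, hK, hJ'', ← hrs, ← Ideal.map_ofList, sup_comm]
      exact (Ideal.comap_map_of_surjective _ hsurj _).symm
    refine ⟨_, hall, (IsLocalRing.isRegular_iff_isWeaklyRegular_of_subset_maximalIdeal fun x hx => ?_).mpr ?_⟩
    · exact hJm (hall ▸ Ideal.subset_span hx)
    rw [isWeaklyRegular_append_iff]
    exact ⟨hkreg, (e.isWeaklyRegular_congr _).mpr
      ((isWeaklyRegular_map_algebraMap_iff S _ ts).mp hreg.toIsWeaklyRegular)⟩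

/-- A fibre product of complete Noetherian local rings over surjections onto a Noetherian local ring is complete. -/
theorem isAdicComplete_pullback {B S S' : Type u} [CommRing B] [CommRing S] [CommRing S'] [IsNoetherianRing B]
    [IsNoetherianRing S] [IsNoetherianRing S'] [IsLocalRing B] [IsLocalRing S] [IsLocalRing S']
    [IsAdicComplete (maximalIdeal S) S] [IsAdicComplete (maximalIdeal S') S'] (g : S →+* B) (g' : S' →+* B)
    (hg : Function.Surjective g) (hg' : Function.Surjective g') [IsNoetherianRing ↥(g.pullback g')]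
    [IsLocalRing ↥(g.pullback g')] :
    IsAdicComplete (maximalIdeal ↥(g.pullback g')) ↥(g.pullback g') := by
  letI : Algebra ↥(g.pullback g') S := (g.pullbackFst g').toAlgebra
  letI : Algebra ↥(g.pullback g') S' := (g.pullbackSnd g').toAlgebra
  have hs1 : Function.Surjective (algebraMap ↥(g.pullback g') S) :=
    RingHom.surjective_pullbackFst_of_surjective g g' hg'
  have hs2 : Function.Surjective (algebraMap ↥(g.pullback g') S') :=
    RingHom.surjective_pullbackSnd_of_surjective g g' hg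
  have : Module.Finite ↥(g.pullback g') S := Module.Finite.of_surjective (Algebra.linearMap _ S) hs1
  have : Module.Finite ↥(g.pullback g') S' := Module.Finite.of_surjective (Algebra.linearMap _ S') hs2
  set 𝔪 := maximalIdeal ↥(g.pullback g') with h𝔪
  have e1 := IsLocalRing.map_maximalIdeal_of_surjective _ hs1
  have e2 := IsLocalRing.map_maximalIdeal_of_surjective _ hs2
  let ι : ↥(g.pullback g') →ₗ[↥(g.pullback g')] S × S' := (Algebra.linearMap _ S).prod (Algebra.linearMap _ S')
  have hι : Function.Injective ι := fun x y h => Subtype.ext h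
  obtain ⟨c, hc⟩ := Ideal.exists_pow_inf_eq_pow_smul 𝔪 (LinearMap.range ι)
  have : IsPrecomplete 𝔪 ↥(g.pullback g') := by
    refine ⟨fun {a} ha => ?_⟩
    have hmem : ∀ {m n : ℕ}, m ≤ n → a m - a n ∈ 𝔪 ^ m := by
      intro m n h
      have := SModEq.sub_mem.mp (ha h)
      rwa [smul_eq_mul, Ideal.mul_top] at this
    have hp1 : ∀ {m : ℕ} {x : ↥(g.pullback g')}, x ∈ 𝔪 ^ m → algebraMap _ S x ∈ maximalIdeal S ^ m := by
      intro m x hx
      rw [← e1, ← Ideal.map_pow]
      exact Ideal.mem_map_of_mem _ hx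
    have hp2 : ∀ {m : ℕ} {x : ↥(g.pullback g')}, x ∈ 𝔪 ^ m → algebraMap _ S' x ∈ maximalIdeal S' ^ m := by
      intro m x hx
      rw [← e2, ← Ideal.map_pow]
      exact Ideal.mem_map_of_mem _ hx
    obtain ⟨x, hx⟩ := IsPrecomplete.prec (I := maximalIdeal S) inferInstance
      (f := fun n => algebraMap _ S (a n)) fun {m n} h => SModEq.sub_mem.mpr (by
        rw [smul_eq_mul, Ideal.mul_top, ← map_sub]; exact hp1 (hmem h))
    obtain ⟨x', hx'⟩ := IsPrecomplete.prec (I := maximalIdeal S') inferInstance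
      (f := fun n => algebraMap _ S' (a n)) fun {m n} h => SModEq.sub_mem.mpr (by
        rw [smul_eq_mul, Ideal.mul_top, ← map_sub]; exact hp2 (hmem h))
    replace hx : ∀ n, algebraMap _ S (a n) - x ∈ maximalIdeal S ^ n := fun n => by
      have := SModEq.sub_mem.mp (hx n)
      rwa [smul_eq_mul, Ideal.mul_top] at this
    replace hx' : ∀ n, algebraMap _ S' (a n) - x' ∈ maximalIdeal S' ^ n := fun n => by
      have := SModEq.sub_mem.mp (hx' n)
      rwa [smul_eq_mul, Ideal.mul_top] at this
    have hxx : g x = g' x' := by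
      rw [← sub_eq_zero, ← Submodule.mem_bot (R := B), ← Ideal.iInf_pow_eq_bot_of_isLocalRing _
        (maximalIdeal.isMaximal B).ne_top, Submodule.mem_iInf]
      intro n
      have h1 := Ideal.mem_map_of_mem g (hx n)
      have h2 := Ideal.mem_map_of_mem g' (hx' n)
      rw [Ideal.map_pow, IsLocalRing.map_maximalIdeal_of_surjective _ hg, map_sub] at h1
      rw [Ideal.map_pow, IsLocalRing.map_maximalIdeal_of_surjective _ hg', map_sub] at h2
      have h3 : g (algebraMap _ S (a n)) = g' (algebraMap _ S' (a n)) := (a n).2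
      have := Ideal.sub_mem _ h2 h1
      rwa [h3, sub_sub_sub_cancel_left] at this
    refine ⟨⟨(x, x'), hxx⟩, fun n => SModEq.sub_mem.mpr ?_⟩
    rw [smul_eq_mul, Ideal.mul_top]
    set L : ↥(g.pullback g') := ⟨(x, x'), hxx⟩
    have key : ∀ (M : Type u) [AddCommGroup M] [Module ↥(g.pullback g') M] (φ : M →ₗ[↥(g.pullback g')] S × S')
        (z : M) (j : ℕ), z ∈ 𝔪 ^ j • (⊤ : Submodule ↥(g.pullback g') M) →
        φ z ∈ 𝔪 ^ j • (⊤ : Submodule ↥(g.pullback g') (S × S')) := by
      intro M _ _ φ z j hz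
      have h := Submodule.mem_map_of_mem (f := φ) hz
      rw [Submodule.map_smul''] at h
      exact Submodule.smul_mono le_rfl le_top h
    have hL : ι (a (n + c) - L) ∈ 𝔪 ^ (n + c) • (⊤ : Submodule ↥(g.pullback g') (S × S')) := by
      have h1 : ι (a (n + c) - L) = LinearMap.inl ↥(g.pullback g') S S' (algebraMap _ S (a (n + c)) - x) +
          LinearMap.inr ↥(g.pullback g') S S' (algebraMap _ S' (a (n + c)) - x') :=
        Prod.ext (by simp [ι, map_sub]; rfl) (by simp [ι, map_sub]; rfl)
      rw [h1]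
      refine Submodule.add_mem _ (key S _ _ _ ?_) (key S' _ _ _ ?_)
      · rw [Ideal.smul_top_eq_map, Submodule.restrictScalars_mem, Ideal.map_pow, e1]; exact hx _
      · rw [Ideal.smul_top_eq_map, Submodule.restrictScalars_mem, Ideal.map_pow, e2]; exact hx' _
    have h2 : ι (a (n + c) - L) ∈ 𝔪 ^ n • LinearMap.range ι := by
      have h := hc (n + c) (Nat.le_add_left c n)
      have hmem2 : ι (a (n + c) - L) ∈ 𝔪 ^ (n + c) • (⊤ : Submodule ↥(g.pullback g') (S × S')) ⊓ LinearMap.range ι :=
        ⟨hL, ⟨_, rfl⟩⟩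
      rw [h, Nat.add_sub_cancel] at hmem2
      exact Submodule.smul_mono le_rfl inf_le_right hmem2
    rw [LinearMap.range_eq_map, ← Submodule.map_smul'', Submodule.mem_map] at h2
    obtain ⟨w, hw, hwe⟩ := h2
    rw [hι hwe, smul_eq_mul, Ideal.mul_top] at hw
    rw [show a n - L = (a n - a (n + c)) + (a (n + c) - L) by ring]
    exact Ideal.add_mem _ (hmem (Nat.le_add_right n c)) hw
  exact { }

/-- The complete case. -/
theorem iff_complete {A B S S' : Type u} [CommRing A] [CommRing B] [CommRing S] [CommRing S']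
    [IsNoetherianRing A] [IsNoetherianRing B] [IsNoetherianRing S] [IsNoetherianRing S'] [IsLocalRing A]
    [IsLocalRing B] [IsLocalRing S] [IsLocalRing S'] [IsAdicComplete (maximalIdeal A) A]
    [IsAdicComplete (maximalIdeal S) S] [IsAdicComplete (maximalIdeal S') S'] [Algebra A S] [Algebra A S']
    [IsLocalHom (algebraMap A S)] [IsLocalHom (algebraMap A S')] [Module.Flat A S] [Module.Flat A S']
    [IsRegularLocalRing (S ⧸ (maximalIdeal A).map (algebraMap A S))]
    [IsRegularLocalRing (S' ⧸ (maximalIdeal A).map (algebraMap A S'))]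
    (g : S →+* B) (g' : S' →+* B) (hg : Function.Surjective g) (hg' : Function.Surjective g')
    (hA : g.comp (algebraMap A S) = g'.comp (algebraMap A S')) :
    (∃ rs : List S, Ideal.ofList rs = RingHom.ker g ∧ IsRegular S rs) ↔
      ∃ rs : List S', Ideal.ofList rs = RingHom.ker g' ∧ IsRegular S' rs := by
  have : IsLocalHom g' := IsLocalHom.of_surjective g' hg'
  have : IsLocalRing ↥(g.pullback g') := RingHom.isLocalRing_pullback g g'
  have : IsNoetherianRing ↥(g.pullback g') := Groth.Ega4b.isNoetherianRing_pullback g g' hg hg'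
  have := isAdicComplete_pullback g g' hg hg'
  let f : A →+* ↥(g.pullback g') :=
    ((algebraMap A S).prod (algebraMap A S')).codRestrict _ fun a => RingHom.congr_fun hA a
  have hf : IsLocalHom f := ⟨fun a ha => isUnit_of_map_unit (algebraMap A S) a (ha.map (g.pullbackFst g'))⟩
  obtain ⟨R, R', _, _, _, _, _, _, π, π', hflat, hπ, hπ', hcomm, hregF⟩ :=
    Groth.FrobLCI.Avramov.exists_presentation f
  set I := RingHom.ker π with hI
  set I' := I.map (algebraMap R R') with hI'
  have hI'J : I' ≤ RingHom.ker π' := Ideal.map_le_iff_le_comap.mpr fun x hx => by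
    rw [Ideal.mem_comap, RingHom.mem_ker, ← RingHom.comp_apply, hcomm, RingHom.comp_apply,
      RingHom.mem_ker.mp hx, map_zero]
  have hItop : I ≠ ⊤ := RingHom.ker_ne_top π
  have hI'top : I' ≠ ⊤ := ne_top_of_le_ne_top (RingHom.ker_ne_top π') hI'J
  have : IsLocalRing (R' ⧸ I') :=
    have : Nontrivial (R' ⧸ I') := Ideal.Quotient.nontrivial_iff.mpr hI'top
    IsLocalRing.of_surjective' (Ideal.Quotient.mk I') Ideal.Quotient.mk_surjective
  let ψ : A →+* R' ⧸ I' :=
    (Ideal.quotientMap I' (algebraMap R R') Ideal.le_comap_map).comp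
      (RingHom.quotientKerEquivOfSurjective hπ).symm.toRingHom
  have hψ : ∀ r, ψ (π r) = Ideal.Quotient.mk I' (algebraMap R R' r) := fun r => by
    simp only [ψ, RingHom.comp_apply, RingEquiv.toRingHom_eq_coe, RingEquiv.coe_toRingHom]
    rw [show (RingHom.quotientKerEquivOfSurjective hπ).symm (π r) = Ideal.Quotient.mk I r from
      (RingEquiv.symm_apply_eq _).mpr rfl]
    rfl
  letI algS : Algebra A (R' ⧸ I') := ψ.toAlgebra
  have hlocπ : IsLocalHom π := IsLocalHom.of_surjective π hπ
  have hmA : (maximalIdeal A).map (algebraMap A (R' ⧸ I')) =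
      ((maximalIdeal R).map (algebraMap R R')).map (Ideal.Quotient.mk I') := by
    rw [← IsLocalRing.map_maximalIdeal_of_surjective π hπ, Ideal.map_map, Ideal.map_map,
      RingHom.algebraMap_toAlgebra ψ]
    exact congrArg (fun g => (maximalIdeal R).map g) (RingHom.ext hψ)
  have hlocS : IsLocalHom (algebraMap A (R' ⧸ I')) := by
    refine ((IsLocalRing.local_hom_TFAE (algebraMap A (R' ⧸ I'))).out 2 0).mp ?_
    rw [hmA]
    refine (Ideal.map_mono (IsLocalRing.map_maximalIdeal_le _)).trans ?_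
    exact (IsLocalRing.map_maximalIdeal_of_surjective _ Ideal.Quotient.mk_surjective).le
  have hflatS : Module.Flat A (R' ⧸ I') := by
    have := Groth.Ega4b.flat_quotient_map (R := R) (S := R') I
    let σ := RingHom.quotientKerEquivOfSurjective hπ
    exact Groth.Ega4b.flat_of_semilinear σ (AddEquiv.refl (R' ⧸ I')) fun r x => by
      obtain ⟨r, rfl⟩ := Ideal.Quotient.mk_surjective r
      obtain ⟨x, rfl⟩ := Ideal.Quotient.mk_surjective x
      show Ideal.Quotient.mk I r • Ideal.Quotient.mk I' x = ψ (π r) * Ideal.Quotient.mk I' x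
      rw [hψ, Algebra.smul_def, Ideal.Quotient.algebraMap_quotient_map_quotient]
  have hle : I' ≤ (maximalIdeal R).map (algebraMap R R') := Ideal.map_mono (IsLocalRing.le_maximalIdeal hItop)
  let eF : ((R' ⧸ I') ⧸ (maximalIdeal A).map (algebraMap A (R' ⧸ I'))) ≃+*
      R' ⧸ (maximalIdeal R).map (algebraMap R R') :=
    (Ideal.quotEquivOfEq hmA).trans (DoubleQuot.quotQuotEquivQuotOfLE hle)
  have hregS : IsRegularLocalRing ((R' ⧸ I') ⧸ (maximalIdeal A).map (algebraMap A (R' ⧸ I'))) :=
    IsRegularLocalRing.of_ringEquiv eF.symm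
  let ρ : (R' ⧸ I') →+* ↥(g.pullback g') := Ideal.Quotient.lift I' π' fun x hx => hI'J hx
  have hρ : Function.Surjective ρ := fun y => by
    obtain ⟨x, rfl⟩ := hπ' y; exact ⟨Ideal.Quotient.mk I' x, rfl⟩
  have hρA : ∀ a, ρ (algebraMap A (R' ⧸ I') a) = f a := fun a => by
    obtain ⟨r, rfl⟩ := hπ a
    rw [RingHom.algebraMap_toAlgebra ψ, hψ, ← RingHom.comp_apply f, ← hcomm]
    rfl
  let σ : (R' ⧸ I') →ₐ[A] S := AlgHom.mk ((g.pullbackFst g').comp ρ) fun a => by
    show (g.pullbackFst g') (ρ (algebraMap A (R' ⧸ I') a)) = _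
    rw [hρA]; rfl
  let σ' : (R' ⧸ I') →ₐ[A] S' := AlgHom.mk ((g.pullbackSnd g').comp ρ) fun a => by
    show (g.pullbackSnd g') (ρ (algebraMap A (R' ⧸ I') a)) = _
    rw [hρA]; rfl
  rw [← iff_comap σ ((RingHom.surjective_pullbackFst_of_surjective g g' hg').comp hρ) _ (RingHom.ker_ne_top g),
    ← iff_comap σ' ((RingHom.surjective_pullbackSnd_of_surjective g g' hg).comp hρ) _ (RingHom.ker_ne_top g')]
  have : (RingHom.ker g).comap σ = (RingHom.ker g').comap σ' := by
    ext x
    rw [Ideal.mem_comap, Ideal.mem_comap, RingHom.mem_ker, RingHom.mem_ker]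
    exact Eq.congr (show g (σ x) = g' (σ' x) from (ρ x).2) rfl
  rw [this]

/-- Passage to the completion of the middle ring of a factorization. -/
theorem exists_completed {A B S : Type u} [CommRing A] [CommRing B] [CommRing S] [IsNoetherianRing A]
    [IsNoetherianRing B] [IsNoetherianRing S] [IsLocalRing A] [IsLocalRing B] [IsLocalRing S]
    [IsAdicComplete (maximalIdeal B) B] [Algebra A S] [IsLocalHom (algebraMap A S)] [Module.Flat A S]
    [IsRegularLocalRing (S ⧸ (maximalIdeal A).map (algebraMap A S))]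
    (g : S →+* B) (hg : Function.Surjective g) :
    ∃ (C : Type u) (_ : CommRing C) (_ : IsNoetherianRing C) (_ : IsLocalRing C)
      (_ : IsAdicComplete (maximalIdeal C) C) (_ : Algebra A C) (_ : IsLocalHom (algebraMap A C))
      (_ : Module.Flat A C) (_ : IsRegularLocalRing (C ⧸ (maximalIdeal A).map (algebraMap A C)))
      (g₁ : C →+* B), Function.Surjective g₁ ∧ g₁.comp (algebraMap A C) = g.comp (algebraMap A S) ∧
      ((∃ rs : List S, Ideal.ofList rs = RingHom.ker g ∧ IsRegular S rs) ↔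
        ∃ rs : List C, Ideal.ofList rs = RingHom.ker g₁ ∧ IsRegular C rs) := by
  have := Groth.Ega4b.isNoetherianRing_cpl S
  have := Groth.Ega4Algebra1.isLocalRing_cpl_complete S
  set J := RingHom.ker g with hJ
  have : Nontrivial (S ⧸ J) := Ideal.Quotient.nontrivial_iff.mpr (RingHom.ker_ne_top g)
  have : IsLocalRing (S ⧸ J) := IsLocalRing.of_surjective' (Ideal.Quotient.mk J) Ideal.Quotient.mk_surjective
  let eB : (S ⧸ J) ≃+* B := RingHom.quotientKerEquivOfSurjective hg
  have : IsAdicComplete (maximalIdeal (S ⧸ J)) (S ⧸ J) :=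
    Groth.ArtfunDeform.isAdicComplete_of_surjective eB.symm.toRingHom eB.symm.surjective
  let eC : EGA4.Cpl (S ⧸ J) ≃+* B := (AdicCompletion.ofAlgEquiv (maximalIdeal (S ⧸ J))).symm.toRingEquiv.trans eB
  let g₁ : EGA4.Cpl S →+* B := eC.toRingHom.comp (Groth.Ega4b.cplQuot S J)
  have hg₁ : Function.Surjective g₁ := eC.surjective.comp (Groth.Ega4b.cplQuot_surjective S J)
  have hker : RingHom.ker g₁ = J.map (algebraMap S (EGA4.Cpl S)) := by
    show RingHom.ker (eC.toRingHom.comp (Groth.Ega4b.cplQuot S J)) = _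
    rw [RingHom.ker_comp_of_injective _ eC.injective, Groth.Ega4b.ker_cplQuot]
  have hcomp : ∀ s, g₁ (algebraMap S (EGA4.Cpl S) s) = g s := fun s => by
    show eB ((AdicCompletion.ofAlgEquiv (maximalIdeal (S ⧸ J))).symm (Groth.Ega4b.cplQuot S J _)) = _
    rw [Groth.Ega4b.cplQuot_algebraMap, AlgEquiv.commutes]
    rfl
  have : IsLocalHom (algebraMap S (EGA4.Cpl S)) := inferInstance
  have hflat : Module.Flat A (EGA4.Cpl S) := Module.Flat.trans A S (EGA4.Cpl S)
  have hloc : IsLocalHom (algebraMap A (EGA4.Cpl S)) := by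
    rw [IsScalarTower.algebraMap_eq A S (EGA4.Cpl S)]
    infer_instance
  have hreg : IsRegularLocalRing (EGA4.Cpl S ⧸ (maximalIdeal A).map (algebraMap A (EGA4.Cpl S))) := by
    set P := (maximalIdeal A).map (algebraMap A S)
    have hP : P ≠ ⊤ := ne_top_of_le_ne_top (maximalIdeal.isMaximal S).ne_top (IsLocalRing.map_maximalIdeal_le _)
    have : Nontrivial (S ⧸ P) := Ideal.Quotient.nontrivial_iff.mpr hP
    have : IsRegularLocalRing (EGA4.Cpl (S ⧸ P)) :=
      (Groth.Calg1.isRegularLocalRing_adicCompletion_iff (S ⧸ P)).mp inferInstance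
    exact IsRegularLocalRing.of_ringEquiv ((Ideal.quotEquivOfEq (by
      rw [Groth.Ega4b.ker_cplQuot, IsScalarTower.algebraMap_eq A S (EGA4.Cpl S), ← Ideal.map_map])).trans
      (RingHom.quotientKerEquivOfSurjective (Groth.Ega4b.cplQuot_surjective S P))).symm
  refine ⟨EGA4.Cpl S, inferInstance, inferInstance, inferInstance, inferInstance, inferInstance, hloc, hflat, hreg,
    g₁, hg₁, ?_, ?_⟩
  · refine RingHom.ext fun a => ?_
    rw [RingHom.comp_apply, RingHom.comp_apply, IsScalarTower.algebraMap_apply A S (EGA4.Cpl S)]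
    exact hcomp _
  · rw [hker]
    constructor
    · rintro ⟨rs, hrs, hreg⟩
      have : Module.FaithfullyFlat S (EGA4.Cpl S) := Module.FaithfullyFlat.of_flat_of_isLocalHom
      exact ⟨rs.map (algebraMap S (EGA4.Cpl S)), by rw [← Ideal.map_ofList, hrs], hreg.of_faithfullyFlat⟩
    · exact fun h => Groth.FrobLCI.Avramov.exists_regular_of_map S (EGA4.Cpl S) J (RingHom.ker_ne_top g) h

/-- Independence of the factorization. -/
theorem iff_of_factorizations {A B S S' : Type u} [CommRing A] [CommRing B] [CommRing S] [CommRing S']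
    [IsNoetherianRing A] [IsNoetherianRing B] [IsNoetherianRing S] [IsNoetherianRing S'] [IsLocalRing A]
    [IsLocalRing B] [IsLocalRing S] [IsLocalRing S'] [IsAdicComplete (maximalIdeal A) A]
    [IsAdicComplete (maximalIdeal B) B] [Algebra A S] [Algebra A S']
    [IsLocalHom (algebraMap A S)] [IsLocalHom (algebraMap A S')] [Module.Flat A S] [Module.Flat A S']
    [IsRegularLocalRing (S ⧸ (maximalIdeal A).map (algebraMap A S))]
    [IsRegularLocalRing (S' ⧸ (maximalIdeal A).map (algebraMap A S'))]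
    (g : S →+* B) (g' : S' →+* B) (hg : Function.Surjective g) (hg' : Function.Surjective g')
    (hA : g.comp (algebraMap A S) = g'.comp (algebraMap A S')) :
    (∃ rs : List S, Ideal.ofList rs = RingHom.ker g ∧ IsRegular S rs) ↔
      ∃ rs : List S', Ideal.ofList rs = RingHom.ker g' ∧ IsRegular S' rs := by
  obtain ⟨C, _, _, _, _, _, _, _, _, g₁, hg₁, hc₁, h₁⟩ := exists_completed (A := A) g hg
  obtain ⟨C', _, _, _, _, _, _, _, _, g₁', hg₁', hc₁', h₁'⟩ := exists_completed (A := A) g' hg'
  rw [h₁, h₁']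
  exact iff_complete g₁ g₁' hg₁ hg₁' (hc₁.trans (hA.trans hc₁'.symm))

end Groth.Calg7.LCIIndep
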