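import Mathlib

/-! Laurent series over a general ring: coefficientwise statements modulo ideals. -/

namespace Groth.Calg7.Laurent

open Finset

universe u

variable {R : Type u} [CommRing R]

/-- All coefficients of `x` lie in `I`. -/
def AllIn (I : Ideal R) (x : LaurentSeries R) : Prop := ∀ i, x.coeff i ∈ I

theorem allIn_mul {I J : Ideal R} {x y : LaurentSeries R} (hx : AllIn I x) (hy : AllIn J y) :
    AllIn (I * J) (x * y) := fun i => by
  rw [HahnSeries.coeff_mul]
  exact Ideal.sum_mem _ fun ij _ => Ideal.mul_mem_mul (hx _) (hy _)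

/-- The first index whose coefficient avoids an ideal. -/
theorem exists_first {I : Ideal R} {x : LaurentSeries R} (h : ¬ AllIn I x) :
    ∃ n, x.coeff n ∉ I ∧ ∀ i < n, x.coeff i ∈ I := by
  classical
  have hne : {i : ℤ | x.coeff i ∉ I}.Nonempty := by
    by_contra h'
    exact h fun i => by_contra fun hi => h' ⟨i, hi⟩
  have hwf : ({i : ℤ | x.coeff i ∉ I}).IsWF :=
    x.isPWO_support.isWF.mono fun i hi => by
      rw [HahnSeries.mem_support]; intro h0; exact hi (by rw [h0]; exact zero_mem I)
  refine ⟨hwf.min hne, hwf.min_mem hne, fun i hi => by_contra fun hni => hwf.not_lt_min hne hni hi⟩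

theorem coeff_mul_first {I : Ideal R} {x y : LaurentSeries R} {n m : ℤ}
    (hx : ∀ i < n, x.coeff i ∈ I) (hy : ∀ i < m, y.coeff i ∈ I) :
    (x * y).coeff (n + m) - x.coeff n * y.coeff m ∈ I := by
  classical
  rw [HahnSeries.coeff_mul]
  set s := Finset.antidiagonal x.isPWO_support y.isPWO_support (n + m)
  have hrest : ∀ ij ∈ s.erase (n, m), x.coeff ij.1 * y.coeff ij.2 ∈ I := by
    rintro ⟨i, j⟩ hij
    obtain ⟨hne, hmem⟩ := Finset.mem_erase.1 hij
    have hsum : i + j = n + m := (Finset.mem_addAntidiagonal.1 hmem).2.2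
    rcases lt_trichotomy i n with h | h | h
    · exact I.mul_mem_right _ (hx i h)
    · exact absurd (Prod.ext h (by omega : j = m)) hne
    · exact I.mul_mem_left _ (hy j (by omega))
  by_cases hmem : (n, m) ∈ s
  · rw [← Finset.add_sum_erase _ _ hmem, add_sub_cancel_left]
    exact Ideal.sum_mem _ hrest
  · have h0 : x.coeff n * y.coeff m = 0 := by
      by_contra h0
      refine hmem (Finset.mem_addAntidiagonal.2 ⟨?_, ?_, rfl⟩)
      · exact fun h => h0 (by rw [h, zero_mul])
      · exact fun h => h0 (by rw [h, mul_zero])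
    rw [h0, sub_zero]
    exact Ideal.sum_mem _ fun ij hij => hrest ij (Finset.mem_erase.2 ⟨fun h => hmem (h ▸ hij), hij⟩)

/-- Vanishing of a product modulo a prime. -/
theorem allIn_or {p : Ideal R} [hp : p.IsPrime] {x y : LaurentSeries R} (h : AllIn p (x * y)) :
    AllIn p x ∨ AllIn p y := by
  by_contra hcon
  push Not at hcon
  obtain ⟨n, hn, hn'⟩ := exists_first hcon.1
  obtain ⟨m, hm, hm'⟩ := exists_first hcon.2
  have h2 := sub_mem (h (n + m)) (coeff_mul_first hn' hm')
  rw [sub_sub_cancel] at h2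
  exact (hp.mem_or_mem h2).elim hn hm

theorem mem_nilradical_of_forall {x : R} (h : ∀ p : Ideal R, p.IsPrime → x ∈ p) : IsNilpotent x := by
  rw [nilpotent_iff_mem_prime]; exact h

end Groth.Calg7.Laurent
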