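/-
The logarithmic de Rham complex of affine space in characteristic `p`: Euler Lie derivatives.
-/
import Groth.Prelude.Def_LogDiff
import Groth.Prelude.Def_DeRham
import Groth.Agent.DR.Contract
import Mathlib.LinearAlgebra.ExteriorPower.Basis
import Mathlib.RingTheory.Kaehler.Polynomial
import Mathlib.Algebra.MvPolynomial.Expand
import Mathlib.Algebra.CharP.Lemmas
import Mathlib.FieldTheory.Finite.Basic

noncomputable section

open MvPolynomial exteriorPower Groth.DR

universe u

namespace Groth.Calg7.LogDR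

variable {R : Type u} [CommRing R] {n r : ℕ} {L : Type u} [AddCommGroup L]
  [Module (MvPolynomial (Fin n) R) L]


/-- the frame -/
def vec (ι : Ω[(MvPolynomial (Fin n) R)⁄R] →ₗ[(MvPolynomial (Fin n) R)] L) (dl : Fin r → L) (ν : Fin n) : L :=
  if h : (ν : ℕ) < r then dl ⟨ν, h⟩ else ι ((KaehlerDifferential.D R (MvPolynomial (Fin n) R)) (X ν))

/-- `κ ν • vec ν = ι ((KaehlerDifferential.D R (MvPolynomial (Fin n) R)) ν)` -/
def kap (r : ℕ) (ν : Fin n) : (MvPolynomial (Fin n) R) := if (ν : ℕ) < r then X ν else 1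

/-- the coordinate multiplier of the Euler field -/
def mul' (r : ℕ) (ν : Fin n) : (MvPolynomial (Fin n) R) := if (ν : ℕ) < r then 1 else X ν

theorem kap_mul (r : ℕ) (ν : Fin n) : kap (R := R) r ν * mul' r ν = X ν := by
  unfold kap mul'; split_ifs <;> simp

theorem span_D_X : Submodule.span (MvPolynomial (Fin n) R) (Set.range fun i : Fin n => (KaehlerDifferential.D R (MvPolynomial (Fin n) R)) (X i)) = ⊤ := by
  have : (fun i : Fin n => (KaehlerDifferential.D R (MvPolynomial (Fin n) R)) (X i)) = KaehlerDifferential.mvPolynomialBasis R (Fin n) :=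
    funext fun i => (KaehlerDifferential.mvPolynomialBasis R (Fin n)).repr.injective
      (by rw [KaehlerDifferential.mvPolynomialBasis_repr_D_X, Module.Basis.repr_self])
  rw [this, Module.Basis.span_eq]

variable (hr : r ≤ n) (ι : Ω[(MvPolynomial (Fin n) R)⁄R] →ₗ[(MvPolynomial (Fin n) R)] L) (dl : Fin r → L)
  (hL : LogDiff.IsLog (KaehlerDifferential.D R (MvPolynomial (Fin n) R)) (fun i : Fin r => (X (Fin.castLE hr i) : (MvPolynomial (Fin n) R))) ι dl)

include hr hL

theorem kap_smul_vec (ν : Fin n) : kap (R := R) r ν • vec ι dl ν = ι ((KaehlerDifferential.D R (MvPolynomial (Fin n) R)) (X ν)) := by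
  unfold kap vec
  split_ifs with h
  · exact hL.1 ⟨ν, h⟩
  · rw [one_smul]

theorem span_vec : Submodule.span (MvPolynomial (Fin n) R) (Set.range (vec ι dl)) = ⊤ := by
  refine eq_top_iff.2 (hL.2.1 ▸ Submodule.span_le.2 ?_)
  rintro x (⟨ω, rfl⟩ | ⟨i, rfl⟩)
  · have hω : ω ∈ Submodule.span (MvPolynomial (Fin n) R) (Set.range fun i : Fin n => (KaehlerDifferential.D R (MvPolynomial (Fin n) R)) (X i)) := by rw [span_D_X]; trivial
    induction hω using Submodule.span_induction with
    | mem y hy =>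
      obtain ⟨i, rfl⟩ := hy
      rw [← kap_smul_vec hr ι dl hL i]
      exact Submodule.smul_mem _ _ (Submodule.subset_span (Set.mem_range_self i))
    | zero => rw [map_zero]; exact zero_mem _
    | add a b _ _ ha hb => rw [map_add]; exact add_mem ha hb
    | smul c a _ ha => rw [map_smul]; exact Submodule.smul_mem _ c ha
  · exact Submodule.subset_span ⟨Fin.castLE hr i, by simp [vec]⟩

theorem li_vec : LinearIndependent (MvPolynomial (Fin n) R) (vec ι dl) := by
  classical
  refine Fintype.linearIndependent_iff.2 fun g hg => ?_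
  let P : (MvPolynomial (Fin n) R) := ∏ i : Fin r, X (Fin.castLE hr i)
  have hq : ∀ ν : Fin n, ∃ q : (MvPolynomial (Fin n) R), q * kap r ν = P ∧ P • vec ι dl ν = ι (q • (KaehlerDifferential.D R (MvPolynomial (Fin n) R)) (X ν)) := by
    intro ν
    unfold kap vec
    split_ifs with h
    · refine ⟨∏ i ∈ Finset.univ.erase (⟨ν, h⟩ : Fin r), X (Fin.castLE hr i), ?_, ?_⟩
      · exact Finset.prod_erase_mul (Finset.univ : Finset (Fin r))
          (fun i => (X (Fin.castLE hr i) : (MvPolynomial (Fin n) R))) (Finset.mem_univ (⟨ν, h⟩ : Fin r))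
      · rw [map_smul, show P = _ from (Finset.prod_erase_mul (Finset.univ : Finset (Fin r))
          (fun i => (X (Fin.castLE hr i) : (MvPolynomial (Fin n) R))) (Finset.mem_univ (⟨ν, h⟩ : Fin r))).symm, mul_smul, hL.1]
        rfl
    · exact ⟨P, mul_one P, (map_smul ι P _).symm⟩
  choose q hq1 hq2 using hq
  have h0 : ι (∑ ν, (g ν * q ν) • (KaehlerDifferential.D R (MvPolynomial (Fin n) R)) (X ν)) = 0 := by
    rw [map_sum, ← smul_zero P, ← hg, Finset.smul_sum]
    refine Finset.sum_congr rfl fun ν _ => ?_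
    rw [mul_smul, map_smul, ← hq2, smul_comm]
  obtain ⟨k, hk⟩ := (hL.2.2.2 _).1 h0
  intro ν
  have h1 := congrArg (fun ω => (KaehlerDifferential.mvPolynomialBasis R (Fin n)).repr ω ν) hk
  simp only [Finset.smul_sum, map_sum, map_smul, KaehlerDifferential.mvPolynomialBasis_repr_D_X,
    Finsupp.coe_finsetSum, Finset.sum_apply, Finsupp.smul_apply, Finsupp.single_apply, smul_eq_mul,
    mul_ite, mul_one, mul_zero, Finset.sum_ite_eq', Finset.mem_univ, if_true, map_zero, Finsupp.coe_zero,
    Pi.zero_apply] at h1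
  have hP : IsRegular P := IsRegular.prod fun i _ => isRegular_X
  have h2 : P ^ k * P * g ν = 0 := by
    conv_lhs => arg 1; arg 2; rw [← hq1 ν]
    linear_combination kap r ν * h1
  exact ((hP.pow k).mul hP).left (h2.trans (mul_zero _).symm)

/-- the basis of the frame -/
def vecBasis : Module.Basis (Fin n) (MvPolynomial (Fin n) R) L :=
  Module.Basis.mk (li_vec hr ι dl hL) (span_vec hr ι dl hL).ge

theorem vecBasis_apply (ν : Fin n) : vecBasis hr ι dl hL ν = vec ι dl ν :=
  Module.Basis.mk_apply _ _ ν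

omit hr hL in
/-- wedge of a tuple of frame vectors -/
def tup {q : ℕ} (g : Fin q → Fin n) : ↥(⋀[(MvPolynomial (Fin n) R)]^q L) := ιMulti (MvPolynomial (Fin n) R) q (fun j => vec ι dl (g j))

theorem tup_induction {q : ℕ} {P : ↥(⋀[(MvPolynomial (Fin n) R)]^q L) → Prop} (h0 : P 0) (hadd : ∀ x y, P x → P y → P (x + y))
    (hmon : ∀ (m : Fin n →₀ ℕ) (c : R) (S : Set.powersetCard (Fin n) q),
      P (monomial m c • tup ι dl (S.1.orderEmbOfFin S.2))) (x : ↥(⋀[(MvPolynomial (Fin n) R)]^q L)) : P x := by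
  classical
  let b := (vecBasis hr ι dl hL).exteriorPower q
  have hb : ∀ S, b S = tup ι dl (S.1.orderEmbOfFin S.2) := fun S => by
    rw [exteriorPower.basis_apply]
    exact congrArg (ιMulti (MvPolynomial (Fin n) R) q) (funext fun j => vecBasis_apply hr ι dl hL _)
  rw [← b.sum_repr x]
  refine Finset.sum_induction _ P hadd h0 fun S _ => ?_
  rw [hb]
  induction b.repr x S using MvPolynomial.induction_on' with
  | monomial m c => exact hmon m c S
  | add f f' hf hf' => rw [add_smul]; exact hadd _ _ hf hf'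

/-- the Euler functional -/
def theta (ν : Fin n) : L →ₗ[(MvPolynomial (Fin n) R)] (MvPolynomial (Fin n) R) := mul' (R := R) r ν • (vecBasis hr ι dl hL).coord ν

theorem theta_vec (ν j : Fin n) :
    theta hr ι dl hL ν (vec ι dl j) = if j = ν then mul' r ν else 0 := by
  classical
  rw [← vecBasis_apply hr ι dl hL]
  simp [theta, Finsupp.single_apply]

theorem theta_D (ν : Fin n) (f : (MvPolynomial (Fin n) R)) : theta hr ι dl hL ν (ι ((KaehlerDifferential.D R (MvPolynomial (Fin n) R)) f)) = X ν * pderiv ν f := by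
  classical
  have h : ((theta hr ι dl hL ν).comp ι).compDer (KaehlerDifferential.D R (MvPolynomial (Fin n) R)) = (X ν : (MvPolynomial (Fin n) R)) • pderiv ν := by
    refine derivation_ext fun i => ?_
    change theta hr ι dl hL ν (ι ((KaehlerDifferential.D R (MvPolynomial (Fin n) R)) (X i))) = X ν * pderiv ν (X i)
    rw [← kap_smul_vec hr ι dl hL i, map_smul, theta_vec, pderiv_X, smul_eq_mul]
    rcases eq_or_ne i ν with rfl | hne
    · rw [if_pos rfl, kap_mul, Pi.single_eq_same, mul_one]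
    · rw [if_neg hne, Pi.single_eq_of_ne hne, mul_zero, mul_zero]
  exact Derivation.congr_fun h f

variable [Module R L] [IsScalarTower R (MvPolynomial (Fin n) R) L]
  (d : ∀ q : ℕ, ↥(⋀[(MvPolynomial (Fin n) R)]^q L) →ₗ[R] ↥(⋀[(MvPolynomial (Fin n) R)]^(q + 1) L))
  (hlog : LogDiff.IsLogRule (KaehlerDifferential.D R (MvPolynomial (Fin n) R)) ι dl d)

include hlog

theorem d_smul_tup {q : ℕ} (f : (MvPolynomial (Fin n) R)) (g : Fin q → Fin n) :
    d q (f • tup ι dl g) = wedgeL (ι ((KaehlerDifferential.D R (MvPolynomial (Fin n) R)) f)) q (tup ι dl g) := by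
  rw [tup, wedgeL_ιMulti]
  refine hlog q f _ fun k => ?_
  unfold vec
  split_ifs with h
  · exact Or.inr ⟨_, rfl⟩
  · exact Or.inl ⟨_, rfl⟩

theorem d_tup {q : ℕ} (g : Fin q → Fin n) : d q (tup ι dl g) = 0 := by
  have := d_smul_tup hr ι dl hL d hlog 1 g
  rwa [one_smul, Derivation.map_one_eq_zero, map_zero, wedgeL_zero] at this

theorem d_smul_form {q : ℕ} (f : (MvPolynomial (Fin n) R)) (x : ↥(⋀[(MvPolynomial (Fin n) R)]^q L)) :
    d q (f • x) = wedgeL (ι ((KaehlerDifferential.D R (MvPolynomial (Fin n) R)) f)) q x + f • d q x := by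
  refine tup_induction hr ι dl hL (P := fun x => d q (f • x) = wedgeL (ι ((KaehlerDifferential.D R (MvPolynomial (Fin n) R)) f)) q x + f • d q x)
    (by simp) (fun x y hx hy => ?_) (fun m c S => ?_) x
  · rw [smul_add, map_add, hx, hy, map_add, map_add, smul_add]; abel
  · rw [smul_smul, d_smul_tup hr ι dl hL d hlog, d_smul_tup hr ι dl hL d hlog, Derivation.leibniz,
      map_add, wedgeL_add, map_smul, map_smul, wedgeL_smul, wedgeL_smul, map_smul]
    abel

theorem d_wedge_vec {q : ℕ} (ν : Fin n) (x : ↥(⋀[(MvPolynomial (Fin n) R)]^q L)) :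
    d (q + 1) (wedgeL (vec ι dl ν) q x) = -wedgeL (vec ι dl ν) (q + 1) (d q x) := by
  refine tup_induction hr ι dl hL
    (P := fun x => d (q + 1) (wedgeL (vec ι dl ν) q x) = -wedgeL (vec ι dl ν) (q + 1) (d q x))
    (by simp) (fun x y hx hy => by simp only [map_add, hx, hy, neg_add]) (fun m c S => ?_) x
  have hc : wedgeL (vec ι dl ν) q (tup ι dl (S.1.orderEmbOfFin S.2)) =
      tup ι dl (Fin.cons ν (S.1.orderEmbOfFin S.2)) := by
    rw [tup, wedgeL_ιMulti, tup]
    refine congrArg (ιMulti (MvPolynomial (Fin n) R) (q + 1)) (funext fun j => ?_)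
    refine Fin.cases ?_ (fun i => ?_) j <;> simp
  rw [map_smul, hc, d_smul_tup hr ι dl hL d hlog, d_smul_tup hr ι dl hL d hlog, ← hc, wedgeL_wedgeL]

omit hr hL hlog in
/-- the weight of a tuple -/
def wt (r : ℕ) {q : ℕ} (g : Fin q → Fin n) (ν : Fin n) : ℕ :=
  ∑ j, if g j = ν ∧ r ≤ (ν : ℕ) then 1 else 0

theorem d_contr_tup (ν : Fin n) : ∀ {q : ℕ} (g : Fin (q + 1) → Fin n),
    d q (contr (theta hr ι dl hL ν) q (tup ι dl g)) = (wt r g ν : (MvPolynomial (Fin n) R)) • tup ι dl g := by
  classical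
  have base : ∀ {q : ℕ} (i : Fin n) (x : ↥(⋀[(MvPolynomial (Fin n) R)]^q L)), d q x = 0 →
      d q (theta hr ι dl hL ν (vec ι dl i) • x) =
        (((if i = ν ∧ r ≤ (ν : ℕ) then 1 else 0 : ℕ) : (MvPolynomial (Fin n) R))) • wedgeL (vec ι dl i) q x := by
    intro q i x hx
    rw [d_smul_form hr ι dl hL d hlog, hx, smul_zero, add_zero, theta_vec]
    by_cases h : i = ν
    · subst h
      by_cases h' : (i : ℕ) < r
      · simp [mul', h', not_le.2 h', wedgeL_zero]
      · simp [mul', h', not_lt.1 h', vec]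
    · simp [h, wedgeL_zero]
  intro q
  induction q with
  | zero =>
    intro g
    have h1 : tup ι dl g = wedgeL (vec ι dl (g 0)) 0 (tup ι dl Fin.elim0) := by
      rw [tup, tup, wedgeL_ιMulti]
      exact congrArg (ιMulti (MvPolynomial (Fin n) R) 1) (funext fun j => by fin_cases j; rfl)
    have h2 : (ιMulti (MvPolynomial (Fin n) R) 0 (Fin.elim0 : Fin 0 → L)) = tup ι dl Fin.elim0 :=
      congrArg (ιMulti (MvPolynomial (Fin n) R) 0) (funext fun j => j.elim0)
    rw [wt, Fin.sum_univ_one]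
    conv_lhs => rw [tup, contr_ιMulti_one, h2]
    rw [base (g 0) _ (d_tup hr ι dl hL d hlog _), h1]
  | succ q ih =>
    intro g
    have h1 : tup ι dl g = wedgeL (vec ι dl (g 0)) (q + 1) (tup ι dl (Fin.tail g)) := by
      rw [tup, tup, wedgeL_ιMulti]
      exact congrArg (ιMulti (MvPolynomial (Fin n) R) (q + 2)) (funext fun j => by refine Fin.cases ?_ (fun i => ?_) j <;> rfl)
    rw [h1, contr_wedgeL, map_sub, base (g 0) _ (d_tup hr ι dl hL d hlog _),
      d_wedge_vec hr ι dl hL d hlog, sub_neg_eq_add, ih, map_smul, ← add_smul, ← Nat.cast_add]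
    congr 2
    conv_rhs => rw [wt, Fin.sum_univ_succ]
    rfl

omit hlog in
/-- Lie derivative along the Euler field -/
def lieE (ν : Fin n) : ∀ q : ℕ, ↥(⋀[(MvPolynomial (Fin n) R)]^q L) →ₗ[R] ↥(⋀[(MvPolynomial (Fin n) R)]^q L)
  | 0 => (contr (theta hr ι dl hL ν) 0).restrictScalars R ∘ₗ d 0
  | q + 1 => lie d (theta hr ι dl hL ν) q

theorem lieE_tup (ν : Fin n) : ∀ {q : ℕ} (f : (MvPolynomial (Fin n) R)) (g : Fin q → Fin n),
    lieE hr ι dl hL d ν q (f • tup ι dl g) = (X ν * pderiv ν f + (wt r g ν : (MvPolynomial (Fin n) R)) * f) • tup ι dl g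
  | 0, f, g => by
    change contr _ 0 (d 0 (f • tup ι dl g)) = _
    rw [d_smul_tup hr ι dl hL d hlog, tup, wedgeL_ιMulti, contr_ιMulti_one, Fin.cons_zero, theta_D]
    simp only [wt, Finset.univ_eq_empty, Finset.sum_empty, Nat.cast_zero, zero_mul, add_zero]
    congr 2
    exact funext fun j => j.elim0
  | q + 1, f, g => by
    change lie d _ q _ = _
    rw [lie_apply, map_smul, d_smul_form hr ι dl hL d hlog, d_smul_tup hr ι dl hL d hlog, contr_wedgeL,
      theta_D, d_contr_tup hr ι dl hL d hlog, smul_smul, add_smul, mul_comm f]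
    abel

theorem lieE_monomial (ν : Fin n) {q : ℕ} (m : Fin n →₀ ℕ) (c : R) (g : Fin q → Fin n) :
    lieE hr ι dl hL d ν q (monomial m c • tup ι dl g) =
      ((m ν + wt r g ν : ℕ) : R) • (monomial m c • tup ι dl g) := by
  rw [lieE_tup hr ι dl hL d hlog, X_mul_pderiv_monomial, Nat.cast_smul_eq_nsmul, ← smul_assoc]
  congr 1
  rw [add_smul, nsmul_eq_mul (wt r g ν)]

theorem lieE_comm (hd2 : ∀ q, d (q + 1) ∘ₗ d q = 0) (ν : Fin n) : ∀ q (x : ↥(⋀[(MvPolynomial (Fin n) R)]^q L)),
    lieE hr ι dl hL d ν (q + 1) (d q x) = d q (lieE hr ι dl hL d ν q x) := by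
  have h : ∀ q y, d (q + 1) (d q y) = 0 := fun q y => LinearMap.congr_fun (hd2 q) y
  intro q x
  cases q with
  | zero =>
    change lie d _ 0 (d 0 x) = d 0 (contr _ 0 (d 0 x))
    rw [lie_apply, h, map_zero, add_zero]
  | succ q =>
    change lie d _ (q + 1) (d (q + 1) x) = d (q + 1) (lie d _ q x)
    rw [lie_apply, lie_apply, h, map_zero, add_zero, map_add, h, zero_add]

variable (p : ℕ)

omit hlog in
/-- projection killing the non-trivial weights for `ν` -/
def proj (ν : Fin n) (q : ℕ) : Module.End R ↥(⋀[(MvPolynomial (Fin n) R)]^q L) := 1 - lieE hr ι dl hL d ν q ^ (p - 1)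

omit hlog in
/-- projection to weight zero -/
def Proj (l : List (Fin n)) (q : ℕ) : Module.End R ↥(⋀[(MvPolynomial (Fin n) R)]^q L) :=
  (l.map fun ν => proj hr ι dl hL d p ν q).prod

theorem proj_comm (hd2 : ∀ q, d (q + 1) ∘ₗ d q = 0) (ν : Fin n) (q : ℕ) (x : ↥(⋀[(MvPolynomial (Fin n) R)]^q L)) :
    proj hr ι dl hL d p ν (q + 1) (d q x) = d q (proj hr ι dl hL d p ν q x) := by
  have h : ∀ k : ℕ, (lieE hr ι dl hL d ν (q + 1) ^ k) (d q x) = d q ((lieE hr ι dl hL d ν q ^ k) x) := by
    intro k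
    induction k with
    | zero => simp
    | succ k ih => rw [pow_succ', pow_succ', Module.End.mul_apply, Module.End.mul_apply, ih,
        lieE_comm hr ι dl hL d hlog hd2]
  simp only [proj, LinearMap.sub_apply, Module.End.one_apply, map_sub, h]

theorem Proj_comm (hd2 : ∀ q, d (q + 1) ∘ₗ d q = 0) (l : List (Fin n)) (q : ℕ) (x : ↥(⋀[(MvPolynomial (Fin n) R)]^q L)) :
    Proj hr ι dl hL d p l (q + 1) (d q x) = d q (Proj hr ι dl hL d p l q x) := by
  induction l with
  | nil => simp [Proj]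
  | cons ν l ih =>
    simp only [Proj, List.map_cons, List.prod_cons, Module.End.mul_apply] at ih ⊢
    rw [ih, proj_comm hr ι dl hL d hlog p hd2]

theorem sub_proj_mem (hp : 2 ≤ p) (hd2 : ∀ q, d (q + 1) ∘ₗ d q = 0) (ν : Fin n) :
    ∀ {q : ℕ} {x : ↥(⋀[(MvPolynomial (Fin n) R)]^q L)}, d q x = 0 →
      x - proj hr ι dl hL d p ν q x ∈ DeRham.coboundaries d q := by
  intro q x hx
  rw [proj, LinearMap.sub_apply, Module.End.one_apply, sub_sub_cancel,
    show p - 1 = (p - 2) + 1 by omega, pow_succ, Module.End.mul_apply]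
  cases q with
  | zero =>
    change _ = _
    rw [show lieE hr ι dl hL d ν 0 x = 0 by change contr _ 0 (d 0 x) = 0; rw [hx, map_zero], map_zero]
  | succ q =>
    have h : ∀ k : ℕ, ∀ y ∈ LinearMap.range (d q),
        (lieE hr ι dl hL d ν (q + 1) ^ k) y ∈ LinearMap.range (d q) := by
      intro k
      induction k with
      | zero => exact fun y hy => hy
      | succ k ih =>
        rintro _ ⟨z, rfl⟩
        rw [pow_succ, Module.End.mul_apply, lieE_comm hr ι dl hL d hlog hd2]
        exact ih _ ⟨_, rfl⟩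
    refine h _ _ ⟨contr (theta hr ι dl hL ν) q x, ?_⟩
    change _ = lie d _ q x
    rw [lie_apply, hx, map_zero, add_zero]

theorem sub_Proj_mem (hp : 2 ≤ p) (hd2 : ∀ q, d (q + 1) ∘ₗ d q = 0) {q : ℕ} {x : ↥(⋀[(MvPolynomial (Fin n) R)]^q L)}
    (hx : d q x = 0) (l : List (Fin n)) :
    x - Proj hr ι dl hL d p l q x ∈ DeRham.coboundaries d q := by
  induction l with
  | nil => simp [Proj]
  | cons ν l ih =>
    have hy : d q (Proj hr ι dl hL d p l q x) = 0 := by
      rw [← Proj_comm hr ι dl hL d hlog p hd2, hx, map_zero]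
    have h2 := sub_proj_mem hr ι dl hL d hlog p hp hd2 ν hy
    have := add_mem ih h2
    rw [sub_add_sub_cancel] at this
    simpa only [Proj, List.map_cons, List.prod_cons, Module.End.mul_apply] using this

theorem Proj_monomial (l : List (Fin n)) {q : ℕ} (m : Fin n →₀ ℕ) (c : R) (g : Fin q → Fin n) :
    Proj hr ι dl hL d p l q (monomial m c • tup ι dl g) =
      (l.map fun ν => 1 - ((m ν + wt r g ν : ℕ) : R) ^ (p - 1)).prod • (monomial m c • tup ι dl g) := by
  induction l with
  | nil => simp [Proj]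
  | cons ν l ih =>
    have h : ∀ k : ℕ, (lieE hr ι dl hL d ν q ^ k) (monomial m c • tup ι dl g) =
        ((m ν + wt r g ν : ℕ) : R) ^ k • (monomial m c • tup ι dl g) := by
      intro k
      induction k with
      | zero => simp
      | succ k ihk => rw [pow_succ', Module.End.mul_apply, ihk, map_smul,
          lieE_monomial hr ι dl hL d hlog, smul_smul, ← pow_succ]
    simp only [Proj, List.map_cons, List.prod_cons, Module.End.mul_apply] at ih ⊢
    rw [ih, map_smul, proj, LinearMap.sub_apply, Module.End.one_apply, h, smul_sub, smul_smul,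
      ← sub_smul]
    congr 1
    ring

theorem Proj_fix (hp : 2 ≤ p) (l : List (Fin n)) {q : ℕ} {x : ↥(⋀[(MvPolynomial (Fin n) R)]^q L)}
    (hx : ∀ ν, lieE hr ι dl hL d ν q x = 0) : Proj hr ι dl hL d p l q x = x := by
  induction l with
  | nil => simp [Proj]
  | cons ν l ih =>
    simp only [Proj, List.map_cons, List.prod_cons, Module.End.mul_apply] at ih ⊢
    rw [ih, proj, LinearMap.sub_apply, Module.End.one_apply, show p - 1 = (p - 2) + 1 by omega,
      pow_succ, Module.End.mul_apply, hx, map_zero, sub_zero]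

end Groth.Calg7.LogDR
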