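import Mathlib

/-! Pole reduction for a logarithmic derivation on `R[X][1/Θ]^d`. -/

namespace Groth.Calg7.LogD

open Polynomial

universe u

variable {R : Type u} [CommRing R] {d r : ℕ} {θ : Fin r → R}

/-- `∏_{k ≠ i} (θ_i - θ_k)`. -/
def pc (θ : Fin r → R) (i : Fin r) : R := ∏ k ∈ Finset.univ.erase i, (θ i - θ k)

theorem pc_isUnit (hθ : ∀ i k, i ≠ k → IsUnit (θ i - θ k)) (i : Fin r) : IsUnit (pc θ i) :=
  Finset.prod_induction _ IsUnit (fun _ _ => IsUnit.mul) isUnit_one fun k hk =>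
    hθ i k (Finset.mem_erase.1 hk).1.symm

/-- The product of the linear factors other than the `i`-th. -/
noncomputable def others (θ : Fin r → R) (i : Fin r) : R[X] := ∏ k ∈ Finset.univ.erase i, (X - C (θ k))

theorem others_eval_self (i : Fin r) : (others θ i).eval (θ i) = pc θ i := by
  simp [others, pc, eval_prod]

theorem others_eval_ne {i k : Fin r} (h : k ≠ i) : (others θ i).eval (θ k) = 0 := by
  rw [others, eval_prod]
  exact Finset.prod_eq_zero (Finset.mem_erase.2 ⟨h, Finset.mem_univ _⟩) (by simp)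

theorem deriv_eval (i : Fin r) :
    (derivative (∏ k, (X - C (θ k)))).eval (θ i) = pc θ i := by
  rw [← Finset.mul_prod_erase _ _ (Finset.mem_univ i), derivative_mul]
  simp [pc, eval_prod]

theorem prod_eval (i : Fin r) : (∏ k, (X - C (θ k))).eval (θ i) = 0 := by
  rw [eval_prod]; exact Finset.prod_eq_zero (Finset.mem_univ i) (by simp)

theorem dvd_of_eval (hθ : ∀ i k, i ≠ k → IsUnit (θ i - θ k)) (p : R[X])
    (h : ∀ i, p.eval (θ i) = 0) : (∏ k, (X - C (θ k))) ∣ p := by
  refine Finset.prod_dvd_of_coprime (fun i _ k _ hik => ?_) (fun i _ => dvd_iff_isRoot.2 (h i))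
  exact Polynomial.isCoprime_X_sub_C_of_isUnit_sub (hθ i k hik)

variable {Θ : R[X]} {D₀ : (Fin d → R[X]) →+ (Fin d → R[X])}
  {Res : Fin r → ((Fin d → R) →ₗ[R] (Fin d → R))}

/-- The operator induced on numerators over `Θ ^ n`. -/
noncomputable def opE (Θ : R[X]) (D₀ : (Fin d → R[X]) →+ (Fin d → R[X])) (n : ℕ) (v : Fin d → R[X]) :
    Fin d → R[X] :=
  D₀ v - ((n : R[X]) * derivative Θ) • v

theorem opE_eval (hΘ : Θ = ∏ i, (X - C (θ i)))
    (hD₀ : ∀ (p : R[X]) (v : Fin d → R[X]), D₀ (p • v) = (Θ * derivative p) • v + p • D₀ v)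
    (hRes : ∀ (i : Fin r) (m : Fin d → R) (j : Fin d),
      (D₀ (fun j => C (m j)) j).eval (θ i) = pc θ i * Res i m j)
    (n : ℕ) (v : Fin d → R[X]) (i : Fin r) (j : Fin d) :
    (opE Θ D₀ n v j).eval (θ i) =
      pc θ i * (Res i (fun l => (v l).eval (θ i)) j - (n : R) * (v j).eval (θ i)) := by
  classical
  let e : Fin d → Fin d → R := fun l => Pi.single l 1
  have hv : v = ∑ l, v l • (fun j => C (e l j)) := by
    funext j; simp [e, Finset.sum_apply, Pi.single_apply, apply_ite C]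
  have h1 : (D₀ v j).eval (θ i) = pc θ i * Res i (fun l => (v l).eval (θ i)) j := by
    conv_lhs => rw [hv, map_sum]
    rw [Finset.sum_apply, eval_finsetSum]
    have : (fun l => (v l).eval (θ i)) = ∑ l, (v l).eval (θ i) • e l := by
      funext j; simp [e, Finset.sum_apply, Pi.single_apply]
    rw [this, map_sum, Finset.sum_apply, Finset.mul_sum]
    refine Finset.sum_congr rfl fun l _ => ?_
    rw [hD₀, Pi.add_apply, eval_add, Pi.smul_apply, Pi.smul_apply, smul_eq_mul, smul_eq_mul, eval_mul,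
      eval_mul, eval_mul, hRes, hΘ, prod_eval, zero_mul, zero_mul, zero_add, map_smul, Pi.smul_apply,
      smul_eq_mul]
    ring
  show (D₀ v j - ((n : R[X]) * derivative Θ) * v j).eval (θ i) = _
  rw [eval_sub, h1, eval_mul, eval_mul, eval_natCast, hΘ, deriv_eval]
  ring

theorem res_sub_bijective (f : (Fin d → R) →ₗ[R] (Fin d → R)) (c : R) (h : IsUnit (f.charpoly.eval c)) :
    Function.Bijective fun x : Fin d → R => f x - c • x := by
  classical
  set M := LinearMap.toMatrix' f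
  have hM : M.charpoly = f.charpoly := by
    rw [← LinearMap.charpoly_toMatrix f (Pi.basisFun R (Fin d))]
    rfl
  have hu : IsUnit (M - Matrix.scalar (Fin d) c) := by
    rw [← neg_sub, IsUnit.neg_iff, Matrix.isUnit_iff_isUnit_det, ← Matrix.eval_charpoly, hM]
    exact h
  obtain ⟨U, hU⟩ := hu
  have key : ∀ x, Matrix.mulVec (U : Matrix (Fin d) (Fin d) R) x = f x - c • x := fun x => by
    rw [hU, Matrix.sub_mulVec, ← Matrix.toLin'_apply M, Matrix.toLin'_toMatrix']
    congr 1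
    ext i; simp [Matrix.scalar_apply, Matrix.mulVec_diagonal]
  constructor
  · intro x y hxy
    have h1 : Matrix.mulVec (U : Matrix (Fin d) (Fin d) R) x = Matrix.mulVec (U : Matrix (Fin d) (Fin d) R) y := by
      rw [key, key]; exact hxy
    have := congrArg (Matrix.mulVec ((U⁻¹ : (Matrix (Fin d) (Fin d) R)ˣ) : Matrix (Fin d) (Fin d) R)) h1
    simpa [Matrix.mulVec_mulVec] using this
  · intro y
    refine ⟨Matrix.mulVec ((U⁻¹ : (Matrix (Fin d) (Fin d) R)ˣ) : Matrix (Fin d) (Fin d) R) y, ?_⟩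
    show f _ - c • _ = y
    rw [← key]
    simp [Matrix.mulVec_mulVec]

/-- One step for the cokernel. -/
theorem exists_step (hθ : ∀ i k, i ≠ k → IsUnit (θ i - θ k)) (hΘ : Θ = ∏ i, (X - C (θ i)))
    (hD₀ : ∀ (p : R[X]) (v : Fin d → R[X]), D₀ (p • v) = (Θ * derivative p) • v + p • D₀ v)
    (hRes : ∀ (i : Fin r) (m : Fin d → R) (j : Fin d),
      (D₀ (fun j => C (m j)) j).eval (θ i) = pc θ i * Res i m j)
    (n : ℕ) (hn : ∀ i, IsUnit ((Res i).charpoly.eval (n : R))) (u : Fin d → R[X]) :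
    ∃ v u' : Fin d → R[X], u = opE Θ D₀ n v + Θ • u' := by
  classical
  have hx : ∀ i, ∃ x : Fin d → R, ∀ j, pc θ i * (Res i x j - (n : R) * x j) = (u j).eval (θ i) := fun i => by
    obtain ⟨x, hx⟩ := (res_sub_bijective (Res i) (n : R) (hn i)).2
      (((pc_isUnit hθ i).unit⁻¹ : Rˣ) • (fun j => (u j).eval (θ i)))
    refine ⟨x, fun j => ?_⟩
    have h2 := congrFun hx j
    simp only [Pi.sub_apply, Pi.smul_apply, smul_eq_mul, Units.smul_def] at h2
    rw [h2, ← mul_assoc, IsUnit.mul_val_inv, one_mul]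
  choose x hx using hx
  let v : Fin d → R[X] := fun j => ∑ i, C (x i j * ((pc_isUnit hθ i).unit⁻¹ : Rˣ)) * others θ i
  have hv : ∀ i, (fun j => (v j).eval (θ i)) = x i := fun i => funext fun j => by
    simp only [v, eval_finsetSum, eval_mul, eval_C]
    rw [Finset.sum_eq_single i (fun k _ hk => by rw [others_eval_ne hk.symm, mul_zero]) (by simp),
      others_eval_self, mul_assoc, IsUnit.val_inv_mul, mul_one]
  have hd : ∀ j, Θ ∣ u j - opE Θ D₀ n v j := fun j => by
    rw [hΘ]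
    refine dvd_of_eval hθ _ fun i => ?_
    rw [eval_sub, ← hΘ, opE_eval hΘ hD₀ hRes, hv, show (v j).eval (θ i) = x i j from congrFun (hv i) j, hx, sub_self]
  choose u' hu' using hd
  refine ⟨v, u', funext fun j => ?_⟩
  rw [Pi.add_apply, Pi.smul_apply, smul_eq_mul, ← hu' j]
  ring

/-- One step for the kernel. -/
theorem dvd_step (hθ : ∀ i k, i ≠ k → IsUnit (θ i - θ k)) (hΘ : Θ = ∏ i, (X - C (θ i)))
    (hD₀ : ∀ (p : R[X]) (v : Fin d → R[X]), D₀ (p • v) = (Θ * derivative p) • v + p • D₀ v)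
    (hRes : ∀ (i : Fin r) (m : Fin d → R) (j : Fin d),
      (D₀ (fun j => C (m j)) j).eval (θ i) = pc θ i * Res i m j)
    (n : ℕ) (hn : ∀ i, IsUnit ((Res i).charpoly.eval (n : R))) (v : Fin d → R[X])
    (h : ∀ j, Θ ∣ opE Θ D₀ n v j) : ∃ v' : Fin d → R[X], v = Θ • v' := by
  have hz : ∀ i, (fun j => (v j).eval (θ i)) = 0 := fun i => by
    refine (res_sub_bijective (Res i) (n : R) (hn i)).1 (funext fun j => ?_)
    simp only [map_zero, smul_zero, sub_zero, Pi.sub_apply, Pi.smul_apply, smul_eq_mul, Pi.zero_apply]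
    obtain ⟨w, hw⟩ := h j
    have h1 := congrArg (Polynomial.eval (θ i)) hw
    rw [opE_eval hΘ hD₀ hRes, eval_mul, hΘ, prod_eval, zero_mul] at h1
    exact (pc_isUnit hθ i).mul_right_eq_zero.1 h1
  have hd : ∀ j, Θ ∣ v j := fun j => by rw [hΘ]; exact dvd_of_eval hθ _ fun i => congrFun (hz i) j
  choose v' hv' using hd
  exact ⟨v', funext fun j => hv' j⟩

/-- The relation between `D` on fractions and `opE` on numerators. -/
theorem pow_smul_D {D : (Fin d → Localization.Away Θ) →+ (Fin d → Localization.Away Θ)}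
    (hD : ∀ (p : R[X]) (w : Fin d → Localization.Away Θ), D (p • w) = (Θ * derivative p) • w + p • D w)
    (hDD₀ : ∀ v : Fin d → R[X],
      D (fun j => algebraMap R[X] (Localization.Away Θ) (v j)) =
        fun j => algebraMap R[X] (Localization.Away Θ) (D₀ v j))
    (n : ℕ) (w : Fin d → Localization.Away Θ) (v : Fin d → R[X])
    (hw : (Θ ^ n) • w = fun j => algebraMap R[X] (Localization.Away Θ) (v j)) :
    (Θ ^ n) • D w = fun j => algebraMap R[X] (Localization.Away Θ) (opE Θ D₀ n v j) := by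
  have h1 : D ((Θ ^ n) • w) = (Θ * derivative (Θ ^ n)) • w + (Θ ^ n) • D w := hD _ _
  rw [hw, hDD₀] at h1
  have h2 : Θ * derivative (Θ ^ n) = ((n : R[X]) * derivative Θ) * Θ ^ n := by
    cases n with
    | zero => simp
    | succ n => rw [derivative_pow_succ]; simp; ring
  rw [h2, mul_smul, hw] at h1
  funext j
  have := congrFun h1 j
  simp only [Pi.add_apply, Pi.smul_apply] at this ⊢
  simp only [opE, Pi.sub_apply, Pi.smul_apply, smul_eq_mul, map_sub, map_mul] at this ⊢
  rw [Algebra.smul_def, map_mul] at this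
  rw [this]; ring

theorem exists_numer (n : ℕ) (v : Fin d → R[X]) :
    ∃ w : Fin d → Localization.Away Θ, (Θ ^ n) • w = fun j => algebraMap R[X] (Localization.Away Θ) (v j) :=
  ⟨fun j => IsLocalization.mk' _ (v j) (⟨Θ ^ n, n, rfl⟩ : Submonoid.powers Θ), funext fun j => by
    rw [Pi.smul_apply, Algebra.smul_def]; exact IsLocalization.mk'_spec' _ (v j) (⟨Θ ^ n, n, rfl⟩ : Submonoid.powers Θ)⟩

theorem exists_denom (w : Fin d → Localization.Away Θ) :
    ∃ (n : ℕ) (v : Fin d → R[X]), (Θ ^ n) • w = fun j => algebraMap R[X] (Localization.Away Θ) (v j) := by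
  classical
  obtain ⟨⟨b, n, hn⟩, hb⟩ := IsLocalization.exist_integer_multiples (Submonoid.powers Θ) Finset.univ w
  choose v hv using fun j => hb j (Finset.mem_univ j)
  refine ⟨n, v, funext fun j => ?_⟩
  rw [hv j, Pi.smul_apply]
  show _ = b • w j
  rw [← hn]

theorem smul_cancel (n : ℕ) {a b : Fin d → Localization.Away Θ} (h : (Θ ^ n) • a = (Θ ^ n) • b) : a = b := by
  have hu : IsUnit (algebraMap R[X] (Localization.Away Θ) (Θ ^ n)) := by
    rw [map_pow]; exact (IsLocalization.Away.algebraMap_isUnit Θ).pow n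
  funext j
  have := congrFun h j
  rw [Pi.smul_apply, Pi.smul_apply, Algebra.smul_def, Algebra.smul_def] at this
  exact hu.mul_left_cancel this

theorem isUnit_eval_charpoly [Algebra ℂ R] {f : (Fin d → R) →ₗ[R] (Fin d → R)}
    (hχ : ∃ χ : ℂ[X], f.charpoly = χ.map (algebraMap ℂ R) ∧ ∀ n : ℤ, n ≠ 0 → χ.eval (n : ℂ) ≠ 0)
    (n : ℕ) : IsUnit (f.charpoly.eval ((n + 1 : ℕ) : R)) := by
  obtain ⟨χ, h1, h2⟩ := hχ
  have h3 := h2 ((n + 1 : ℕ) : ℤ) (by omega)
  rw [h1, ← map_natCast (algebraMap ℂ R), eval_map_algebraMap, aeval_algebraMap_apply]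
  refine IsUnit.map _ (IsUnit.mk0 _ ?_)
  simpa using h3

end Groth.Calg7.LogD
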