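import Mathlib
import Groth.Agent.Hensel1.FactorNonMonic

/-!
Extension and contraction of ideals along a map `ψ : R[s] → L` which behaves like the localization
at the monic polynomials, for a henselian local ring `R`.
-/

set_option autoImplicit false

namespace Groth.Calg7.MonicLoc

open Polynomial IsLocalRing

universe u

/-- `ψ` is a localization of `R[s]` at the monic polynomials. -/
structure IsMonicLoc {R L : Type u} [CommRing R] [CommRing L] (ψ : R[X] →+* L) : Prop where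
  unit : ∀ b : R[X], b.Monic → IsUnit (ψ b)
  surj : ∀ z : L, ∃ a b : R[X], b.Monic ∧ z * ψ b = ψ a
  ker : ∀ a : R[X], ψ a = 0 → ∃ b : R[X], b.Monic ∧ b * a = 0

variable {R L : Type u} [CommRing R] [CommRing L] {ψ : R[X] →+* L}

theorem IsMonicLoc.mem_map (h : IsMonicLoc ψ) {I : Ideal R[X]} {z : L} (hz : z ∈ I.map ψ) :
    ∃ i ∈ I, ∃ b : R[X], b.Monic ∧ z * ψ b = ψ i := by
  induction hz using Submodule.span_induction with
  | mem x hx =>
    obtain ⟨i, hi, rfl⟩ := hx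
    exact ⟨i, hi, 1, monic_one, by simp⟩
  | zero => exact ⟨0, zero_mem _, 1, monic_one, by simp⟩
  | add x y _ _ hx hy =>
    obtain ⟨i, hi, b, hb, hxb⟩ := hx
    obtain ⟨j, hj, c, hc, hyc⟩ := hy
    exact ⟨i * c + j * b, add_mem (Ideal.mul_mem_right _ _ hi) (Ideal.mul_mem_right _ _ hj), b * c,
      hb.mul hc, by rw [map_mul, map_add, map_mul, map_mul, ← hxb, ← hyc]; ring⟩
  | smul r x _ hx =>
    obtain ⟨i, hi, b, hb, hxb⟩ := hx
    obtain ⟨a, c, hc, hrc⟩ := h.surj r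
    exact ⟨a * i, Ideal.mul_mem_left _ _ hi, c * b, hc.mul hb, by
      rw [map_mul, map_mul, ← hxb, ← hrc, smul_eq_mul]; ring⟩

theorem IsMonicLoc.mem_of_map_mem (h : IsMonicLoc ψ) {I : Ideal R[X]} {a : R[X]} (ha : ψ a ∈ I.map ψ) :
    ∃ b : R[X], b.Monic ∧ b * a ∈ I := by
  obtain ⟨i, hi, b, hb, hab⟩ := h.mem_map ha
  obtain ⟨c, hc, hca⟩ := h.ker (a * b - i) (by rw [map_sub, map_mul, hab, sub_self])
  exact ⟨c * b, hc.mul hb, by
    rw [show c * b * a = c * (a * b - i) + c * i by ring, hca, zero_add]; exact Ideal.mul_mem_left _ _ hi⟩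

variable [IsLocalRing R]

/-- A monic polynomial is a unit modulo an ideal comaximal with `m R[s]` (Nakayama). -/
theorem sup_span_monic {I : Ideal R[X]} (hI : I ⊔ (maximalIdeal R).map (algebraMap R R[X]) = ⊤)
    {b : R[X]} (hb : b.Monic) : I ⊔ Ideal.span {b} = ⊤ := by
  set K := I ⊔ Ideal.span {b}
  haveI : Module.Finite R (AdjoinRoot b) := hb.finite_adjoinRoot
  let π : AdjoinRoot b →ₐ[R] R[X] ⧸ K := Ideal.Quotient.liftₐ (Ideal.span {b}) (Ideal.Quotient.mkₐ R K)
    fun x hx => Ideal.Quotient.eq_zero_iff_mem.2 (Ideal.mem_sup_right hx)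
  haveI : Module.Finite R (R[X] ⧸ K) := Module.Finite.of_surjective π.toLinearMap fun x => by
    obtain ⟨a, rfl⟩ := Ideal.Quotient.mk_surjective x
    exact ⟨AdjoinRoot.mk b a, rfl⟩
  have htop : (⊤ : Submodule R (R[X] ⧸ K)) ≤ maximalIdeal R • (⊤ : Submodule R (R[X] ⧸ K)) := by
    rw [Ideal.smul_top_eq_map]
    intro x _
    rw [Submodule.restrictScalars_mem]
    have hKm : K ⊔ (maximalIdeal R).map (algebraMap R R[X]) = ⊤ := by
      rw [← top_le_iff, ← hI]; exact sup_le_sup_right le_sup_left _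
    have := congrArg (Ideal.map (Ideal.Quotient.mk K)) hKm
    rw [Ideal.map_sup, Ideal.map_quotient_self, bot_sup_eq, Ideal.map_map, Ideal.map_top] at this
    rw [show algebraMap R (R[X] ⧸ K) = (Ideal.Quotient.mk K).comp (algebraMap R R[X]) from rfl, this]
    exact Submodule.mem_top
  have hbot := Submodule.eq_bot_of_le_smul_of_le_jacobson_bot _ (⊤ : Submodule R (R[X] ⧸ K))
    Module.Finite.fg_top htop (IsLocalRing.maximalIdeal_le_jacobson _)
  rw [Ideal.eq_top_iff_one, ← Ideal.Quotient.eq_zero_iff_mem]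
  exact (Submodule.mem_bot R).1 (hbot ▸ Submodule.mem_top)

theorem IsMonicLoc.extend (h : IsMonicLoc ψ) (I : Ideal R[X])
    (hI : I ⊔ (maximalIdeal R).map (algebraMap R R[X]) = ⊤) :
    (I.map ψ).comap ψ = I ∧
    I.map ψ ⊔ (maximalIdeal R).map (ψ.comp (algebraMap R R[X])) = ⊤ ∧
    Function.Bijective (Ideal.quotientMap (I.map ψ) ψ Ideal.le_comap_map) := by
  have hu : ∀ b : R[X], b.Monic → ∃ u : R[X], u * b - 1 ∈ I := by
    intro b hb
    have h1 : (1 : R[X]) ∈ I ⊔ Ideal.span {b} := (sup_span_monic hI hb) ▸ Submodule.mem_top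
    obtain ⟨i, hi, y, hy, hiy⟩ := Submodule.mem_sup.1 h1
    obtain ⟨u, rfl⟩ := Ideal.mem_span_singleton.1 hy
    refine ⟨u, ?_⟩
    rw [show u * b - 1 = -i by linear_combination hiy]
    exact neg_mem hi
  have hcm : (I.map ψ).comap ψ = I := le_antisymm (fun a ha => by
    obtain ⟨b, hb, hba⟩ := h.mem_of_map_mem (Ideal.mem_comap.1 ha)
    obtain ⟨u, hub⟩ := hu b hb
    rw [show a = u * (b * a) - (u * b - 1) * a by ring]
    exact sub_mem (Ideal.mul_mem_left _ _ hba) (Ideal.mul_mem_right _ _ hub)) Ideal.le_comap_map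
  refine ⟨hcm, ?_, ?_, ?_⟩
  · rw [← Ideal.map_map, ← Ideal.map_sup, hI, Ideal.map_top]
  · exact Ideal.quotientMap_injective' (le_of_eq hcm)
  · intro x
    obtain ⟨z, rfl⟩ := Ideal.Quotient.mk_surjective x
    obtain ⟨a, b, hb, hz⟩ := h.surj z
    obtain ⟨u, hub⟩ := hu b hb
    refine ⟨Ideal.Quotient.mk I (a * u), ?_⟩
    rw [Ideal.quotientMap_mk, Ideal.Quotient.eq, map_mul, ← hz]
    rw [show z * ψ b * ψ u - z = z * ψ (u * b - 1) by rw [map_sub, map_one, map_mul]; ring]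
    exact Ideal.mul_mem_left _ _ (Ideal.mem_map_of_mem _ hub)

omit [IsLocalRing R] in
theorem IsMonicLoc.map_comap (h : IsMonicLoc ψ) (J : Ideal L) : (J.comap ψ).map ψ = J := by
  refine le_antisymm Ideal.map_comap_le fun z hz => ?_
  obtain ⟨a, b, hb, hzb⟩ := h.surj z
  obtain ⟨v, hv⟩ := h.unit b hb
  have : ψ a ∈ (J.comap ψ).map ψ :=
    Ideal.mem_map_of_mem _ (Ideal.mem_comap.2 (by rw [← hzb]; exact Ideal.mul_mem_right _ _ hz))
  have := Ideal.mul_mem_right (↑v⁻¹ : L) _ this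
  rwa [← hzb, ← hv, Units.mul_inv_cancel_right] at this

theorem IsMonicLoc.contract {R L : Type u} [CommRing R] [HenselianLocalRing R] [CommRing L]
    {ψ : R[X] →+* L} (h : IsMonicLoc ψ) (J : Ideal L)
    (hJ : J ⊔ (maximalIdeal R).map (ψ.comp (algebraMap R R[X])) = ⊤) :
    J.comap ψ ⊔ (maximalIdeal R).map (algebraMap R R[X]) = ⊤ := by
  set M := (maximalIdeal R).map (algebraMap R R[X]) with hM
  have h1 : (1 : L) ∈ J ⊔ M.map ψ := by rw [hM, Ideal.map_map, hJ]; exact Submodule.mem_top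
  obtain ⟨z, hz, w, hw, hzw⟩ := Submodule.mem_sup.1 h1
  obtain ⟨a, b, hb, hzb⟩ := h.surj z
  have hab : ψ (b - a) ∈ M.map ψ := by
    rw [map_sub, ← hzb, show ψ b - z * ψ b = w * ψ b by linear_combination (-(ψ b)) * hzw]
    exact Ideal.mul_mem_right _ _ hw
  obtain ⟨c, hc, hcab⟩ := h.mem_of_map_mem hab
  have hmem : ∀ q : R[X], q ∈ M ↔ q.map (residue R) = 0 := fun q => by
    rw [hM, show algebraMap R R[X] = Polynomial.C from rfl, Ideal.mem_map_C_iff, Polynomial.ext_iff]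
    simp [residue_eq_zero_iff]
  rw [hmem, Polynomial.map_mul, mul_eq_zero, Polynomial.map_sub] at hcab
  have hba : b.map (residue R) = a.map (residue R) :=
    sub_eq_zero.1 (hcab.resolve_left (hc.map _).ne_zero)
  obtain ⟨g, f, hgf, hg, -, hf⟩ := Groth.Hensel1.exists_factor_lift_of_monic a (a.map (residue R)) 1
    (hba ▸ hb.map _) isCoprime_one_right (mul_one _).symm
  have hfJ : f ∈ J.comap ψ := by
    rw [Ideal.mem_comap]
    obtain ⟨v, hv⟩ := h.unit g hg
    have hm : ψ a ∈ J := by rw [← hzb]; exact Ideal.mul_mem_right _ _ hz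
    have := Ideal.mul_mem_left J (↑v⁻¹ : L) hm
    rwa [hgf, map_mul, ← hv, Units.inv_mul_cancel_left] at this
  rw [Ideal.eq_top_iff_one]
  refine Submodule.mem_sup.2 ⟨f, hfJ, 1 - f, ?_, by ring⟩
  rw [hmem, Polynomial.map_sub, Polynomial.map_one, hf, sub_self]

end Groth.Calg7.MonicLoc
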