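import Groth.Agent.Calg2.CompleteStructure
import Groth.Agent.Calg1.MiracleFlatness
import Groth.Agent.Calg4.RegularAscent
import Groth.Agent.Calg6.PowerSeries
import Groth.Agent.CurveConductor.Bounds
import Mathlib

/-!
# Complete regular local rings over parameter power series subrings

Helper library (no milestone statements here).
-/

universe u v

open IsLocalRing MvPowerSeries Groth.SGA7.PS Groth

namespace Calg7.ParamPS

variable (A : Type u) [CommRing A] [IsRegularLocalRing A] [IsAdicComplete (maximalIdeal A) A]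
  {n : ℕ}

/-- The case of a coefficient field in the same universe. -/
theorem exists_basis_aux (hn : ringKrullDim A = n) (k : Type u) [Field k] [Algebra k A]
    (hk : Function.Surjective (residue A ∘ algebraMap k A))
    (x : Fin n → A) (hx : (Ideal.span (Set.range x)).radical = maximalIdeal A)
    (φ : MvPowerSeries (Fin n) k →ₐ[k] A) (hφ : ∀ i, φ (MvPowerSeries.X i) = x i) :
    ∃ (d : ℕ) (b : Fin d → A), (d : ℕ∞) = Module.length A (A ⧸ Ideal.span (Set.range x)) ∧
      Function.Bijective (fun r : Fin d → MvPowerSeries (Fin n) k => ∑ i, φ (r i) * b i) := by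
  classical
  letI alg : Algebra (MvPowerSeries (Fin n) k) A := φ.toRingHom.toAlgebra
  haveI : IsScalarTower k (MvPowerSeries (Fin n) k) A :=
    IsScalarTower.of_algebraMap_eq fun c => (φ.commutes c).symm
  set J := Ideal.span (Set.range x) with hJ
  have hmap : (varIdeal (Fin n) k).map (algebraMap (MvPowerSeries (Fin n) k) A) = J := by
    rw [varIdeal, Ideal.map_span, ← Set.range_comp]
    exact congrArg Ideal.span (congrArg Set.range (funext hφ))
  obtain ⟨N, hN⟩ : ∃ N, maximalIdeal A ^ N ≤ J :=
    Ideal.exists_pow_le_of_le_radical_of_fg hx.ge (IsNoetherian.noetherian _)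
  have hJm : J ≤ maximalIdeal A := Ideal.le_radical.trans hx.le
  haveI : IsHausdorff ((varIdeal (Fin n) k).map (algebraMap (MvPowerSeries (Fin n) k) A)) A :=
    IsHausdorff.of_isLocalRing (R := A) _ _ fun h =>
      (maximalIdeal.isMaximal A).ne_top (top_le_iff.1 (h.ge.trans (hmap.le.trans hJm)))
  haveI : Module.Finite k (A ⧸ (varIdeal (Fin n) k).map (algebraMap (MvPowerSeries (Fin n) k) A)) :=
    Calg2.CompleteStructure.finite_quotient_of_pow_le hk _ N (hN.trans hmap.ge)
  haveI : Module.Finite (MvPowerSeries (Fin n) k)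
      (A ⧸ (varIdeal (Fin n) k).map (algebraMap (MvPowerSeries (Fin n) k) A)) :=
    Module.Finite.of_restrictScalars_finite k _ _
  haveI : IsAdicComplete (varIdeal (Fin n) k) (MvPowerSeries (Fin n) k) := Groth.Calg6.isAdicComplete_varIdeal
  haveI : Module.Finite (MvPowerSeries (Fin n) k) A :=
    Calg2.CompleteStructure.finite_of_finite_quotient (varIdeal (Fin n) k)
  haveI := Groth.Calg6.isRegularLocalRing_mvPowerSeries k n
  have hmaxP : maximalIdeal (MvPowerSeries (Fin n) k) = varIdeal (Fin n) k := maximalIdeal_eq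
  haveI : IsLocalHom (algebraMap (MvPowerSeries (Fin n) k) A) :=
    ((local_hom_TFAE (algebraMap (MvPowerSeries (Fin n) k) A)).out 2 0 rfl rfl).1
      (by rw [hmaxP, hmap]; exact hJm)
  haveI := Groth.Calg4.isCohenMacaulayLocalRing_of_isRegularLocalRing A
  have hdim : ringKrullDim A = ringKrullDim (MvPowerSeries (Fin n) k) +
      ringKrullDim (A ⧸ (maximalIdeal (MvPowerSeries (Fin n) k)).map
        (algebraMap (MvPowerSeries (Fin n) k) A)) := by
    have h0 : ringKrullDim (A ⧸ J) = 0 := by
      haveI : Nontrivial (A ⧸ J) := Ideal.Quotient.nontrivial_iff.2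
        (ne_top_of_le_ne_top (maximalIdeal.isMaximal A).ne_top hJm)
      haveI : Module.Finite k (A ⧸ J) := Calg2.CompleteStructure.finite_quotient_of_pow_le hk _ N hN
      haveI : IsArtinianRing (A ⧸ J) := isArtinian_of_tower k (inferInstance : IsArtinian k (A ⧸ J))
      exact (Ring.krullDimLE_iff.1 inferInstance : ringKrullDim (A ⧸ J) ≤ (0 : ℕ)).antisymm ringKrullDim_nonneg_of_nontrivial
    rw [hn, Groth.Calg6.ringKrullDim_mvPowerSeries, hmaxP, hmap, h0, add_zero]
  haveI : Module.Flat (MvPowerSeries (Fin n) k) A :=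
    Groth.Calg1.flat_of_isRegularLocalRing_of_isCohenMacaulay _ A hdim
  haveI : Module.Free (MvPowerSeries (Fin n) k) A := Module.free_of_flat_of_isLocalRing
  let B := Module.finBasis (MvPowerSeries (Fin n) k) A
  have hbij : Function.Bijective
      (fun r : Fin (Module.finrank (MvPowerSeries (Fin n) k) A) → MvPowerSeries (Fin n) k =>
        ∑ i, φ (r i) * B i) := by
    convert B.equivFun.symm.bijective using 1
    funext r
    rw [Module.Basis.equivFun_symm_apply]
    exact Finset.sum_congr rfl fun i _ => (Algebra.smul_def (r i) (B i)).symm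
  refine ⟨_, fun i => B i, ?_, hbij⟩
  haveI : IsScalarTower k A (A ⧸ J) := inferInstance
  rw [Groth.CurveConductor.length_eq_finrank_of_residue (k := k) hk (A ⧸ J)]
  let F : (Fin (Module.finrank (MvPowerSeries (Fin n) k) A) → k) →ₗ[k] A ⧸ J :=
    Fintype.linearCombination k fun i => Ideal.Quotient.mk J (B i)
  have hF : ∀ c, F c = Ideal.Quotient.mk J (∑ i, φ (MvPowerSeries.C (c i)) * B i) := fun c => by
    rw [map_sum]
    simp only [F, Fintype.linearCombination_apply]
    refine Finset.sum_congr rfl fun i _ => ?_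
    rw [Algebra.smul_def, map_mul]
    congr 1
    rw [show (MvPowerSeries.C (c i) : MvPowerSeries (Fin n) k) = algebraMap k _ (c i) from rfl,
      φ.commutes]
    rfl
  have hrem : ∀ r : MvPowerSeries (Fin n) k, r - MvPowerSeries.C (constantCoeff r) ∈ varIdeal (Fin n) k :=
    fun r => by
      rw [← hmaxP]
      intro hu
      rw [MvPowerSeries.isUnit_iff_constantCoeff] at hu
      simp at hu
  have hFb : Function.Bijective F := by
    constructor
    · rw [injective_iff_map_eq_zero]
      intro c hc
      rw [hF, Ideal.Quotient.eq_zero_iff_mem, hJ] at hc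
      obtain ⟨a, ha⟩ := (Submodule.mem_span_range_iff_exists_fun A).1 hc
      choose R hR using fun j => hbij.surjective (a j)
      have : (fun i => MvPowerSeries.C (c i)) = fun i => ∑ j, MvPowerSeries.X j * R j i := by
        refine hbij.injective ?_
        simp only [map_sum, map_mul, hφ, Finset.sum_mul]
        rw [← ha, Finset.sum_comm]
        refine Finset.sum_congr rfl fun j _ => ?_
        rw [smul_eq_mul, ← hR j, Finset.sum_mul]
        exact Finset.sum_congr rfl fun i _ => by ring
      funext i
      have h2 := congrArg constantCoeff (congrFun this i)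
      simpa using h2
    · intro y
      obtain ⟨a, rfl⟩ := Ideal.Quotient.mk_surjective y
      obtain ⟨r, rfl⟩ := hbij.surjective a
      refine ⟨fun i => constantCoeff (r i), ?_⟩
      rw [hF, Ideal.Quotient.eq, ← Finset.sum_sub_distrib]
      refine Ideal.sum_mem _ fun i _ => ?_
      rw [← sub_mul]
      refine Ideal.mul_mem_right _ _ ?_
      rw [← map_sub, ← neg_sub, map_neg, neg_mem_iff, ← hmap]
      exact Ideal.mem_map_of_mem _ (hrem (r i))
  let e := LinearEquiv.ofBijective F hFb
  rw [← e.length_eq, Module.length_pi]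
  simp

theorem exists_basis (hn : ringKrullDim A = n) (k : Type v) [Field k] [Algebra k A]
    (hk : Function.Surjective (residue A ∘ algebraMap k A))
    (x : Fin n → A) (hx : (Ideal.span (Set.range x)).radical = maximalIdeal A)
    (φ : MvPowerSeries (Fin n) k →ₐ[k] A) (hφ : ∀ i, φ (MvPowerSeries.X i) = x i) :
    ∃ (d : ℕ) (b : Fin d → A), (d : ℕ∞) = Module.length A (A ⧸ Ideal.span (Set.range x)) ∧
      Function.Bijective (fun r : Fin d → MvPowerSeries (Fin n) k => ∑ i, φ (r i) * b i) := by
  let e : k ≃+* ResidueField A :=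
    RingEquiv.ofBijective ((residue A).comp (algebraMap k A)) ⟨RingHom.injective _, hk⟩
  letI : Algebra (ResidueField A) A := ((algebraMap k A).comp e.symm.toRingHom).toAlgebra
  have halg : ∀ c, algebraMap (ResidueField A) A c = algebraMap k A (e.symm c) := fun c => rfl
  let Ψ : MvPowerSeries (Fin n) k →+* MvPowerSeries (Fin n) (ResidueField A) :=
    MvPowerSeries.map e.toRingHom
  let Ψ' : MvPowerSeries (Fin n) (ResidueField A) →+* MvPowerSeries (Fin n) k :=
    MvPowerSeries.map e.symm.toRingHom
  have h1 : ∀ f, Ψ' (Ψ f) = f := fun f => by ext m; simp [Ψ, Ψ']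
  have h2 : ∀ f, Ψ (Ψ' f) = f := fun f => by ext m; simp [Ψ, Ψ']
  let φ' : MvPowerSeries (Fin n) (ResidueField A) →ₐ[ResidueField A] A :=
    { φ.toRingHom.comp Ψ' with
      commutes' := fun c => by
        show φ (Ψ' (algebraMap (ResidueField A) (MvPowerSeries (Fin n) (ResidueField A)) c)) = _
        rw [halg, ← φ.commutes]
        congr 1
        exact MvPowerSeries.map_C _ c }
  obtain ⟨d, b, hd, hb⟩ := exists_basis_aux A hn (ResidueField A)
    (fun c => ⟨c, by
      show residue A (algebraMap k A (e.symm c)) = c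
      exact e.apply_symm_apply c⟩)
    x hx φ' (fun i => by
      show φ (Ψ' (MvPowerSeries.X i)) = x i
      rw [show Ψ' (MvPowerSeries.X i) = MvPowerSeries.X i from MvPowerSeries.map_X _ i, hφ])
  refine ⟨d, b, hd, ?_⟩
  have hcomp : (fun r : Fin d → MvPowerSeries (Fin n) k => ∑ i, φ (r i) * b i) =
      (fun r : Fin d → MvPowerSeries (Fin n) (ResidueField A) => ∑ i, φ' (r i) * b i) ∘
        (fun r i => Ψ (r i)) := by
    funext r
    refine Finset.sum_congr rfl fun i _ => ?_
    show _ = φ (Ψ' (Ψ (r i))) * b i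
    rw [h1]
  rw [hcomp]
  refine hb.comp ⟨fun r r' h => funext fun i => ?_, fun r => ⟨fun i => Ψ' (r i), funext fun i => h2 _⟩⟩
  rw [← h1 (r i), ← h1 (r' i)]
  exact congrArg Ψ' (congrFun h i)

end Calg7.ParamPS
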