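import Mathlib
import Groth.Agent.Calg7.ValFlatFP
import Groth.Agent.FlatMorOne.FlatLocusOpen

/-!
Saturated submodules of free modules over polynomial rings over Prüfer domains are finitely generated.
-/

set_option autoImplicit false

namespace Groth.Calg7.PruferFG

universe u

open MvPolynomial

attribute [local instance] MvPolynomial.algebraMvPolynomial

variable {R σ : Type u} [CommRing R] [IsDomain R] [Finite σ] {r : ℕ}

local notation "P" => MvPolynomial σ R
local notation "F" => (Fin r → MvPolynomial σ R)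

/-- Coordinatewise map to the localisation at `p`. -/
noncomputable def μ (p : Ideal R) [p.IsPrime] :
    F →ₗ[P] (Fin r → MvPolynomial σ (Localization.AtPrime p)) :=
  LinearMap.compLeft (Algebra.linearMap P (MvPolynomial σ (Localization.AtPrime p))) (Fin r)

theorem μ_injective (p : Ideal R) [p.IsPrime] : Function.Injective (μ (σ := σ) (r := r) p) :=
  fun f g h => _root_.funext fun i => MvPolynomial.map_injective _
    (IsLocalization.injective (Localization.AtPrime p) p.primeCompl_le_nonZeroDivisors) (congrFun h i)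

theorem clear_poly (p : Ideal R) [p.IsPrime] (q : MvPolynomial σ (Localization.AtPrime p)) :
    ∃ s ∉ p, ∃ q' : P, algebraMap P (MvPolynomial σ (Localization.AtPrime p)) (C s) * q =
      algebraMap P (MvPolynomial σ (Localization.AtPrime p)) q' := by
  obtain ⟨⟨q', ⟨_, s, hs, rfl⟩⟩, h⟩ := IsLocalization.surj (p.primeCompl.map (C : R →+* P)) q
  exact ⟨s, hs, q', by rw [mul_comm]; exact h⟩

theorem clear (p : Ideal R) [p.IsPrime] (N : Submodule P F)
    {x : Fin r → MvPolynomial σ (Localization.AtPrime p)}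
    (hx : x ∈ Submodule.span (MvPolynomial σ (Localization.AtPrime p)) ((μ p) '' (N : Set F))) :
    ∃ s ∉ p, ∃ f ∈ N, (C s : P) • x = μ p f := by
  induction hx using Submodule.span_induction with
  | mem x hx =>
    obtain ⟨f, hf, rfl⟩ := hx
    exact ⟨1, Ideal.IsPrime.one_notMem ‹_›, f, hf, by simp⟩
  | zero => exact ⟨1, Ideal.IsPrime.one_notMem ‹_›, 0, N.zero_mem, by simp⟩
  | add x y _ _ hx hy =>
    obtain ⟨s, hs, f, hf, hf'⟩ := hx
    obtain ⟨t, ht, g, hg, hg'⟩ := hy
    refine ⟨s * t, fun h => (Ideal.IsPrime.mem_or_mem ‹_› h).elim hs ht, C t • f + C s • g,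
      N.add_mem (N.smul_mem _ hf) (N.smul_mem _ hg), ?_⟩
    rw [map_add, map_smul, map_smul, ← hf', ← hg', smul_smul, smul_smul, smul_add, ← C_mul, ← C_mul, mul_comm t s]
  | smul c x _ hx =>
    obtain ⟨s, hs, f, hf, hf'⟩ := hx
    obtain ⟨t, ht, c', hc'⟩ := clear_poly p c
    refine ⟨t * s, fun h => (Ideal.IsPrime.mem_or_mem ‹_› h).elim ht hs, c' • f, N.smul_mem _ hf, ?_⟩
    rw [map_smul, ← hf', C_mul]
    funext i
    simp only [Algebra.smul_def, Pi.mul_apply, Pi.algebraMap_apply, map_mul, Algebra.algebraMap_self, RingHom.id_apply]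
    linear_combination (algebraMap P (MvPolynomial σ (Localization.AtPrime p)) (C s) * x i) * hc'

variable (hR : ∀ (p : Ideal R) [p.IsPrime], ValuationRing (Localization.AtPrime p))
  (K : Submodule (MvPolynomial σ R) (Fin r → MvPolynomial σ R))
  (hsat : ∀ (c : R) (f : Fin r → MvPolynomial σ R), c ≠ 0 → (C c : MvPolynomial σ R) • f ∈ K → f ∈ K)

include hR hsat in
theorem exists_local (p : Ideal R) [p.IsPrime] :
    ∃ (s : R) (G : Finset F), s ∉ p ∧ (G : Set F) ⊆ K ∧
      ∀ x ∈ K, ∃ n : ℕ, (C (s ^ n) : P) • x ∈ Submodule.span P (G : Set F) := by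
  classical
  haveI := hR p
  let V := Localization.AtPrime p
  let PV := MvPolynomial σ V
  let KV : Submodule PV (Fin r → PV) := Submodule.span PV ((μ p) '' (K : Set F))
  have hKV : KV.FG := by
    refine Groth.Calg7.ValFlatFP.fg_of_saturated KV fun c x hc hcx => ?_
    obtain ⟨a, t, rfl⟩ := IsLocalization.exists_mk'_eq p.primeCompl c
    choose sx hsx qx hqx using fun i => clear_poly p (x i)
    let S : R := ∏ i, sx i
    have hS : S ∉ p := fun h => by
      obtain ⟨i, -, hi⟩ := Ideal.IsPrime.prod_mem_iff.1 h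
      exact hsx i hi
    let f₀ : F := fun i => C (∏ j ∈ Finset.univ.erase i, sx j) * qx i
    have hf₀ : μ p f₀ = (C S : P) • x := _root_.funext fun i => by
      show algebraMap P PV (C _ * qx i) = (C S : P) • x i
      rw [map_mul, ← hqx i, Algebra.smul_def, ← mul_assoc, ← map_mul, ← C_mul]
      simp only [S, Finset.prod_erase_mul _ _ (Finset.mem_univ i)]
      rfl
    obtain ⟨s₁, hs₁, f, hf, hf'⟩ := clear p K hcx
    have key : (C (s₁ * a) : P) • f₀ = (C (S * t) : P) • f := by
      apply μ_injective p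
      rw [map_smul, map_smul, ← hf', hf₀]
      funext i
      have hca : algebraMap P PV (C (t : R)) * algebraMap V PV (IsLocalization.mk' V a t) = algebraMap P PV (C a) := by
        show MvPolynomial.map (algebraMap R V) (C (t : R)) * C (IsLocalization.mk' V a t) = MvPolynomial.map (algebraMap R V) (C a)
        rw [map_C, map_C, ← map_mul, IsLocalization.mk'_spec']
      simp only [Pi.smul_apply, Algebra.smul_def, Pi.mul_apply, Pi.algebraMap_apply, map_mul, Algebra.algebraMap_self, RingHom.id_apply]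
      linear_combination (-(algebraMap P PV (C s₁) * algebraMap P PV (C S) * x i)) * hca
    have ha0 : a ≠ 0 := fun h => hc (by rw [h, IsLocalization.mk'_zero])
    have hs0 : s₁ ≠ 0 := fun h => hs₁ (h ▸ p.zero_mem)
    have hf₀K : f₀ ∈ K := hsat (s₁ * a) f₀ (mul_ne_zero hs0 ha0) (key ▸ K.smul_mem _ hf)
    have hu : IsUnit (algebraMap P PV (C S)) :=
      IsLocalization.map_units PV (⟨C S, S, hS, rfl⟩ : p.primeCompl.map (C : R →+* P))
    have : x = hu.unit⁻¹.1 • μ p f₀ := by
      rw [hf₀, ← algebraMap_smul PV (C S : P) x, smul_smul, IsUnit.val_inv_mul, one_smul]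
    rw [this]
    exact KV.smul_mem _ (Submodule.subset_span ⟨f₀, hf₀K, rfl⟩)
  obtain ⟨GV, hGV⟩ := hKV
  choose! T hTK hT using fun g (hg : g ∈ GV) => Submodule.mem_span_finite_of_mem_span
    (show g ∈ Submodule.span PV ((μ p) '' (K : Set F)) from hGV.le (Submodule.subset_span hg))
  let T' : Finset (Fin r → PV) := GV.biUnion T
  have hT' : ∀ y ∈ T', ∃ f ∈ K, μ p f = y := fun y hy => by
    obtain ⟨g, hg, hy⟩ := Finset.mem_biUnion.1 hy
    exact hTK g hg hy
  choose! f hfK hfy using hT'
  let G : Finset F := T'.image f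
  let K' : Submodule P F := Submodule.span P (G : Set F)
  have hGK : (G : Set F) ⊆ K := fun x hx => by
    obtain ⟨y, hy, rfl⟩ := Finset.mem_image.1 hx
    exact hfK y hy
  have hloc : ∀ x ∈ K, ∃ s' ∉ p, (C s' : P) • x ∈ K' := by
    intro x hx
    have hx' : μ p x ∈ Submodule.span PV ((μ p) '' (K' : Set F)) := by
      have h1 : μ p x ∈ KV := Submodule.subset_span ⟨x, hx, rfl⟩
      rw [← hGV] at h1
      refine (Submodule.span_le.2 fun g hg => ?_) h1
      refine (Submodule.span_le.2 fun y hy => ?_) (hT g hg)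
      have hy' : y ∈ T' := Finset.mem_biUnion.2 ⟨g, hg, hy⟩
      exact Submodule.subset_span ⟨f y, Submodule.subset_span (Finset.mem_image_of_mem f hy'), hfy y hy'⟩
    obtain ⟨s', hs', g, hg, hg'⟩ := clear p K' hx'
    rw [← map_smul] at hg'
    exact ⟨s', hs', (μ_injective p hg') ▸ hg⟩
  let Q := F ⧸ K'
  haveI : Module.FinitePresentation P Q :=
    Module.finitePresentation_of_surjective K'.mkQ K'.mkQ_surjective (by rw [Submodule.ker_mkQ]; exact ⟨G, rfl⟩)
  have hflatp : ∀ q : PrimeSpectrum P, (∀ s : R, (C s : P) ∉ q.asIdeal ∨ s ∈ p) →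
      Module.Flat R (LocalizedModule q.asIdeal.primeCompl Q) := by
    intro q hq
    rw [Module.Flat.flat_iff_torsion_eq_bot_of_valuationRing_localization_isMaximal (fun m hm => hR m),
      eq_bot_iff]
    intro z hz
    obtain ⟨c, hc⟩ := hz
    have hc0 : (c : R) ≠ 0 := nonZeroDivisors.coe_ne_zero c
    induction z using LocalizedModule.induction_on with
    | _ y t =>
      obtain ⟨y, rfl⟩ := K'.mkQ_surjective y
      rw [Submonoid.smul_def, ← IsScalarTower.algebraMap_smul P (c : R), LocalizedModule.smul'_mk,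
        ← LocalizedModule.zero_mk t, LocalizedModule.mk_eq] at hc
      obtain ⟨w, hw⟩ := hc
      simp only [smul_zero, Submonoid.smul_def] at hw
      rw [smul_smul (t : P), smul_smul (w : P), Submodule.mkQ_apply, ← Submodule.Quotient.mk_smul,
        Submodule.Quotient.mk_eq_zero, MvPolynomial.algebraMap_eq] at hw
      have h1 : ((w : P) * t) • y ∈ K := by
        refine hsat c _ hc0 ?_
        rw [smul_smul, mul_comm]
        have : (w : P) * ((t : P) * C (c : R)) = (w : P) * (t : P) * C (c : R) := (mul_assoc _ _ _).symm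
        rw [← this]
        exact (Submodule.span_le.2 hGK) hw
      obtain ⟨s', hs', h2⟩ := hloc _ h1
      rw [Submodule.mem_bot, ← LocalizedModule.zero_mk t, LocalizedModule.mk_eq]
      refine ⟨⟨C s' * (w : P), fun h => (q.2.mem_or_mem h).elim ((hq s').resolve_right hs') w.2⟩, ?_⟩
      simp only [smul_zero, Submonoid.smul_def]
      rw [smul_smul, Submodule.mkQ_apply, ← Submodule.Quotient.mk_smul, Submodule.Quotient.mk_eq_zero, mul_assoc,
        ← smul_smul]
      exact h2
  have hopen := Groth.FlatMorOne.isOpen_flatLocus R P Q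
  obtain ⟨J, hJ⟩ := (PrimeSpectrum.isClosed_iff_zeroLocus_ideal _).1 hopen.isClosed_compl
  have hs : ∃ s ∉ p, (C s : P) ∈ J := by
    by_contra hc
    push Not at hc
    obtain ⟨q, hq, hJq, hqd⟩ := Ideal.exists_le_prime_disjoint J (p.primeCompl.map (C : R →+* P)) (by
      rw [Set.disjoint_left]
      rintro _ h ⟨s, hs, rfl⟩
      exact hc s hs h)
    have : (⟨q, hq⟩ : PrimeSpectrum P) ∈ PrimeSpectrum.zeroLocus (J : Set P) := hJq
    rw [← hJ] at this
    refine this (hflatp ⟨q, hq⟩ fun s => ?_)
    by_cases hs : s ∈ p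
    · exact Or.inr hs
    · exact Or.inl fun h => Set.disjoint_left.1 hqd h ⟨s, hs, rfl⟩
  obtain ⟨s, hs, hsJ⟩ := hs
  refine ⟨s, G, hs, hGK, fun x hx => ?_⟩
  obtain ⟨s', hs', hx'⟩ := hloc x hx
  let A : Ideal P := (⊥ : Submodule P Q).colon {K'.mkQ x}
  have hA : ∀ a : P, a ∈ A ↔ a • x ∈ K' := fun a => by
    rw [← Submodule.Quotient.mk_eq_zero K', Submodule.Quotient.mk_smul]
    exact Submodule.mem_colon_singleton.trans (Submodule.mem_bot P)
  have hrad : (C s : P) ∈ A.radical := by
    rw [Ideal.radical_eq_sInf, Ideal.mem_sInf]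
    rintro q ⟨hAq, hq⟩
    by_contra hsq
    have hflat : Module.Flat R (LocalizedModule q.primeCompl Q) := by
      by_contra hnf
      have hmem : (⟨q, hq⟩ : PrimeSpectrum P) ∈ {q : PrimeSpectrum P | Module.Flat R (LocalizedModule q.asIdeal.primeCompl Q)}ᶜ := hnf
      rw [hJ] at hmem
      exact hsq (hmem hsJ)
    have hs'0 : s' ≠ 0 := fun h => hs' (h ▸ p.zero_mem)
    have h0 : LocalizedModule.mk (K'.mkQ x) (1 : q.primeCompl) = 0 := by
      have htor := Module.Flat.torsion_eq_bot (R := R) (M := LocalizedModule q.primeCompl Q)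
      have : LocalizedModule.mk (K'.mkQ x) (1 : q.primeCompl) ∈ Submodule.torsion R (LocalizedModule q.primeCompl Q) := by
        refine ⟨⟨s', mem_nonZeroDivisors_of_ne_zero hs'0⟩, ?_⟩
        rw [Submonoid.smul_def, ← IsScalarTower.algebraMap_smul P s', LocalizedModule.smul'_mk,
          MvPolynomial.algebraMap_eq, Submodule.mkQ_apply, ← Submodule.Quotient.mk_smul,
          (Submodule.Quotient.mk_eq_zero K').2 hx', LocalizedModule.zero_mk]
      rwa [htor, Submodule.mem_bot] at this
    rw [← LocalizedModule.zero_mk (1 : q.primeCompl), LocalizedModule.mk_eq] at h0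
    obtain ⟨w, hw⟩ := h0
    simp only [Submonoid.smul_def, OneMemClass.coe_one, one_smul, smul_zero, Submodule.mkQ_apply,
      ← Submodule.Quotient.mk_smul, Submodule.Quotient.mk_eq_zero] at hw
    exact w.2 (hAq ((hA _).2 hw))
  obtain ⟨n, hn⟩ := hrad
  rw [← map_pow, hA] at hn
  exact ⟨n, hn⟩

include hR hsat in
theorem fg_of_saturated : K.FG := by
  classical
  choose s G hs hGK hG using fun p : PrimeSpectrum R => exists_local hR K hsat p.asIdeal
  have htop : Ideal.span (Set.range s) = ⊤ := by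
    by_contra hne
    obtain ⟨m, hm, hle⟩ := Ideal.exists_le_maximal _ hne
    exact hs ⟨m, hm.isPrime⟩ (hle (Ideal.subset_span ⟨_, rfl⟩))
  obtain ⟨T, hT, h1⟩ := Submodule.mem_span_finite_of_mem_span
    (show (1 : R) ∈ Submodule.span R (Set.range s) from (Ideal.eq_top_iff_one _).1 htop)
  choose! pt hpt using fun t (ht : t ∈ T) => hT ht
  let G' : Finset F := T.biUnion fun t => G (pt t)
  refine ⟨G', le_antisymm (Submodule.span_le.2 fun x hx => ?_) fun x hx => ?_⟩
  · obtain ⟨t, -, hx⟩ := Finset.mem_biUnion.1 (Finset.mem_coe.1 hx)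
    exact hGK _ hx
  · let A : Ideal R := ((Submodule.span P (G' : Set F)).restrictScalars R).comap (LinearMap.toSpanSingleton R F x)
    have hA : ∀ a : R, a ∈ A ↔ (C a : P) • x ∈ Submodule.span P (G' : Set F) := fun a => by
      rw [← MvPolynomial.algebraMap_eq, IsScalarTower.algebraMap_smul]
      rfl
    have hAtop : A.radical = ⊤ := by
      rw [Ideal.eq_top_iff_one]
      refine (Submodule.span_le.2 fun t ht => ?_) h1
      rw [← hpt t ht]
      obtain ⟨n, hn⟩ := hG (pt t) x hx
      exact ⟨n, (hA _).2 ((Submodule.span_mono fun y hy => Finset.mem_biUnion.2 ⟨t, ht, hy⟩) hn)⟩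
    rw [Ideal.radical_eq_top] at hAtop
    have h := (hA 1).1 (hAtop ▸ Submodule.mem_top : (1 : R) ∈ A)
    rwa [map_one, one_smul] at h

end Groth.Calg7.PruferFG
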