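import Mathlib
import Groth.Agent.RefRank.Algebra

/-!
Reduced principal ideals inside a radical ideal of a normal Noetherian local domain.
-/

set_option autoImplicit false

namespace Groth.Calg7.ReducedPrincipal

universe u

variable {R : Type u} [CommRing R]

theorem exists_mul_pow_mem {I q : Ideal R} (hq : q ∈ I.minimalPrimes) {t : R} (ht : t ∈ q) :
    ∃ s ∉ q, ∃ n : ℕ, s * t ^ n ∈ I := by
  have := hq.1.1
  by_contra hc
  push Not at hc
  have hd : Disjoint (I : Set R) ((q.primeCompl ⊔ Submonoid.powers t : Submonoid R) : Set R) := by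
    rw [Set.disjoint_left]
    intro x hx hx'
    obtain ⟨s, hs, y, ⟨n, rfl⟩, rfl⟩ := Submonoid.mem_sup.1 hx'
    exact hc s hs n hx
  obtain ⟨P, hP, hIP, hPd⟩ := Ideal.exists_le_prime_disjoint I _ hd
  rw [Set.disjoint_left] at hPd
  have hPq : P ≤ q := fun x hx => by
    by_contra hxq
    exact hPd hx (Submonoid.mem_sup_left (T := Submonoid.powers t) hxq)
  have : q ≤ P := hq.2 ⟨hP, hIP⟩ hPq
  exact hPd (this ht) (Submonoid.mem_sup_right (S := q.primeCompl) (Submonoid.mem_powers t))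

section Domain

variable [IsDomain R] [IsNoetherianRing R]

theorem eq_of_le_of_height_one {p q : Ideal R} [p.IsPrime] [q.IsPrime] (hp : p.height = 1) (hq : q.height = 1)
    (h : p ≤ q) : p = q := by
  by_contra hne
  have h1 := Ideal.height_strict_mono_of_isPrime (lt_of_le_of_ne h hne)
  rw [hp, hq] at h1
  exact lt_irrefl _ h1

theorem mem_minimalPrimes_of_height_one {q : Ideal R} [q.IsPrime] (hq : q.height = 1) {I : Ideal R} (hI : I ≠ ⊥)
    (hle : I ≤ q) : q ∈ I.minimalPrimes := by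
  refine ⟨⟨‹_›, hle⟩, fun p hp hpq => ?_⟩
  have := hp.1
  rcases eq_or_lt_of_le hpq with h | h
  · exact h.ge
  exfalso
  have h1 := Ideal.height_strict_mono_of_isPrime h
  rw [hq, ENat.lt_one_iff_eq_zero, Ideal.height_eq_zero_iff_eq_bot] at h1
  exact hI (le_bot_iff.1 (h1 ▸ hp.2))

theorem height_eq_one_of_mem_minimalPrimes {f : R} (hf : f ≠ 0) {q : Ideal R}
    (hq : q ∈ (Ideal.span {f}).minimalPrimes) : q.height = 1 := by
  have := hq.1.1
  refine le_antisymm (Ideal.height_le_one_of_isPrincipal_of_mem_minimalPrimes _ _ hq) ?_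
  rw [Order.one_le_iff_ne_zero]
  intro h
  rw [Ideal.height_eq_zero_iff_eq_bot] at h
  exact hf (by simpa [h] using hq.1.2 (Ideal.mem_span_singleton_self f))

theorem finite_height_one {f : R} (hf : f ≠ 0) :
    {q : Ideal R | q.IsPrime ∧ q.height = 1 ∧ f ∈ q}.Finite := by
  refine (Ideal.finite_minimalPrimes_of_isNoetherianRing R (Ideal.span {f})).subset fun q hq => ?_
  have := hq.1
  exact mem_minimalPrimes_of_height_one hq.2.1 (by simpa using hf) ((Ideal.span_singleton_le_iff_mem q).2 hq.2.2)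

variable [IsIntegrallyClosed R]

theorem exists_generator {q : Ideal R} [q.IsPrime] (hq : q.height = 1) :
    ∃ π ∈ q, ∃ s ∉ q, ∀ x ∈ q, ∃ t, s * x = t * π := by
  have hq0 : q ≠ ⊥ := Ideal.ne_bot_of_height_eq_one hq
  obtain ⟨b, hb, hb0⟩ := Submodule.exists_mem_ne_zero_of_ne_bot hq0
  have hmin := mem_minimalPrimes_of_height_one hq (I := Ideal.span {b}) (by simpa using hb0)
    ((Ideal.span_singleton_le_iff_mem q).2 hb)
  have hass : q ∈ associatedPrimes R (R ⧸ Ideal.span {b}) := by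
    refine Module.associatedPrimes.minimalPrimes_annihilator_subset_associatedPrimes R _ ?_
    rwa [Ideal.annihilator_quotient]
  obtain ⟨-, y', hy'⟩ := isAssociatedPrime_iff.mp hass
  obtain ⟨y, rfl⟩ := Ideal.Quotient.mk_surjective y'
  have hmem : ∀ r : R, r ∈ q ↔ b ∣ r * y := fun r => by
    rw [hy', Submodule.mem_colon_singleton, Submodule.mem_bot, Algebra.smul_def,
      Ideal.Quotient.algebraMap_eq, ← map_mul, Ideal.Quotient.eq_zero_iff_mem, Ideal.mem_span_singleton]
  refine RefRank.exists_generator_up_to hq0 hb0 (fun hd => ‹q.IsPrime›.ne_top ?_) fun r hr => (hmem r).1 hr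
  exact (Ideal.eq_top_iff_one q).2 ((hmem 1).2 (by rwa [one_mul]))

/-- `f` generates the maximal ideal of `R_q`. -/
def Simple (f : R) (q : Ideal R) : Prop := ∀ x ∈ q, ∃ s ∉ q, f ∣ s * x

theorem isReduced_of_simple {f : R} (hf : f ≠ 0)
    (h : ∀ q : Ideal R, q.IsPrime → q.height = 1 → f ∈ q → Simple f q) : IsReduced (R ⧸ Ideal.span {f}) := by
  rw [← Ideal.isRadical_iff_quotient_reduced]
  intro x ⟨n, hn⟩
  rw [Ideal.mem_span_singleton] at hn ⊢
  refine RefRank.dvd_of_height_one hf fun q hq hq1 => ?_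
  by_cases hfq : f ∈ q
  · exact h q hq hq1 hfq x (hq.mem_of_pow_mem n (Ideal.mem_of_dvd _ hn hfq))
  · exact ⟨f, hfq, dvd_mul_right f x⟩

end Domain

section Chain

variable [IsNoetherianRing R]

theorem le_map_of_map_quotient_eq (P : Ideal R) [P.IsPrime] (A B I : Ideal R) (f h : R)
    (hI : I ≤ Ideal.span {f} ⊔ Ideal.span {h}) (hfB : f ∈ B) (hBA : B ≤ A) (hhP : h ∈ P)
    (hh : ∀ b, b * h ∈ A → b ∈ A)
    (heq : (B.map (algebraMap R (Localization.AtPrime P))).map (Ideal.Quotient.mk (I.map (algebraMap R (Localization.AtPrime P)))) =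
      (A.map (algebraMap R (Localization.AtPrime P))).map (Ideal.Quotient.mk (I.map (algebraMap R (Localization.AtPrime P))))) :
    A.map (algebraMap R (Localization.AtPrime P)) ≤ B.map (algebraMap R (Localization.AtPrime P)) := by
  set a := algebraMap R (Localization.AtPrime P) with ha
  have h2 : A.map a ≤ B.map a ⊔ I.map a := by
    refine le_trans Ideal.le_comap_map (b := ((A.map a).map (Ideal.Quotient.mk (I.map a))).comap _) ?_
    rw [← heq, Ideal.comap_map_of_surjective' _ Ideal.Quotient.mk_surjective, Ideal.mk_ker]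
  have hIle : I.map a ≤ B.map a ⊔ Ideal.span {a h} := by
    refine (Ideal.map_mono hI).trans ?_
    rw [Ideal.map_sup, Ideal.map_span, Ideal.map_span, Set.image_singleton, Set.image_singleton]
    exact sup_le_sup_right ((Ideal.span_singleton_le_iff_mem _).2 (Ideal.mem_map_of_mem _ hfB)) _
  refine Submodule.le_of_le_smul_of_le_jacobson_bot (I := Ideal.span {a h}) (IsNoetherian.noetherian _) ?_ ?_
  · rw [IsLocalRing.jacobson_eq_maximalIdeal _ bot_ne_top, Ideal.span_singleton_le_iff_mem,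
      ← Localization.AtPrime.map_eq_maximalIdeal]
    exact Ideal.mem_map_of_mem _ hhP
  intro x hx
  obtain ⟨y, hy, z, hz, rfl⟩ := Submodule.mem_sup.1 ((h2.trans (sup_le le_sup_left hIle)) hx)
  obtain ⟨r, rfl⟩ := Ideal.mem_span_singleton'.1 hz
  refine Submodule.mem_sup.2 ⟨y, hy, _, ?_, rfl⟩
  rw [mul_comm]
  refine Submodule.smul_mem_smul (Ideal.mem_span_singleton_self _) ?_
  have hrh : r * a h ∈ A.map a := by
    have := Ideal.sub_mem _ hx (Ideal.map_mono hBA hy)
    rwa [add_sub_cancel_left] at this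
  obtain ⟨b, s, rfl⟩ := IsLocalization.exists_mk'_eq P.primeCompl r
  rw [IsLocalization.mk'_mem_iff]
  have hbh : a (b * h) ∈ A.map a := by
    have := Ideal.mul_mem_left _ (a s) hrh
    rwa [← mul_assoc, IsLocalization.mk'_spec', ← map_mul] at this
  rw [IsLocalization.algebraMap_mem_map_algebraMap_iff P.primeCompl] at hbh ⊢
  obtain ⟨m, hm, hmb⟩ := hbh
  exact ⟨m, hm, hh _ (by rwa [mul_assoc])⟩

/-- The number of primes containing a common element, each with a minimal prime over `(f₁, h)` above it. -/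
theorem exists_bound (I : Ideal R) : ∃ L : ℕ, ∀ (f h : R) (n : ℕ) (q : Fin n → Ideal R),
    I ≤ Ideal.span {f} ⊔ Ideal.span {h} → (∀ i, (q i).IsPrime) → (∀ i, f ∈ q i) → (∀ i, h ∉ q i) →
    (∀ i j, q i ≤ q j → i = j) → (∀ i, ∃ P ∈ I.minimalPrimes, q i ≤ P ∧ h ∈ P) → n ≤ L := by
  classical
  haveI : Fintype I.minimalPrimes := (Ideal.finite_minimalPrimes_of_isNoetherianRing R I).fintype
  haveI hpr : ∀ P : I.minimalPrimes, (P : Ideal R).IsPrime := fun P => P.2.1.1
  let T := fun P : I.minimalPrimes =>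
    Localization.AtPrime (P : Ideal R) ⧸ I.map (algebraMap R (Localization.AtPrime (P : Ideal R)))
  have hart : ∀ P, IsArtinianRing (T P) := fun P => by
    rw [isArtinianRing_iff_isNoetherianRing_krullDimLE_zero]
    refine ⟨inferInstance, Ring.krullDimLE_zero_iff.2 fun Q hQ => ?_⟩
    let g := Ideal.Quotient.mk (I.map (algebraMap R (Localization.AtPrime (P : Ideal R))))
    have hQ' : (Q.comap g).IsPrime := Ideal.comap_isPrime g Q
    have h1 : (Q.comap g).comap (algebraMap R _) ≤ (P : Ideal R) :=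
      ((IsLocalization.AtPrime.orderIsoOfPrime _ (P : Ideal R)) ⟨_, hQ'⟩).2.2
    have h2 : I ≤ (Q.comap g).comap (algebraMap R _) := fun x hx => by
      show g _ ∈ Q
      rw [Ideal.Quotient.eq_zero_iff_mem.2 (Ideal.mem_map_of_mem _ hx)]
      exact Q.zero_mem
    have h3 : (P : Ideal R) ≤ (Q.comap g).comap (algebraMap R _) :=
      P.2.2 ⟨Ideal.comap_isPrime _ _, h2⟩ h1
    have h4 : IsLocalRing.maximalIdeal (Localization.AtPrime (P : Ideal R)) ≤ Q.comap g := by
      rw [← Localization.AtPrime.map_eq_maximalIdeal, Ideal.map_le_iff_le_comap]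
      exact h3
    have h5 : (Q.comap g).IsMaximal :=
      le_antisymm (IsLocalRing.le_maximalIdeal hQ'.ne_top) h4 ▸ IsLocalRing.maximalIdeal.isMaximal _
    rw [← Ideal.map_comap_of_surjective g Ideal.Quotient.mk_surjective Q]
    exact (Ideal.map_eq_top_or_isMaximal_of_surjective g Ideal.Quotient.mk_surjective h5).resolve_left
      (by rw [Ideal.map_comap_of_surjective g Ideal.Quotient.mk_surjective]; exact hQ.ne_top)
  have hfl : IsFiniteLength (∀ P, T P) (∀ P, T P) := by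
    rw [isFiniteLength_iff_isNoetherian_isArtinian]
    exact ⟨inferInstance, inferInstance⟩
  obtain ⟨L, hL⟩ := ENat.ne_top_iff_exists.1 (Module.length_ne_top_iff.2 hfl)
  refine ⟨L, fun f h n q hI hq hfq hhq hinj hP => ?_⟩
  choose P hPmem hqP hhP using hP
  let Ψ : R →+* ∀ P, T P := Pi.ringHom fun P => (Ideal.Quotient.mk _).comp (algebraMap R _)
  let A : Fin (n + 1) → Ideal R := fun k => (Finset.univ.filter fun i : Fin n => i.castSucc < k).inf q
  have hmemA : ∀ k x, x ∈ A k ↔ ∀ i : Fin n, i.castSucc < k → x ∈ q i := fun k x => by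
    simp [A, Submodule.mem_finsetInf]
  let D : Fin (n + 1) → Ideal (∀ P, T P) := fun k => (A k).map Ψ
  have hanti : StrictAnti D := by
    rw [Fin.strictAnti_iff_succ_lt]
    intro k
    have hle : A k.succ ≤ A k.castSucc := fun x hx => by
      rw [hmemA] at hx ⊢
      exact fun i hi => hx i (hi.trans Fin.castSucc_lt_succ)
    refine lt_of_le_of_ne (Ideal.map_mono hle) fun heq => ?_
    let P₀ : I.minimalPrimes := ⟨P k, hPmem k⟩
    have h1 := congrArg (Ideal.map (Pi.evalRingHom T P₀)) heq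
    simp only [D, Ideal.map_map] at h1
    let a := algebraMap R (Localization.AtPrime (P₀ : Ideal R))
    have h4 : (A k.castSucc).map a ≤ (A k.succ).map a := by
      refine le_map_of_map_quotient_eq (P₀ : Ideal R) (A k.castSucc) (A k.succ) I f h hI
        ((hmemA _ _).2 fun i _ => hfq i) hle (hhP k) (fun b hb => (hmemA _ _).2 fun i hi => ?_) ?_
      · exact ((hq i).mem_or_mem ((hmemA _ _).1 hb i hi)).resolve_right (hhq i)
      · rw [Ideal.map_map, Ideal.map_map]
        exact h1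
    have hx : ∃ x ∈ A k.castSucc, x ∉ q k := by
      by_contra hc
      push Not at hc
      obtain ⟨i, hi, hik⟩ := ((hq k).inf_le').1 (show A k.castSucc ≤ q k from hc)
      have : i = k := hinj i k hik
      simp [this] at hi
    obtain ⟨x, hx, hxk⟩ := hx
    obtain ⟨m, hm, hmx⟩ := (IsLocalization.algebraMap_mem_map_algebraMap_iff (P₀ : Ideal R).primeCompl _ _ _).1
      (h4 (Ideal.mem_map_of_mem a hx))
    exact hxk (((hq k).mem_or_mem ((hmemA _ _).1 hmx k Fin.castSucc_lt_succ)).resolve_left fun hmk => hm (hqP k hmk))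
  let S : LTSeries (Submodule (∀ P, T P) (∀ P, T P)) :=
    LTSeries.mk n (fun k => D k.rev) fun i j hij => hanti (Fin.rev_lt_rev.2 hij)
  have h1 := Order.LTSeries.length_le_krullDim S
  rw [← Module.coe_length, ← hL] at h1
  exact_mod_cast h1

end Chain

section Main

variable [IsDomain R] [IsNoetherianRing R] [IsLocalRing R] [IsIntegrallyClosed R]

theorem step {J : Ideal R} (hJ : J.IsRadical) {f h : R} (hf : f ≠ 0) (hfJ : f ∈ J)
    (hh : ∀ q : Ideal R, q.IsPrime → q.height = 1 → f ∈ q → h ∉ q) (hhm : h ∈ IsLocalRing.maximalIdeal R)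
    {q₀ : Ideal R} [q₀.IsPrime] (hq₀ : q₀.height = 1) (hfq₀ : f ∈ q₀) (hns : ¬ Simple f q₀) :
    ∃ f' ∈ J, f' ≠ 0 ∧ f' - f ∈ Ideal.span {h} ∧
      {q : Ideal R | q.IsPrime ∧ q.height = 1 ∧ f ∈ q} ⊂ {q : Ideal R | q.IsPrime ∧ q.height = 1 ∧ f' ∈ q} := by
  classical
  set Q := {q : Ideal R | q.IsPrime ∧ q.height = 1 ∧ f ∈ q} with hQ
  have hJ0 : J ≠ ⊥ := fun e => hf (by simpa [e] using hfJ)
  obtain ⟨π, hπ, s₀, hs₀, hgen⟩ := exists_generator hq₀
  have hfin := Ideal.finite_minimalPrimes_of_isNoetherianRing R J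
  have hw : ∃ w ∉ q₀, ∀ p ∈ J.minimalPrimes, p ≠ q₀ → w ∈ p := by
    by_contra hc
    push Not at hc
    have hle : (hfin.toFinset.erase q₀).inf id ≤ q₀ := fun x hx => by
      by_contra hxq
      obtain ⟨p, hp, hpne, hxp⟩ := hc x hxq
      exact hxp (Submodule.mem_finsetInf.1 hx p (Finset.mem_erase.2 ⟨hpne, hfin.mem_toFinset.2 hp⟩))
    obtain ⟨p, hp, hpq⟩ := (Ideal.IsPrime.inf_le' ‹_›).1 hle
    obtain ⟨hpne, hp⟩ := Finset.mem_erase.1 hp
    have hp' := hfin.mem_toFinset.1 hp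
    exact hpne (le_antisymm hpq ((mem_minimalPrimes_of_height_one hq₀ hJ0 (hp'.1.2.trans hpq)).2 hp'.1 hpq))
  obtain ⟨w, hwq, hw⟩ := hw
  have hπw : π * w ∈ J := by
    rw [← hJ.radical, ← Ideal.sInf_minimalPrimes]
    refine Ideal.mem_sInf.2 fun {p} hp => ?_
    by_cases hpq : p = q₀
    · exact hpq ▸ q₀.mul_mem_right _ hπ
    · exact p.mul_mem_left _ (hw p hp hpq)
  have hQfin : Q.Finite := finite_height_one hf
  have hA : ∀ q ∈ Q, q ≠ q₀ → ∃ a ∉ q₀, ∃ s ∉ q, ∃ m ∈ q, s * a = f * m := by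
    rintro q ⟨hq, hq1, hfq⟩ hne
    obtain ⟨t, ht, htq⟩ := Set.not_subset.1 fun hle => hne (eq_of_le_of_height_one hq1 hq₀ hle)
    have hb : Ideal.span {f} * q ≠ ⊥ := mul_ne_zero (by simpa using hf) (Ideal.ne_bot_of_height_eq_one hq1)
    obtain ⟨s, hs, n, hn⟩ := exists_mul_pow_mem (mem_minimalPrimes_of_height_one hq1 hb Ideal.mul_le_right) ht
    obtain ⟨m, hm, hmf⟩ := Ideal.mem_span_singleton_mul.1 hn
    exact ⟨t ^ n, fun hc => htq (‹q₀.IsPrime›.mem_of_pow_mem n hc), s, hs, m, hm, hmf.symm⟩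
  choose! a ha s hs m hm ham using hA
  let δ : R := h * (π * w) * ∏ q ∈ hQfin.toFinset.erase q₀, a q
  have hδh : δ ∈ Ideal.span {h} := Ideal.mem_span_singleton.2 (Dvd.intro _ (mul_assoc _ _ _).symm)
  let f' := f + δ
  have hdiff : f' - f ∈ Ideal.span {h} := by simpa [f'] using hδh
  -- behaviour at `q₀`
  obtain ⟨c, hc⟩ := hgen f hfq₀
  have hcq : c ∈ q₀ := by
    by_contra hcq
    refine hns fun x hx => ?_
    obtain ⟨t, ht⟩ := hgen x hx
    exact ⟨c * s₀, fun hh => (‹q₀.IsPrime›.mem_or_mem hh).elim hcq hs₀, t * s₀,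
      by linear_combination c * ht - t * hc⟩
  let u := c + s₀ * (h * w) * ∏ q ∈ hQfin.toFinset.erase q₀, a q
  have hu : u ∉ q₀ := by
    intro hu
    rcases ‹q₀.IsPrime›.mem_or_mem ((q₀.add_mem_iff_right hcq).1 hu) with h1 | h1
    · rcases ‹q₀.IsPrime›.mem_or_mem h1 with h2 | h2
      · exact hs₀ h2
      · exact (‹q₀.IsPrime›.mem_or_mem h2).elim (hh q₀ ‹_› hq₀ hfq₀) hwq
    · obtain ⟨q, hq, hqa⟩ := (Ideal.IsPrime.prod_mem_iff).1 h1
      obtain ⟨hne, hq⟩ := Finset.mem_erase.1 hq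
      exact ha q (hQfin.mem_toFinset.1 hq) hne hqa
  have hf'0 : s₀ * f' = u * π := by simp only [f', u, δ]; linear_combination hc
  have hf'ne : f' ≠ 0 := by
    intro e
    rw [e, mul_zero] at hf'0
    rcases mul_eq_zero.1 hf'0.symm with h1 | h1
    · exact hu (h1 ▸ q₀.zero_mem)
    · rw [h1, mul_zero] at hc
      exact hs₀ ((mul_eq_zero.1 hc).resolve_right hf ▸ q₀.zero_mem)
  have hsimp : Simple f' q₀ := fun x hx => by
    obtain ⟨t, ht⟩ := hgen x hx
    exact ⟨u * s₀, fun hh => (‹q₀.IsPrime›.mem_or_mem hh).elim hu hs₀, t * s₀,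
      by linear_combination u * ht - t * hf'0⟩
  -- behaviour at the other old primes
  have hold : ∀ q ∈ Q, q ≠ q₀ → f' ∈ q ∧ ∃ r ∉ q, f' ∣ r * f := by
    intro q hq hne
    have := hq.1
    obtain ⟨d, hd⟩ := Finset.dvd_prod_of_mem a (Finset.mem_erase.2 ⟨hne, hQfin.mem_toFinset.2 hq⟩)
    have hsδ : s q * δ = f * (h * (π * w) * d * m q) := by
      simp only [δ]; rw [hd]; linear_combination (h * (π * w) * d) * ham q hq hne
    have hmq : h * (π * w) * d * m q ∈ q := q.mul_mem_left _ (hm q hq hne)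
    refine ⟨?_, s q + h * (π * w) * d * m q,
      fun hc => hs q hq hne ((q.add_mem_iff_left hmq).1 hc), s q, by simp only [f']; linear_combination -hsδ⟩
    refine q.add_mem hq.2.2 ((hq.1.mem_or_mem ?_).resolve_left (hs q hq hne))
    rw [hsδ]; exact q.mul_mem_right _ hq.2.2
  refine ⟨f', J.add_mem hfJ (J.mul_mem_right _ (J.mul_mem_left _ hπw)), hf'ne, hdiff, ?_⟩
  rw [Set.ssubset_def]
  refine ⟨fun q hq => ⟨hq.1, hq.2.1, ?_⟩, fun hsub => ?_⟩
  · by_cases hne : q = q₀
    · subst hne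
      exact ((hq.1.mem_or_mem (hf'0 ▸ q.mul_mem_left u hπ)).resolve_left hs₀)
    · exact (hold q hq hne).1
  · have hdvd : f' ∣ f := RefRank.dvd_of_height_one hf'ne fun q hq hq1 => by
      by_cases hfq' : f' ∈ q
      · have hqQ : q ∈ Q := hsub ⟨hq, hq1, hfq'⟩
        by_cases hne : q = q₀
        · subst hne
          exact hsimp f hfq₀
        · exact (hold q hqQ hne).2
      · exact ⟨f', hfq', dvd_mul_right f' f⟩
    obtain ⟨b, hb⟩ := hdvd
    have hbu : ¬ IsUnit b := fun hbu => hns fun x hx => by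
      obtain ⟨r, hr, hd⟩ := hsimp x hx
      exact ⟨r, hr, by rw [hb]; exact (hbu.mul_right_dvd).2 hd⟩
    have hb1 : IsUnit (1 - b) := IsLocalRing.isUnit_one_sub_self_of_mem_nonunits b hbu
    have hδ : δ = f' * (1 - b) := by rw [mul_sub, mul_one, ← hb]; simp [f']
    have hf'h : f' ∈ Ideal.span {h} := (Ideal.mul_unit_mem_iff_mem _ hb1).1 (hδ ▸ hδh)
    have hfh : f ∈ Ideal.span {h} := by
      have := Ideal.sub_mem _ hf'h hdiff
      rwa [sub_sub_cancel] at this
    have hh0 : h ≠ 0 := fun e => hf (by simpa [e] using hfh)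
    obtain ⟨p, hp, -⟩ := Ideal.exists_minimalPrimes_le
      ((Ideal.span_singleton_le_iff_mem _).2 hhm : Ideal.span {h} ≤ IsLocalRing.maximalIdeal R)
    exact hh p hp.1.1 (height_eq_one_of_mem_minimalPrimes hh0 hp) (hp.1.2 hfh) (hp.1.2 (Ideal.mem_span_singleton_self h))

theorem exists_isReduced
    (hdim : ∀ (q : Ideal R) (h : R), q.IsPrime → q.height = 1 → h ∉ q →
      ∀ P ∈ (q ⊔ Ideal.span {h}).minimalPrimes, P.height ≤ 2)
    {J : Ideal R} (hJ : J.IsRadical) (hJ0 : J ≠ ⊥) :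
    ∃ f ∈ J, f ≠ 0 ∧ IsReduced (R ⧸ Ideal.span {f}) := by
  classical
  rcases eq_or_ne J ⊤ with rfl | hJt
  · refine ⟨1, trivial, one_ne_zero, ?_⟩
    rw [← Ideal.isRadical_iff_quotient_reduced, Ideal.span_singleton_one]
    exact fun x _ => trivial
  set M := IsLocalRing.maximalIdeal R
  obtain ⟨f₁, hf₁J, hf₁⟩ := Submodule.exists_mem_ne_zero_of_ne_bot hJ0
  have hfin := finite_height_one (R := R) hf₁
  have hM0 : M ≠ ⊥ := fun e => hJ0 (le_bot_iff.1 (e ▸ IsLocalRing.le_maximalIdeal hJt))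
  by_cases hM : ∃ h ∈ M, ∀ q : Ideal R, q.IsPrime → q.height = 1 → f₁ ∈ q → h ∉ q
  swap
  · -- the maximal ideal has height one
    push Not at hM
    have hsub : (M : Set R) ⊆ ⋃ q ∈ hfin.toFinset, ((id q : Ideal R) : Set R) := fun x hx => by
      obtain ⟨q, h1, h2, h3, h4⟩ := hM x hx
      simp only [Set.mem_iUnion]
      exact ⟨q, hfin.mem_toFinset.2 ⟨h1, h2, h3⟩, h4⟩
    obtain ⟨q, hqm, hMq⟩ := (Ideal.subset_union_prime (R := R) (f := id) ⊥ ⊥
      (fun q hq _ _ => (hfin.mem_toFinset.1 hq).1)).1 hsub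
    obtain ⟨hq, hq1, -⟩ := hfin.mem_toFinset.1 hqm
    have hM1 : M.height = 1 := by
      rw [le_antisymm hMq (IsLocalRing.le_maximalIdeal hq.ne_top)]; exact hq1
    obtain ⟨π, hπ, s, hs, hgen⟩ := exists_generator hM1
    have hπM : Ideal.span {π} = M := le_antisymm ((Ideal.span_singleton_le_iff_mem _).2 hπ) fun x hx => by
      obtain ⟨t, ht⟩ := hgen x hx
      rw [← Ideal.unit_mul_mem_iff_mem _ (IsLocalRing.notMem_maximalIdeal.1 hs), ht]
      exact Ideal.mul_mem_left _ _ (Ideal.mem_span_singleton_self π)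
    have hMJ : M ≤ J := by
      rw [← hJ.radical, ← Ideal.sInf_minimalPrimes]
      refine le_sInf fun p hp => ?_
      have := hp.1.1
      have hple : p ≤ M := IsLocalRing.le_maximalIdeal this.ne_top
      exact ((mem_minimalPrimes_of_height_one hM1 hJ0 (hp.1.2.trans hple)).2 hp.1 hple)
    refine ⟨π, hMJ hπ, fun e => hM0 (by rw [← hπM, e, Ideal.span_singleton_eq_bot.2 rfl]), ?_⟩
    rw [← Ideal.isRadical_iff_quotient_reduced, hπM]
    exact (IsLocalRing.maximalIdeal.isMaximal R).isPrime.isRadical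
  obtain ⟨h, hhM, hh₁⟩ := hM
  obtain ⟨L, hL⟩ := exists_bound (Ideal.span {f₁} ⊔ Ideal.span {h})
  by_contra hcon
  have hgrow : ∀ k : ℕ, ∃ f ∈ J, f ≠ 0 ∧ f - f₁ ∈ Ideal.span {h} ∧
      k ≤ {q : Ideal R | q.IsPrime ∧ q.height = 1 ∧ f ∈ q}.ncard := by
    intro k
    induction k with
    | zero => exact ⟨f₁, hf₁J, hf₁, by simp, Nat.zero_le _⟩
    | succ k ih =>
      obtain ⟨f, hfJ, hf, hfd, hk⟩ := ih
      have hns : ∃ q : Ideal R, q.IsPrime ∧ q.height = 1 ∧ f ∈ q ∧ ¬ Simple f q := by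
        by_contra hc
        push Not at hc
        exact hcon ⟨f, hfJ, hf, isReduced_of_simple hf hc⟩
      obtain ⟨q₀, hq₀, hq₀1, hfq₀, hns⟩ := hns
      have hh : ∀ q : Ideal R, q.IsPrime → q.height = 1 → f ∈ q → h ∉ q := fun q hq hq1 hfq hhq =>
        hh₁ q hq hq1 (by
          have := q.sub_mem hfq ((Ideal.span_singleton_le_iff_mem q).2 hhq hfd)
          rwa [sub_sub_cancel] at this) hhq
      obtain ⟨f', hf'J, hf', hd, hss⟩ := step hJ hf hfJ hh hhM hq₀1 hfq₀ hns
      refine ⟨f', hf'J, hf', ?_, ?_⟩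
      · rw [show f' - f₁ = (f' - f) + (f - f₁) by ring]
        exact Ideal.add_mem _ hd hfd
      · exact Nat.lt_of_le_of_lt hk (Set.ncard_lt_ncard hss (finite_height_one hf'))
  obtain ⟨f, -, hf, hfd, hk⟩ := hgrow (L + 1)
  set Q := {q : Ideal R | q.IsPrime ∧ q.height = 1 ∧ f ∈ q}
  haveI : Finite Q := (finite_height_one hf).to_subtype
  let e := Finite.equivFin Q
  have hqh : ∀ q ∈ Q, h ∉ q := fun q hq hhq => hh₁ q hq.1 hq.2.1 (by
    have := q.sub_mem hq.2.2 ((Ideal.span_singleton_le_iff_mem q).2 hhq hfd)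
    rwa [sub_sub_cancel] at this) hhq
  have hle : Ideal.span {f₁} ⊔ Ideal.span {h} ≤ Ideal.span {f} ⊔ Ideal.span {h} := by
    refine sup_le ((Ideal.span_singleton_le_iff_mem _).2 ?_) le_sup_right
    rw [show f₁ = f + -(f - f₁) by ring]
    exact Submodule.add_mem_sup (Ideal.mem_span_singleton_self f) (neg_mem hfd)
  have hn : Nat.card Q ≤ L := by
    refine hL f h (Nat.card Q) (fun i => (e.symm i).1) hle (fun i => (e.symm i).2.1) (fun i => (e.symm i).2.2.2)
      (fun i => hqh _ (e.symm i).2) (fun i j hij => ?_) fun i => ?_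
    · have := (e.symm i).2.1
      have := (e.symm j).2.1
      exact e.symm.injective (Subtype.ext (eq_of_le_of_height_one (e.symm i).2.2.1 (e.symm j).2.2.1 hij))
    · obtain ⟨hq, hq1, hfq⟩ := (e.symm i).2
      have hle' : (e.symm i).1 ⊔ Ideal.span {h} ≤ M :=
        sup_le (IsLocalRing.le_maximalIdeal hq.ne_top) ((Ideal.span_singleton_le_iff_mem _).2 hhM)
      obtain ⟨P, hP, -⟩ := Ideal.exists_minimalPrimes_le hle'
      have hqP : (e.symm i).1 ≤ P := le_sup_left.trans hP.1.2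
      have hhP : h ∈ P := hP.1.2 (Ideal.mem_sup_right (Ideal.mem_span_singleton_self h))
      have hf₁P : f₁ ∈ P := by
        rw [show f₁ = f - (f - f₁) by ring]
        exact P.sub_mem (hqP hfq) ((Ideal.span_singleton_le_iff_mem P).2 hhP hfd)
      refine ⟨P, ⟨⟨hP.1.1, sup_le ((Ideal.span_singleton_le_iff_mem P).2 hf₁P)
        ((Ideal.span_singleton_le_iff_mem P).2 hhP)⟩, fun p hp hpP => ?_⟩, hqP, hhP⟩
      rcases eq_or_lt_of_le hpP with h1 | h1
      · exact h1.ge
      exfalso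
      have := hp.1
      have := hP.1.1
      have h2 : p.height < 2 := lt_of_lt_of_le (Ideal.height_strict_mono_of_isPrime h1) (hdim _ h hq hq1 (hqh _ (e.symm i).2) P hP)
      have hf₁p : f₁ ∈ p := hp.2 (Ideal.mem_sup_left (Ideal.mem_span_singleton_self f₁))
      have h3 : p.height = 1 := by
        refine le_antisymm (ENat.lt_coe_add_one_iff (n := 1) |>.1 (by simpa [one_add_one_eq_two] using h2)) ?_
        rw [Order.one_le_iff_ne_zero]
        intro h0
        rw [Ideal.height_eq_zero_iff_eq_bot] at h0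
        exact hf₁ (by simpa [h0] using hf₁p)
      exact hh₁ p hp.1 h3 hf₁p (hp.2 (Ideal.mem_sup_right (Ideal.mem_span_singleton_self h)))
  rw [Nat.card_coe_set_eq] at hn
  omega

end Main

end Groth.Calg7.ReducedPrincipal
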