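/-
Heights in the associated graded ring of an ideal of a universally catenary local domain.
-/
import Groth.Agent.Calg6.CatenaryFormula
import Groth.Agent.FibreDim.DimensionFormula
import Groth.Prelude.Def_Found
import Mathlib

set_option autoImplicit false
set_option synthInstance.maxHeartbeats 400000

noncomputable section

universe u

open Polynomial IsLocalRing

namespace Groth.Calg7.ReesHeight

theorem height_add_ker_le {R S : Type u} [CommRing R] [CommRing S] [IsNoetherianRing R] (g : R →+* S)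
    (hg : Function.Surjective g) (q : Ideal S) [q.IsPrime] :
    q.height + (RingHom.ker g).height ≤ (q.comap g).height := by
  haveI : IsNoetherianRing S := isNoetherianRing_of_surjective R S g hg
  obtain ⟨l, hl, hlen⟩ := q.exists_ltSeries_length_eq_height
  have hcm : StrictMono (fun a : PrimeSpectrum S => PrimeSpectrum.comap g a) := by
    intro a b h
    refine lt_of_le_of_ne (show (PrimeSpectrum.comap g a).asIdeal ≤ (PrimeSpectrum.comap g b).asIdeal from
      Ideal.comap_mono h.le) fun he => h.ne ?_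
    exact PrimeSpectrum.comap_injective_of_surjective g hg he
  let l' : LTSeries (PrimeSpectrum R) := l.map (fun a => PrimeSpectrum.comap g a) hcm
  have hker : RingHom.ker g ≤ l'.head.asIdeal := fun x hx => by
    show g x ∈ l.head.asIdeal
    rw [RingHom.mem_ker.mp hx]
    exact zero_mem _
  obtain ⟨k, hk, hklen⟩ := l'.head.asIdeal.exists_ltSeries_length_eq_height
  have hlast : l'.last = ⟨q.comap g, inferInstance⟩ := by
    rw [LTSeries.last_map, hl]
    rfl
  let m := k.smash l' (hk.trans rfl)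
  have hm : m.last = ⟨q.comap g, inferInstance⟩ := by rw [RelSeries.last_smash, hlast]
  calc q.height + (RingHom.ker g).height ≤ (l.length : ℕ∞) + (k.length : ℕ∞) := by
        rw [hklen, ← hlen]
        exact add_le_add le_rfl (Ideal.height_mono hker)
    _ = (m.length : ℕ∞) := by
        rw [RelSeries.smash_length]
        show (l.length : ℕ∞) + k.length = ((k.length + l.length : ℕ) : ℕ∞)
        push_cast
        ring
    _ ≤ Order.height m.last := Order.length_le_height le_rfl
    _ = (q.comap g).height := by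
        rw [hm]
        exact (PrimeSpectrum.height_eq_orderHeight ⟨q.comap g, inferInstance⟩).symm

variable {R : Type u} [CommRing R] (I : Ideal R)

set_option quotPrecheck false in
local notation "𝔅" => ↥(reesAlgebra I)

/-- the homogeneous element `c tⁿ` -/
def mon (n : ℕ) (c : R) (hc : c ∈ I ^ n) : 𝔅 := ⟨monomial n c, reesAlgebra.monomial_mem.mpr hc⟩

theorem coeff_map_mem (x : 𝔅) (hx : x ∈ I.map (algebraMap R 𝔅)) (n : ℕ) :
    (x : R[X]).coeff n ∈ I ^ (n + 1) := by
  have hx' : x ∈ I • (⊤ : Submodule R 𝔅) := by rw [Ideal.smul_top_eq_map]; exact hx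
  refine Submodule.smul_induction_on (p := fun y : 𝔅 => (y : R[X]).coeff n ∈ I ^ (n + 1)) hx'
    (fun a ha y _ => ?_) (fun a b ha hb => ?_)
  · rw [SetLike.val_smul, coeff_smul, pow_succ', smul_eq_mul]
    exact Ideal.mul_mem_mul ha (y.2 n)
  · rw [Subalgebra.coe_add, coeff_add]
    exact add_mem ha hb

theorem mem_of_constCoeff (Q : Ideal 𝔅) (hQ : ∀ b (hb : b ∈ I ^ 1), mon I 1 b hb ∈ Q) (x : 𝔅)
    (hx : algebraMap R 𝔅 ((x : R[X]).coeff 0) ∈ Q) : x ∈ Q := by
  classical
  have hmon : ∀ n c (hc : c ∈ I ^ (n + 1)), mon I (n + 1) c hc ∈ Q := by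
    intro n c hc
    let L : Submodule R R :=
      ((Q.restrictScalars R).map (reesAlgebra I).val.toLinearMap).comap (monomial (n + 1))
    have hle : I * I ^ n ≤ L := Ideal.mul_le.mpr fun r hr s hs => by
      refine ⟨mon I 1 r (by rwa [pow_one]) * mon I n s hs, Ideal.mul_mem_right _ _ (hQ _ _), ?_⟩
      show monomial 1 r * monomial n s = monomial (n + 1) (r * s)
      rw [monomial_mul_monomial, add_comm]
    obtain ⟨y, hy, hye⟩ := hle (by rwa [← pow_succ'])
    rw [show mon I (n + 1) c hc = y from Subtype.ext hye.symm]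
    exact hy
  have hx' : x = ∑ n ∈ (x : R[X]).support, mon I n ((x : R[X]).coeff n) (x.2 n) := by
    refine Subtype.ext ?_
    rw [AddSubmonoidClass.coe_finsetSum]
    exact (x : R[X]).as_sum_support
  rw [hx']
  refine Ideal.sum_mem _ fun n _ => ?_
  cases n with
  | zero => convert hx using 1; exact Subtype.ext (Polynomial.monomial_zero_left (a := _))
  | succ n => exact hmon n _ _

theorem exists_small_prime [IsDomain R] [IsNoetherianRing R] (hI0 : I ≠ ⊥) (p : Ideal R) [p.IsPrime] (hp : I ≤ p)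
    (Q : Ideal 𝔅) [Q.IsPrime] (hQI : I.map (algebraMap R 𝔅) ≤ Q) (hQp : Q.comap (algebraMap R 𝔅) = p) :
    ∃ P : Ideal 𝔅, P.IsPrime ∧ I.map (algebraMap R 𝔅) ≤ P ∧ P ≤ Q ∧ P.height ≤ 1 := by
  classical
  set J := I.map (algebraMap R 𝔅)
  suffices h : ∃ P ∈ J.minimalPrimes, P ≤ Q ∧ ∃ b, ∃ hb : b ∈ I ^ 1, mon I 1 b hb ∉ P by
    obtain ⟨P, hP, hPQ, b, hb, hnot⟩ := h
    haveI := hP.1.1
    refine ⟨P, hP.1.1, hP.1.2, hPQ, ?_⟩
    have hbI : b ∈ I := by simpa using hb
    refine Ideal.height_le_one_of_isPrincipal_of_mem_minimalPrimes (Ideal.span {algebraMap R 𝔅 b}) P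
      ⟨⟨inferInstance, (Ideal.span_singleton_le_iff_mem P).mpr (hP.1.2 (Ideal.mem_map_of_mem _ hbI))⟩,
        fun P' ⟨hP', hbP'⟩ hle => hP.2 ⟨hP', Ideal.map_le_iff_le_comap.mpr fun a ha => ?_⟩ hle⟩
    have haI : a ∈ I ^ 1 := by rwa [pow_one]
    have hmul : mon I 1 b hb * algebraMap R 𝔅 a = mon I 1 a haI * algebraMap R 𝔅 b := by
      refine Subtype.ext ?_
      show monomial 1 b * Polynomial.C a = monomial 1 a * Polynomial.C b
      rw [monomial_mul_C, monomial_mul_C, mul_comm]
    have hmem : mon I 1 b hb * algebraMap R 𝔅 a ∈ P' := by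
      rw [hmul]
      exact Ideal.mul_mem_left _ _ (hbP' (Ideal.mem_span_singleton_self _))
    exact (hP'.mem_or_mem hmem).resolve_left fun h' => hnot (hle h')
  by_contra hcon
  push Not at hcon
  obtain ⟨P₀, hP₀, hP₀Q⟩ := Ideal.exists_minimalPrimes_le hQI
  have hall : ∀ b (hb : b ∈ I ^ 1), mon I 1 b hb ∈ Q := fun b hb => hP₀Q (hcon P₀ hP₀ hP₀Q b hb)
  let L := Localization.AtPrime Q
  let T : Ideal 𝔅 := Ideal.span {x | ∃ b, ∃ hb : b ∈ I ^ 1, x = mon I 1 b hb}
  have hrad : T.map (algebraMap 𝔅 L) ≤ (J.map (algebraMap 𝔅 L)).radical := by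
    rw [Ideal.radical_eq_sInf]
    refine le_sInf fun P' ⟨hle, hP'⟩ => ?_
    haveI := hP'
    rw [Ideal.map_le_iff_le_comap, Ideal.span_le]
    rintro _ ⟨b, hb, rfl⟩
    obtain ⟨P, hP, hPP'⟩ := Ideal.exists_minimalPrimes_le (Ideal.map_le_iff_le_comap.mp hle : J ≤ P'.comap (algebraMap 𝔅 L))
    refine hPP' (hcon P hP (hPP'.trans ?_) b hb)
    calc P'.comap (algebraMap 𝔅 L) ≤ (maximalIdeal L).comap (algebraMap 𝔅 L) :=
          Ideal.comap_mono (le_maximalIdeal hP'.ne_top)
      _ = Q := Localization.AtPrime.under_maximalIdeal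
  obtain ⟨M, hM⟩ := Ideal.exists_pow_le_of_le_radical_of_fg hrad (IsNoetherian.noetherian _)
  rw [← Ideal.map_pow] at hM
  have hT : ∀ (n : ℕ) c (hc : c ∈ I ^ n), mon I n c hc ∈ T ^ n := by
    intro n
    induction n with
    | zero => intros; simp
    | succ n ih =>
      intro c hc
      let W : Submodule R R :=
        (((T ^ (n + 1)).restrictScalars R).map (reesAlgebra I).val.toLinearMap).comap (monomial (n + 1))
      have hle : I * I ^ n ≤ W := Ideal.mul_le.mpr fun r hr s hs => by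
        refine ⟨mon I 1 r (by rwa [pow_one]) * mon I n s hs, ?_, ?_⟩
        · show _ ∈ T ^ (n + 1)
          rw [pow_succ']
          exact Ideal.mul_mem_mul (Ideal.subset_span ⟨r, _, rfl⟩) (ih s hs)
        show monomial 1 r * monomial n s = monomial (n + 1) (r * s)
        rw [monomial_mul_monomial, add_comm]
      obtain ⟨y, hy, hye⟩ := hle (by rwa [← pow_succ'])
      rw [show mon I (n + 1) c hc = y from Subtype.ext hye.symm]
      exact hy
  have hkey : (I ^ M).map (algebraMap R (Localization.AtPrime p)) ≤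
      I.map (algebraMap R (Localization.AtPrime p)) • (I ^ M).map (algebraMap R (Localization.AtPrime p)) := by
    rw [smul_eq_mul, ← Ideal.map_mul, Ideal.map_le_iff_le_comap]
    intro c hc
    obtain ⟨s, hs, hsc⟩ := (IsLocalization.algebraMap_mem_map_algebraMap_iff Q.primeCompl L J _).mp
      (hM (Ideal.mem_map_of_mem _ (hT M c hc)))
    have hs0 : (s : R[X]).coeff 0 ∉ p := fun h => hs (mem_of_constCoeff I Q hall s (by rwa [← hQp] at h))
    have h1 := coeff_map_mem I _ hsc M
    rw [show ((s * mon I M c hc : 𝔅) : R[X]) = (s : R[X]) * monomial M c from rfl] at h1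
    have h2 := coeff_mul_monomial (s : R[X]) M 0 c
    rw [zero_add] at h2
    rw [h2, pow_succ'] at h1
    rw [Ideal.mem_comap, IsLocalization.algebraMap_mem_map_algebraMap_iff p.primeCompl (Localization.AtPrime p)]
    exact ⟨_, hs0, h1⟩
  have hbot := Submodule.eq_bot_of_le_smul_of_le_jacobson_bot _ _ (IsNoetherian.noetherian _) hkey
    (le_trans (le_trans (Ideal.map_mono hp) Localization.AtPrime.map_eq_maximalIdeal.le) (maximalIdeal_le_jacobson ⊥))
  rw [Ideal.map_eq_bot_iff_of_injective (IsLocalization.injective (Localization.AtPrime p) p.primeCompl_le_nonZeroDivisors)] at hbot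
  obtain ⟨c, hc, hc0⟩ := Submodule.exists_mem_ne_zero_of_ne_bot hI0
  have h3 : c ^ M ∈ (⊥ : Ideal R) := hbot ▸ Ideal.pow_mem_pow hc M
  exact pow_ne_zero M hc0 (Ideal.mem_bot.mp h3)

/-- the scaling `c tⁿ ↦ c tⁿ Tⁿ` -/
theorem exists_scale : ∃ σ : 𝔅 →ₐ[R] Polynomial 𝔅, (∀ x, (σ x).eval 1 = x) ∧
    ∀ x, (σ x).coeff 0 = algebraMap R 𝔅 ((x : R[X]).coeff 0) := by
  let f : Polynomial 𝔅 →ₐ[R] Polynomial R[X] := Polynomial.mapAlgHom (reesAlgebra I).val
  have hf : Function.Injective f := Polynomial.map_injective _ Subtype.val_injective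
  let σ₀ : R[X] →ₐ[R] Polynomial R[X] := Polynomial.aeval (Polynomial.C Polynomial.X * Polynomial.X)
  have hrange : ∀ x : 𝔅, σ₀ (x : R[X]) ∈ f.range := by
    intro x
    rw [(x : R[X]).as_sum_support, map_sum]
    refine Subalgebra.sum_mem _ fun n _ => ⟨Polynomial.monomial n (mon I n _ (x.2 n)), ?_⟩
    show Polynomial.map ((reesAlgebra I).val : 𝔅 →+* R[X]) (monomial n _) =
      Polynomial.aeval (Polynomial.C Polynomial.X * Polynomial.X) (monomial n ((x : R[X]).coeff n))
    rw [Polynomial.map_monomial, Polynomial.aeval_monomial, mul_pow, ← Polynomial.C_pow]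
    show monomial n (monomial n ((x : R[X]).coeff n)) = _
    rw [← C_mul_X_pow_eq_monomial (n := n) (a := monomial n ((x : R[X]).coeff n)), ← mul_assoc]
    congr 1
    rw [IsScalarTower.algebraMap_apply R R[X] (Polynomial R[X]), Polynomial.algebraMap_eq, Polynomial.algebraMap_eq,
      ← Polynomial.C_mul, C_mul_X_pow_eq_monomial]
  let σ : 𝔅 →ₐ[R] Polynomial 𝔅 :=
    (AlgEquiv.ofInjective f hf).symm.toAlgHom.comp ((σ₀.comp (reesAlgebra I).val).codRestrict f.range hrange)
  have hσ : ∀ x, f (σ x) = σ₀ (x : R[X]) := fun x => by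
    show f ((AlgEquiv.ofInjective f hf).symm ⟨σ₀ (x : R[X]), hrange x⟩) = _
    exact congrArg Subtype.val ((AlgEquiv.ofInjective f hf).apply_symm_apply _)
  refine ⟨σ, fun x => Subtype.ext ?_, fun x => Subtype.ext ?_⟩
  · have h1 : (Polynomial.aeval (1 : R[X]) : Polynomial R[X] →ₐ[R[X]] R[X]).restrictScalars R =
        (Polynomial.aeval (1 : R[X])).restrictScalars R := rfl
    have h2 : (Polynomial.map ((reesAlgebra I).val : 𝔅 →+* R[X]) (σ x)).eval 1 = (x : R[X]) := by
      rw [show Polynomial.map ((reesAlgebra I).val : 𝔅 →+* R[X]) (σ x) = σ₀ (x : R[X]) from hσ x]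
      have h3 : ((Polynomial.aeval (1 : R[X]) : Polynomial R[X] →ₐ[R[X]] R[X]).restrictScalars R).comp σ₀ =
          AlgHom.id R R[X] := by
        refine Polynomial.algHom_ext ?_
        simp [σ₀]
      have h4 := AlgHom.congr_fun h3 (x : R[X])
      simpa [Polynomial.coe_aeval_eq_eval] using h4
    rw [Polynomial.eval_one_map] at h2
    exact h2
  · have h2 : (Polynomial.map ((reesAlgebra I).val : 𝔅 →+* R[X]) (σ x)).coeff 0 =
        Polynomial.C ((x : R[X]).coeff 0) := by
      rw [show Polynomial.map ((reesAlgebra I).val : 𝔅 →+* R[X]) (σ x) = σ₀ (x : R[X]) from hσ x]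
      have h3 : ∀ g : R[X], (σ₀ g).coeff 0 = Polynomial.C (g.coeff 0) := by
        intro g
        rw [Polynomial.coeff_zero_eq_eval_zero]
        induction g using Polynomial.induction_on' with
        | add p q hp hq => simp only [map_add, Polynomial.eval_add, hp, hq, coeff_add, Polynomial.C_add]
        | monomial n a =>
          simp only [σ₀, Polynomial.aeval_monomial, coeff_monomial]
          cases n <;> simp [Polynomial.algebraMap_apply]
      exact h3 _
    rwa [Polynomial.coeff_map] at h2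

theorem height_map_mk_le {A : Type u} [CommRing A] {J P : Ideal A} [P.IsPrime] (hJP : J ≤ P) (Q : Ideal A)
    [Q.IsPrime] (hPQ : P ≤ Q) :
    (Q.map (Ideal.Quotient.mk P)).height ≤ (Q.map (Ideal.Quotient.mk J)).height := by
  haveI := Ideal.isPrime_map_quotientMk_of_isPrime hPQ
  haveI := Ideal.isPrime_map_quotientMk_of_isPrime (hJP.trans hPQ)
  let g := Ideal.Quotient.factor hJP
  have hg : Function.Surjective g := Ideal.Quotient.factor_surjective hJP
  have hc : (Q.map (Ideal.Quotient.mk P)).comap g = Q.map (Ideal.Quotient.mk J) := by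
    apply Ideal.comap_injective_of_surjective _ Ideal.Quotient.mk_surjective
    rw [Ideal.comap_comap, Ideal.Quotient.factor_comp_mk, Ideal.comap_map_of_surjective _ Ideal.Quotient.mk_surjective,
      Ideal.comap_map_of_surjective _ Ideal.Quotient.mk_surjective, ← RingHom.ker_eq_comap_bot, ← RingHom.ker_eq_comap_bot,
      Ideal.mk_ker, Ideal.mk_ker, sup_eq_left.mpr hPQ, sup_eq_left.mpr (hJP.trans hPQ)]
  rw [PrimeSpectrum.height_eq_orderHeight ⟨_, ‹(Q.map (Ideal.Quotient.mk P)).IsPrime›⟩ |>.trans rfl,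
    PrimeSpectrum.height_eq_orderHeight ⟨_, ‹(Q.map (Ideal.Quotient.mk J)).IsPrime›⟩ |>.trans rfl]
  refine le_of_le_of_eq (Order.height_le_height_apply_of_strictMono (fun a => PrimeSpectrum.comap g a) ?_ _)
    (congrArg Order.height (PrimeSpectrum.ext hc))
  intro a b h
  refine lt_of_le_of_ne (show (PrimeSpectrum.comap g a).asIdeal ≤ (PrimeSpectrum.comap g b).asIdeal from
      Ideal.comap_mono h.le) fun he => h.ne ?_
  exact PrimeSpectrum.comap_injective_of_surjective g hg he

/-- A point of the special fibre with trivial residue extension bounds the transcendence degree. -/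
theorem trdeg_le_dim_special {A D k : Type u} [CommRing A] [IsDomain A] [IsLocalRing A] [IsNoetherianRing A]
    (huc : CAlg.IsUniversallyCatenary A) [CommRing D] [IsDomain D] [Algebra A D] [FaithfulSMul A D]
    [Algebra.FiniteType A D] [Field k] (κ : D →+* k) (hκ : Function.Surjective (κ.comp (algebraMap A D))) :
    ∃ t₀ : ℕ, Algebra.trdeg A D = t₀ ∧
      ((t₀ : ℕ∞) : WithBot ℕ∞) ≤ ringKrullDim (D ⧸ (maximalIdeal A).map (algebraMap A D)) := by
  let V : Ideal D := RingHom.ker κ
  haveI : V.IsPrime := RingHom.ker_isPrime κ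
  haveI : V.LiesOver (maximalIdeal A) := ⟨by
    rw [Ideal.under_def, RingHom.comap_ker]
    exact (eq_maximalIdeal (RingHom.ker_isMaximal_of_surjective _ hκ)).symm⟩
  haveI : IsNoetherianRing D := Algebra.FiniteType.isNoetherianRing A D
  obtain ⟨tV, t₀, htV, ht₀, -, heq⟩ := Groth.FibreDim.exists_trdeg_add_height (maximalIdeal A) V
  have heq := heq huc
  have htV0 : tV = 0 := by
    haveI : Algebra.IsAlgebraic (A ⧸ maximalIdeal A) (D ⧸ V) := ⟨fun z => by
      obtain ⟨x, rfl⟩ := Ideal.Quotient.mk_surjective z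
      obtain ⟨r, hr⟩ := hκ (κ x)
      rw [show Ideal.Quotient.mk V x = algebraMap (A ⧸ maximalIdeal A) (D ⧸ V) (Ideal.Quotient.mk _ r) from
        (Ideal.Quotient.eq.mpr (RingHom.mem_ker.mpr (by rw [map_sub, sub_eq_zero]; exact hr))).symm]
      exact isAlgebraic_algebraMap _⟩
    rw [trdeg_eq_zero] at htV
    exact_mod_cast htV.symm
  have hfib := Ideal.height_le_height_add_of_liesOver (maximalIdeal A) V
  have hle' : (maximalIdeal A).map (algebraMap A D) ≤ V :=
    Ideal.map_le_iff_le_comap.mpr (V.over_def (maximalIdeal A)).le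
  haveI := Ideal.isPrime_map_quotientMk_of_isPrime hle'
  refine ⟨t₀, ht₀, ?_⟩
  refine le_trans ?_ (Ideal.height_le_ringKrullDim_of_isPrime (I := V.map (Ideal.Quotient.mk _)))
  refine WithBot.coe_le_coe.mpr ?_
  rw [htV0, Nat.cast_zero, add_zero] at heq
  rw [heq] at hfib
  exact (WithTop.add_le_add_iff_left Ideal.height_ne_top_of_isPrime).mp hfib

theorem dim_quot_le {B D : Type u} [CommRing B] [CommRing D] (π : B →+* D) (hπ : Function.Surjective π)
    (J : Ideal B) (K : Ideal D) (h : J.map π ≤ K) : ringKrullDim (D ⧸ K) ≤ ringKrullDim (B ⧸ J) :=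
  ringKrullDim_le_of_surjective (Ideal.quotientMap K π (Ideal.map_le_iff_le_comap.mp h))
    (Ideal.quotientMap_surjective (H := Ideal.map_le_iff_le_comap.mp h) hπ)

theorem trdeg_le_special {A B k : Type u} [CommRing A] [IsLocalRing A] [IsNoetherianRing A]
    (huc : CAlg.IsUniversallyCatenary A) [CommRing B] [Algebra A B] [Algebra.FiniteType A B] [Field k]
    (p : Ideal A) [p.IsPrime] (Qs Q : Ideal B) [Qs.IsPrime] [Qs.LiesOver p] [Q.LiesOver p] (hle : Qs ≤ Q)
    (κ : B →+* k) (hκQ : ∀ x ∈ Qs, κ x = 0) (hκ : Function.Surjective (κ.comp (algebraMap A B))) (t : ℕ)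
    (ht : Algebra.trdeg (A ⧸ p) (B ⧸ Q) = t) :
    ((t : ℕ∞) : WithBot ℕ∞) ≤ ringKrullDim (B ⧸ (maximalIdeal A).map (algebraMap A B)) := by
  haveI : FaithfulSMul (A ⧸ p) (B ⧸ Qs) := by
    rw [faithfulSMul_iff_algebraMap_injective, RingHom.injective_iff_ker_eq_bot, eq_bot_iff]
    intro x hx
    obtain ⟨r, rfl⟩ := Ideal.Quotient.mk_surjective x
    rw [Ideal.mem_bot, Ideal.Quotient.eq_zero_iff_mem, Qs.over_def p]
    have h0 : Ideal.Quotient.mk Qs (algebraMap A B r) = 0 := RingHom.mem_ker.mp hx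
    exact (Ideal.Quotient.eq_zero_iff_mem.mp h0 : algebraMap A B r ∈ Qs)
  haveI : Algebra.FiniteType (A ⧸ p) (B ⧸ Qs) := Algebra.FiniteType.of_restrictScalars_finiteType A (A ⧸ p) _
  haveI : IsLocalRing (A ⧸ p) := IsLocalRing.of_surjective' _ Ideal.Quotient.mk_surjective
  haveI : IsDomain (B ⧸ Qs) := Ideal.Quotient.isDomain Qs
  have huc' : CAlg.IsUniversallyCatenary (A ⧸ p) := ⟨inferInstance, fun S _ _ hS => by
    letI := ((algebraMap (A ⧸ p) S).comp (Ideal.Quotient.mk p)).toAlgebra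
    haveI : IsScalarTower A (A ⧸ p) S := IsScalarTower.of_algebraMap_eq fun _ => rfl
    exact huc.2 S (Algebra.FiniteType.trans (S := A ⧸ p) inferInstance hS)⟩
  obtain ⟨t₀, ht₀, hdim⟩ := trdeg_le_dim_special huc' (Ideal.Quotient.lift Qs κ hκQ) (fun z => by
    obtain ⟨r, hr⟩ := hκ z
    exact ⟨Ideal.Quotient.mk p r, hr⟩)
  let g : (B ⧸ Qs) →ₐ[A ⧸ p] (B ⧸ Q) :=
    ⟨Ideal.Quotient.factor hle, fun x => by
      obtain ⟨r, rfl⟩ := Ideal.Quotient.mk_surjective x
      rfl⟩
  have h1 := trdeg_le_of_surjective g (Ideal.Quotient.factor_surjective hle)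
  rw [ht, ht₀] at h1
  refine le_trans (WithBot.coe_le_coe.mpr (by exact_mod_cast h1)) (hdim.trans ?_)
  refine dim_quot_le (Ideal.Quotient.mk Qs) Ideal.Quotient.mk_surjective _ _ ?_
  rw [Ideal.map_map, Ideal.map_le_iff_le_comap]
  intro r hr
  refine Ideal.mem_map_of_mem (algebraMap (A ⧸ p) (B ⧸ Qs)) (?_ : Ideal.Quotient.mk p r ∈ maximalIdeal (A ⧸ p))
  rw [← IsLocalRing.map_maximalIdeal_of_surjective _ (Ideal.Quotient.mk_surjective (I := p))]
  exact Ideal.mem_map_of_mem _ hr

/-- the transcendence degree of a point of the fibre is at most the analytic spread -/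
theorem trdeg_le_fibreDim [IsDomain R] [IsLocalRing R] [IsNoetherianRing R] (huc : CAlg.IsUniversallyCatenary R)
    (p : Ideal R) [p.IsPrime] (hp : I ≤ p) (Q : Ideal 𝔅) [Q.IsPrime] [Q.LiesOver p] (t : ℕ)
    (ht : Algebra.trdeg (R ⧸ p) (𝔅 ⧸ Q) = t) :
    ((t : ℕ∞) : WithBot ℕ∞) ≤ ringKrullDim (𝔅 ⧸ (maximalIdeal R).map (algebraMap R 𝔅)) := by
  obtain ⟨σ, hσ1, hσ0⟩ := exists_scale I
  let χ : 𝔅 →+* Polynomial (𝔅 ⧸ Q) := (Polynomial.mapRingHom (Ideal.Quotient.mk Q)).comp σ.toRingHom
  let Qs : Ideal 𝔅 := RingHom.ker χ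
  haveI : Qs.IsPrime := RingHom.ker_isPrime χ
  have hQs : Qs ≤ Q := fun x hx => by
    have h1 : Polynomial.eval 1 (χ x) = Ideal.Quotient.mk Q x := by
      show Polynomial.eval 1 ((σ x).map (Ideal.Quotient.mk Q)) = _
      rw [Polynomial.eval_one_map, hσ1]
    rw [RingHom.mem_ker.mp hx, Polynomial.eval_zero] at h1
    exact Ideal.Quotient.eq_zero_iff_mem.mp h1.symm
  haveI : Qs.LiesOver p := ⟨by
    refine le_antisymm (fun r hr => ?_) (fun r hr => ?_)
    · rw [Ideal.under_def, Ideal.mem_comap, RingHom.mem_ker]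
      show (σ (algebraMap R 𝔅 r)).map (Ideal.Quotient.mk Q) = 0
      rw [AlgHom.commutes, Polynomial.algebraMap_apply, Polynomial.map_C, Ideal.Quotient.eq_zero_iff_mem.mpr, map_zero]
      rw [Q.over_def p] at hr
      exact hr
    · rw [Q.over_def p]
      exact hQs hr⟩
  have hzero : ∀ x ∈ Qs, (x : R[X]).coeff 0 ∈ p := fun x hx => by
    have h1 : (χ x).coeff 0 = Ideal.Quotient.mk Q (algebraMap R 𝔅 ((x : R[X]).coeff 0)) := by
      show ((σ x).map (Ideal.Quotient.mk Q)).coeff 0 = _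
      rw [Polynomial.coeff_map, hσ0]
    rw [RingHom.mem_ker.mp hx, Polynomial.coeff_zero] at h1
    rw [Q.over_def p]
    exact (Ideal.Quotient.eq_zero_iff_mem.mp h1.symm : algebraMap R 𝔅 _ ∈ Q)
  let κ : 𝔅 →+* ResidueField R := (residue R).comp (Polynomial.constantCoeff.comp (reesAlgebra I).val.toRingHom)
  have hκR : ∀ r, κ (algebraMap R 𝔅 r) = residue R r := fun r => by
    show residue R ((Polynomial.C r).coeff 0) = _
    rw [coeff_C_zero]
  have hκker : ∀ x ∈ Qs, κ x = 0 := fun x hx => by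
    show residue R ((x : R[X]).coeff 0) = 0
    rw [residue_eq_zero_iff]
    exact le_maximalIdeal (Ideal.IsPrime.ne_top inferInstance) (hzero x hx)
  exact trdeg_le_special huc p Qs Q hQs κ hκker (fun z => by
    obtain ⟨r, rfl⟩ := residue_surjective z
    exact ⟨r, hκR r⟩) t ht

/-- the lower bound on heights in the associated graded ring -/
theorem le_height [IsDomain R] [IsLocalRing R] [IsNoetherianRing R] (huc : CAlg.IsUniversallyCatenary R)
    (p : Ideal R) [p.IsPrime] (hp : I ≤ p) (d : ℕ)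
    (hd : (d : WithBot ℕ∞) + ringKrullDim (𝔅 ⧸ (maximalIdeal R).map (algebraMap R 𝔅)) ≤
      (((p.map (Ideal.Quotient.mk I)).height : ℕ∞) : WithBot ℕ∞) + ((I.height : ℕ∞) : WithBot ℕ∞))
    (Q : Ideal 𝔅) [Q.IsPrime] (hQI : I.map (algebraMap R 𝔅) ≤ Q) (hQp : Q.comap (algebraMap R 𝔅) = p) :
    (d : ℕ∞) ≤ (Q.map (Ideal.Quotient.mk (I.map (algebraMap R 𝔅)))).height := by
  haveI : Q.LiesOver p := ⟨hQp.symm⟩
  haveI := Ideal.isPrime_map_quotientMk_of_isPrime hp
  haveI := Ideal.isPrime_map_quotientMk_of_isPrime hQI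
  haveI : FaithfulSMul R 𝔅 := (faithfulSMul_iff_algebraMap_injective _ _).mpr
    fun a b h => Polynomial.C_injective (congrArg Subtype.val h)
  obtain ⟨t, t₀, ht, ht₀, -, heq⟩ := Groth.FibreDim.exists_trdeg_add_height p Q
  have heq := heq huc
  have hfib := trdeg_le_fibreDim I huc p hp Q t ht
  obtain ⟨a, ha⟩ := ENat.ne_top_iff_exists.1
    (Ideal.height_ne_top_of_isPrime (I := p.map (Ideal.Quotient.mk I)))
  obtain ⟨hpn, hpn'⟩ := ENat.ne_top_iff_exists.1 (Ideal.height_ne_top_of_isPrime (I := p))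
  obtain ⟨h, hh⟩ := ENat.ne_top_iff_exists.1 (Ideal.height_ne_top_of_isPrime (I := Q))
  obtain ⟨g, hg⟩ := ENat.ne_top_iff_exists.1
    (Ideal.height_ne_top_of_isPrime (I := Q.map (Ideal.Quotient.mk (I.map (algebraMap R 𝔅)))))
  have hadd := height_add_ker_le (Ideal.Quotient.mk I) Ideal.Quotient.mk_surjective (p.map (Ideal.Quotient.mk I))
  rw [Ideal.mk_ker, Ideal.comap_map_of_surjective _ Ideal.Quotient.mk_surjective, ← RingHom.ker_eq_comap_bot,
    Ideal.mk_ker, sup_eq_left.mpr hp, ← ha, ← hpn'] at hadd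
  obtain ⟨c, hc⟩ := ENat.ne_top_iff_exists.1 (Ideal.height_ne_top (I := I)
    (ne_top_of_le_ne_top Ideal.IsPrime.ne_top' hp))
  rw [← hc] at hadd hd
  rw [← hpn', ← hh] at heq
  rw [← ha] at hd
  obtain ⟨ℓ, hℓ⟩ : ∃ ℓ : ℕ, ringKrullDim (𝔅 ⧸ (maximalIdeal R).map (algebraMap R 𝔅)) = ((ℓ : ℕ∞) : WithBot ℕ∞) := by
    generalize ringKrullDim (𝔅 ⧸ (maximalIdeal R).map (algebraMap R 𝔅)) = x at hd hfib
    induction x using WithBot.recBotCoe with
    | bot => simp at hfib
    | coe x =>
      cases x with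
      | top =>
        rw [← WithBot.coe_natCast, ← WithBot.coe_add, ← WithBot.coe_add, WithBot.coe_le_coe, add_top, ← Nat.cast_add,
          top_le_iff] at hd
        exact absurd hd (ENat.natCast_ne_top _)
      | coe n => exact ⟨n, rfl⟩
  rw [hℓ] at hd hfib
  rw [← WithBot.coe_natCast, ← WithBot.coe_add, ← WithBot.coe_add, WithBot.coe_le_coe] at hd
  rw [WithBot.coe_le_coe] at hfib
  rw [← hg]
  norm_cast at hd hfib hadd heq ⊢
  by_cases hI0 : I = ⊥
  · have hJ : I.map (algebraMap R 𝔅) = ⊥ := by rw [hI0, Ideal.map_bot]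
    have hc0 : c = 0 := by
      rw [hI0, Ideal.height_bot] at hc
      exact_mod_cast hc
    have hle := height_map_mk_le (P := (⊥ : Ideal 𝔅)) (J := I.map (algebraMap R 𝔅)) hJ.le Q bot_le
    have he : (Q.map (Ideal.Quotient.mk (⊥ : Ideal 𝔅))).height = Q.height := by
      rw [← (RingEquiv.quotientBot 𝔅).height_map]
      change ((Q.map _).map (RingEquiv.quotientBot 𝔅).toRingHom).height = _
      rw [Ideal.map_map]
      congr 1
      exact Ideal.map_id Q
    rw [he, ← hg, ← hh] at hle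
    norm_cast at hle
    omega
  · obtain ⟨P, hP, hJP, hPQ, hP1⟩ := exists_small_prime I hI0 p hp Q hQI hQp
    haveI := Ideal.isPrime_map_quotientMk_of_isPrime hPQ
    have hcat : CAlg.IsCatenary 𝔅 := huc.2 𝔅 inferInstance
    have hself : IsLocalization (⊥ : Submonoid 𝔅) 𝔅 := IsLocalization.self fun x hx => by
      rw [Submonoid.mem_bot] at hx; rw [hx]; exact isUnit_one
    have hq := Groth.Calg6.CatFormula.height_quotient_add_of_le (Ideal.Quotient.mk P) Ideal.Quotient.mk_surjective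
      (Q.map (Ideal.Quotient.mk P)) (⊥ : Submonoid 𝔅) 𝔅 (Set.disjoint_left.mpr fun x hx hx' => by
        rw [SetLike.mem_coe, Submonoid.mem_bot] at hx
        exact (Ideal.IsPrime.ne_top inferInstance : (Q.map (Ideal.Quotient.mk P)).comap (Ideal.Quotient.mk P) ≠ ⊤)
          ((Ideal.eq_top_iff_one _).mpr (hx ▸ hx'))) hcat
    rw [Ideal.mk_ker, Ideal.comap_map_of_surjective _ Ideal.Quotient.mk_surjective, ← RingHom.ker_eq_comap_bot,
      Ideal.mk_ker, sup_eq_left.mpr hPQ, ← hh] at hq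
    have hle := height_map_mk_le hJP Q hPQ
    obtain ⟨u, hu⟩ := ENat.ne_top_iff_exists.1 (Ideal.height_ne_top_of_isPrime (I := Q.map (Ideal.Quotient.mk P)))
    obtain ⟨v, hv⟩ := ENat.ne_top_iff_exists.1 (Ideal.height_ne_top_of_isPrime (I := P))
    have h1 : 1 ≤ t₀ := by
      obtain ⟨b, hbI, hb0⟩ := Submodule.exists_mem_ne_zero_of_ne_bot hI0
      have hind : AlgebraicIndependent R (fun _ : PUnit.{u + 1} => mon I 1 b (by simpa using hbI)) := by
        rw [algebraicIndependent_unique_type_iff]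
        refine fun halg => ?_
        have h2 : IsAlgebraic R (monomial 1 b : R[X]) := halg.algHom (reesAlgebra I).val
        exact (Polynomial.transcendental_X R) (by
          rw [← C_mul_X_eq_monomial, ← smul_eq_C_mul] at h2
          exact h2.of_smul (mem_nonZeroDivisors_of_ne_zero hb0))
      have h3 := hind.cardinalMk_le_trdeg
      rw [ht₀] at h3
      simpa using h3
    rw [← hu, ← hv] at hq
    rw [← hu, ← hg] at hle
    rw [← hv] at hP1
    norm_cast at hq hle hP1
    omega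

end Groth.Calg7.ReesHeight
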