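/-
Depth of direct summands of algebras: regular sequences from the base ring.
-/
import Groth.Agent.LocCohBase.DepthLocal
import Groth.Agent.Ega4Algebra2.SkFlat
import Mathlib

set_option autoImplicit false

noncomputable section

universe u

open IsLocalRing
open scoped Pointwise

namespace Groth.Calg7.RegSeqSummand

theorem isSMulRegular_retract {L M N : Type u} [CommRing L] [AddCommGroup M] [Module L M] [AddCommGroup N]
    [Module L N] (i : M →ₗ[L] N) (hi : Function.Injective i) {x : L} (h : IsSMulRegular N x) :
    IsSMulRegular M x := fun a b hab => hi (h (by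
      have := congrArg i hab
      simpa only [map_smul] using this))

theorem isWeaklyRegular_retract {L : Type u} [CommRing L] :
    ∀ (rs : List L) {M N : Type u} [AddCommGroup M] [Module L M] [AddCommGroup N] [Module L N]
      (i : M →ₗ[L] N) (r : N →ₗ[L] M), r ∘ₗ i = LinearMap.id →
      RingTheory.Sequence.IsWeaklyRegular N rs → RingTheory.Sequence.IsWeaklyRegular M rs := by
  intro rs
  induction rs with
  | nil => intros; exact RingTheory.Sequence.IsWeaklyRegular.nil _ _
  | cons x xs ih =>
    intro M N _ _ _ _ i r h hreg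
    rw [RingTheory.Sequence.isWeaklyRegular_cons_iff] at hreg ⊢
    refine ⟨isSMulRegular_retract i (Function.LeftInverse.injective (LinearMap.congr_fun h)) hreg.1, ?_⟩
    refine ih (QuotSMulTop.map x i) (QuotSMulTop.map x r) ?_ hreg.2
    rw [← QuotSMulTop.map_comp, h, QuotSMulTop.map_id]

theorem exists_regular_seq {L E : Type u} [CommRing L] [CommRing E] [IsNoetherianRing E] [Algebra L E]
    (a : Ideal L) : ∀ (d : ℕ) (N : Type u) [AddCommGroup N] [Module E N] [Module.Finite E N],
      (d : ℕ∞) ≤ LocCoh.idealDepth (a.map (algebraMap L E)) N →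
      ∃ rs : List L, rs.length = d ∧ (∀ x ∈ rs, x ∈ a) ∧
        RingTheory.Sequence.IsWeaklyRegular N (rs.map (algebraMap L E)) := by
  intro d
  induction d with
  | zero => intro N _ _ _ _; exact ⟨[], rfl, by simp, RingTheory.Sequence.IsWeaklyRegular.nil _ _⟩
  | succ d ih =>
    intro N _ _ _ hN
    have h1 : ∀ P ∈ associatedPrimes E N, ¬ a.map (algebraMap L E) ≤ P := by
      intro P hP hle
      haveI := hP.isPrime
      refine (Groth.LocCohBase.one_le_depth_localized_iff P N).1 ?_ hP
      rw [Groth.LocCohBase.idealDepth_eq_iInf_depth] at hN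
      exact le_trans (by exact_mod_cast Nat.le_add_left 1 d)
        (hN.trans (iInf₂_le (⟨P, hP.isPrime⟩ : PrimeSpectrum E) hle))
    obtain ⟨x, hxa, hx⟩ : ∃ x ∈ a, ∀ P ∈ associatedPrimes E N, algebraMap L E x ∉ P := by
      by_contra! hall
      classical
      let S := (associatedPrimes.finite E N).toFinset
      have hsub : (a : Set L) ⊆ ⋃ P ∈ (S : Set (Ideal E)), ((P.comap (algebraMap L E) : Ideal L) : Set L) := by
        intro x hx
        obtain ⟨P, hP, hxP⟩ := hall x hx
        exact Set.mem_iUnion₂.mpr ⟨P, (associatedPrimes.finite E N).mem_toFinset.mpr hP, hxP⟩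
      obtain ⟨P, hPS, hle⟩ := (Ideal.subset_union_prime (⊤ : Ideal E) (⊤ : Ideal E) (fun P hP _ _ => by
        haveI := ((associatedPrimes.finite E N).mem_toFinset.mp hP).isPrime
        exact Ideal.IsPrime.comap _)).mp hsub
      exact h1 P ((associatedPrimes.finite E N).mem_toFinset.mp hPS) (Ideal.map_le_iff_le_comap.mpr hle)
    have hreg : IsSMulRegular N (algebraMap L E x) := by
      refine isSMulRegular_iff_right_eq_zero_of_smul.mpr fun m hm => ?_
      by_contra hm0
      have hz : algebraMap L E x ∈ {r : E | ∃ m : N, m ≠ 0 ∧ r • m = 0} := ⟨m, hm0, hm⟩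
      rw [← biUnion_associatedPrimes_eq_zero_divisors E N] at hz
      obtain ⟨P, hP, hxP⟩ := Set.mem_iUnion₂.mp hz
      exact hx P hP hxP
    have hd : (d : ℕ∞) ≤ LocCoh.idealDepth (a.map (algebraMap L E)) (QuotSMulTop (algebraMap L E x) N) := by
      by_cases htop : (a.map (algebraMap L E)) • (⊤ : Submodule E N) = ⊤
      · rw [LocCoh.idealDepth, if_pos ?_]
        · exact le_top
        · have h2 := congrArg (Submodule.map (Submodule.mkQ (algebraMap L E x • (⊤ : Submodule E N)))) htop
          rwa [Submodule.map_smul'', Submodule.map_top, Submodule.range_mkQ] at h2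
      · have h2 := Groth.LocCohBase.idealDepth_quotSMulTop_add_one (a.map (algebraMap L E)) N htop
          (Ideal.mem_map_of_mem _ hxa) hreg
        rw [← h2, Nat.cast_add, Nat.cast_one] at hN
        exact (WithTop.add_le_add_iff_right (by exact ENat.natCast_ne_top 1)).mp hN
    obtain ⟨rs, hlen, hmem, hrs⟩ := ih _ hd
    refine ⟨x :: rs, by simp [hlen], by simpa [hxa] using hmem, ?_⟩
    rw [List.map_cons, RingTheory.Sequence.isWeaklyRegular_cons_iff]
    exact ⟨hreg, hrs⟩

theorem depth_ringEquiv {A B : Type u} [CommRing A] [CommRing B] [IsLocalRing A] [IsLocalRing B]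
    (e : A ≃+* B) : LocCoh.depth A A = LocCoh.depth B B := by
  letI := e.toRingHom.toAlgebra
  have hf : Function.Surjective (algebraMap A B) := e.surjective
  have hm : (maximalIdeal A).map e.toRingHom = maximalIdeal B :=
    IsLocalRing.map_maximalIdeal_of_surjective _ e.surjective
  rw [LocCoh.depth, LocCoh.depth, LocCoh.idealDepth, LocCoh.idealDepth, if_neg, if_neg]
  · have hiff : ∀ rs : List A, RingTheory.Sequence.IsWeaklyRegular B (rs.map e) ↔
        RingTheory.Sequence.IsWeaklyRegular A rs := fun rs =>
      ((AddEquiv.isWeaklyRegular_congr (e := e.toAddEquiv) (List.forall₂_map_right_iff.mpr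
        (List.forall₂_same.mpr fun r _ x => map_mul e r x)))).symm
    refine le_antisymm (iSup₂_le fun rs h => ?_) (iSup₂_le fun rs h => ?_)
    · refine le_iSup₂_of_le (rs.map e) ⟨(hiff rs).mpr h.1, ?_⟩ (by simp)
      intro r hr
      obtain ⟨s, hs, rfl⟩ := List.mem_map.1 hr
      rw [← hm]
      exact Ideal.mem_map_of_mem _ (h.2 s hs)
    · have hback : (rs.map e.symm).map e = rs := by simp [List.map_map, Function.comp_def]
      refine le_iSup₂_of_le (rs.map e.symm) ⟨(hiff _).mp (by rw [hback]; exact h.1), ?_⟩ (by simp)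
      intro r hr
      obtain ⟨s, hs, rfl⟩ := List.mem_map.1 hr
      have h2 := h.2 s hs
      rw [mem_maximalIdeal, mem_nonunits_iff] at h2 ⊢
      exact fun hu => h2 (by simpa using hu.map e)
  · simpa using (maximalIdeal.isMaximal B).ne_top
  · simpa using (maximalIdeal.isMaximal A).ne_top

/-- depth at `p` of a direct summand of an algebra all whose local rings over `p` have depth at least `d` -/
theorem le_depth_of_primes {R G M : Type u} [CommRing R] [CommRing G] [IsNoetherianRing G]
    [Algebra R G] (p : Ideal R) [p.IsPrime] [AddCommGroup M] [Module R M]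
    (i : M →ₗ[R] G) (r : G →ₗ[R] M) (h : r ∘ₗ i = LinearMap.id) (d : ℕ)
    (hQ : ∀ (Q : Ideal G) [Q.IsPrime], Q.comap (algebraMap R G) = p →
      (d : ℕ∞) ≤ LocCoh.depth (Localization.AtPrime Q) (Localization.AtPrime Q)) :
    (d : ℕ∞) ≤ LocCoh.depth (Localization.AtPrime p) (LocalizedModule p.primeCompl M) := by
  let E := Localization (Algebra.algebraMapSubmonoid G p.primeCompl)
  letI : Algebra (Localization.AtPrime p) E := localizationAlgebra p.primeCompl G
  haveI : IsScalarTower R (Localization.AtPrime p) E := IsScalarTower.of_algebraMap_eq fun x => by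
    rw [IsScalarTower.algebraMap_apply R G E]
    exact (IsLocalization.map_eq (S := Localization.AtPrime p) (Q := E) (T := Algebra.algebraMapSubmonoid G p.primeCompl)
      (Submonoid.le_comap_map _) x).symm
  have hmax : ∀ Q' : Ideal E, Q'.IsPrime →
      (maximalIdeal (Localization.AtPrime p)).map (algebraMap _ E) ≤ Q' →
      (Q'.comap (algebraMap G E)).comap (algebraMap R G) = p := by
    intro Q' hQ' hle
    rw [Ideal.comap_comap, ← IsScalarTower.algebraMap_eq,
      IsScalarTower.algebraMap_eq R (Localization.AtPrime p) E, ← Ideal.comap_comap,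
      ← ((maximalIdeal.isMaximal (Localization.AtPrime p)).eq_of_le (Ideal.IsPrime.comap _).ne_top
        (Ideal.map_le_iff_le_comap.mp hle))]
    exact Localization.AtPrime.under_maximalIdeal (I := p)
  have hdE : (d : ℕ∞) ≤ LocCoh.idealDepth ((maximalIdeal (Localization.AtPrime p)).map (algebraMap _ E)) E := by
    rw [Groth.LocCohBase.idealDepth_eq_iInf_depth]
    refine le_iInf₂ fun Q' hQ' => ?_
    haveI : (Q'.asIdeal.comap (algebraMap G E)).IsPrime := Ideal.IsPrime.comap _
    refine (hQ _ (hmax _ Q'.isPrime hQ')).trans (le_of_eq ?_)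
    haveI := IsLocalization.isLocalization_isLocalization_atPrime_isLocalization
      (Algebra.algebraMapSubmonoid G p.primeCompl) (S := E) (Localization.AtPrime Q'.asIdeal) Q'.asIdeal
    exact depth_ringEquiv (IsLocalization.algEquiv (Q'.asIdeal.comap (algebraMap G E)).primeCompl
      (Localization.AtPrime (Q'.asIdeal.comap (algebraMap G E))) (Localization.AtPrime Q'.asIdeal)).toRingEquiv
  obtain ⟨rs, hlen, hmem, hrs⟩ := exists_regular_seq (maximalIdeal (Localization.AtPrime p)) d E hdE
  rw [RingTheory.Sequence.isWeaklyRegular_map_algebraMap_iff] at hrs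
  haveI : IsLocalizedModule p.primeCompl (IsScalarTower.toAlgHom R G E).toLinearMap :=
    isLocalizedModule_iff_isLocalization.mpr inferInstance
  let fM := LocalizedModule.mkLinearMap p.primeCompl M
  let fE := (IsScalarTower.toAlgHom R G E).toLinearMap
  let i' := (IsLocalizedModule.map p.primeCompl fM fE i).extendScalarsOfIsLocalization p.primeCompl
    (Localization.AtPrime p)
  let r' := (IsLocalizedModule.map p.primeCompl fE fM r).extendScalarsOfIsLocalization p.primeCompl
    (Localization.AtPrime p)
  have hri : r' ∘ₗ i' = LinearMap.id := by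
    have h2 : (IsLocalizedModule.map p.primeCompl fE fM r) ∘ₗ (IsLocalizedModule.map p.primeCompl fM fE i) =
        LinearMap.id := by
      rw [← IsLocalizedModule.map_comp' p.primeCompl fM fE fM i r, h, IsLocalizedModule.map_id]
    exact LinearMap.ext fun x => LinearMap.congr_fun h2 x
  rw [LocCoh.depth, LocCoh.idealDepth]
  split_ifs
  · exact le_top
  · exact le_iSup₂_of_le rs ⟨isWeaklyRegular_retract rs i' r' hri hrs, hmem⟩ (by rw [hlen])

end Groth.Calg7.RegSeqSummand
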