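import Mathlib
import Groth.Agent.S15842

/-!
Fibrewise regular matrices: matrices over an algebra commuting with such a matrix commute.
-/

set_option autoImplicit false
universe u

namespace Groth.Calg7.RegularMatrix

/-- local cyclic vectors of a fibrewise regular matrix -/
theorem exists_det_not_mem {A : Type u} [CommRing A] {n : ℕ} (g : Matrix (Fin n) (Fin n) A)
    (hreg : ∀ (K : Type u) [Field K] (φ : A →+* K),
      Module.finrank K (Subalgebra.centralizer K ({g.map φ} : Set (Matrix (Fin n) (Fin n) K))) = n)
    (m : Ideal A) [m.IsMaximal] :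
    ∃ v : Fin n → A, (Matrix.of fun r (j : Fin n) => (g ^ (j : ℕ)).mulVec v r).det ∉ m := by
  letI := Ideal.Quotient.field m
  obtain ⟨v, hv⟩ := Groth.Agent.S15842.exists_cyclic (g.map (algebraMap A (A ⧸ m))) (hreg _ _).le
  choose v' hv' using fun i => Ideal.Quotient.mk_surjective (v i)
  refine ⟨v', fun h => hv ?_⟩
  have hM : (Matrix.of fun r (j : Fin n) =>
      ((g.map (algebraMap A (A ⧸ m))) ^ (j : ℕ)).mulVec (algebraMap A (A ⧸ m) ∘ v') r).det =
        algebraMap A (A ⧸ m) (Matrix.of fun r (j : Fin n) => (g ^ (j : ℕ)).mulVec v' r).det := by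
    rw [RingHom.map_det]
    congr 1
    ext r j
    rw [Matrix.of_apply, RingHom.mapMatrix_apply, Matrix.map_apply, Matrix.of_apply,
      RingHom.map_mulVec, ← RingHom.mapMatrix_apply, ← RingHom.mapMatrix_apply, map_pow]
  rw [show v = algebraMap A (A ⧸ m) ∘ v' from funext fun i => (hv' i).symm, hM]
  exact Ideal.Quotient.eq_zero_iff_mem.2 h

theorem commute_of_commute {A : Type u} [CommRing A] {n : ℕ} (g : Matrix (Fin n) (Fin n) A)
    (hreg : ∀ (K : Type u) [Field K] (φ : A →+* K),
      Module.finrank K (Subalgebra.centralizer K ({g.map φ} : Set (Matrix (Fin n) (Fin n) K))) = n)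
    {B : Type u} [CommRing B] [Algebra A B] (x y : Matrix (Fin n) (Fin n) B)
    (hxg : x * g.map (algebraMap A B) = g.map (algebraMap A B) * x)
    (hyg : y * g.map (algebraMap A B) = g.map (algebraMap A B) * y) :
    x * y = y * x := by
  rw [← sub_eq_zero]
  set D := x * y - y * x
  let I : Ideal A :=
    { carrier := {a | algebraMap A B a • D = 0}
      zero_mem' := by simp
      add_mem' := fun {a b} (ha : _ = _) (hb : _ = _) => by
        show algebraMap A B (a + b) • D = 0
        rw [map_add, add_smul, ha, hb, add_zero]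
      smul_mem' := fun c a (ha : _ = _) => by
        show algebraMap A B (c * a) • D = 0
        rw [map_mul, mul_smul, ha, smul_zero] }
  have hI : I = ⊤ := by
    by_contra hne
    obtain ⟨m, hm, hle⟩ := Ideal.exists_le_maximal I hne
    obtain ⟨v, hv⟩ := exists_det_not_mem g hreg m
    refine hv (hm.isPrime.mem_of_pow_mem 3 (hle ?_))
    show algebraMap A B (_ ^ 3) • D = 0
    have hM : (Matrix.of fun r (j : Fin n) =>
        ((g.map (algebraMap A B)) ^ (j : ℕ)).mulVec (algebraMap A B ∘ v) r).det =
          algebraMap A B (Matrix.of fun r (j : Fin n) => (g ^ (j : ℕ)).mulVec v r).det := by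
      rw [RingHom.map_det]
      congr 1
      ext r j
      rw [Matrix.of_apply, RingHom.mapMatrix_apply, Matrix.map_apply, Matrix.of_apply,
        RingHom.map_mulVec, ← RingHom.mapMatrix_apply, ← RingHom.mapMatrix_apply, map_pow]
    rw [map_pow, ← hM]
    exact Groth.Agent.S15842.det_smul_commute _ x y _ hxg hyg
  have h1 : algebraMap A B 1 • D = 0 := (Ideal.eq_top_iff_one I).mp hI
  rwa [map_one, one_smul] at h1

end Groth.Calg7.RegularMatrix
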