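import Mathlib
import Groth.Prelude.Def_GLin
import Groth.Agent.GitQuot.Orbits

/-!
Coactions on factorial algebras: an invariant reduced fraction has semi-invariant numerator and
denominator, with the same unit multiplier.
-/

set_option autoImplicit false
universe u
open TensorProduct

noncomputable section

namespace Groth.Calg7.SemiInv

variable {k : Type u} [Field k] {A : Type u} [CommRing A]
variable {B : Type u} [CommRing B] [Algebra k B]

/-- evaluation of the second factor at a point -/
def evPt [Algebra k A] (φ : A →ₐ[k] k) : B ⊗[k] A →ₐ[k] B :=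
  Algebra.TensorProduct.lift (AlgHom.id k B) ((Algebra.ofId k B).comp φ) fun _ _ => Commute.all _ _

theorem evPt_tmul [Algebra k A] (φ : A →ₐ[k] k) (b : B) (a : A) :
    evPt φ (b ⊗ₜ[k] a) = φ a • b := by
  simp [evPt, Algebra.smul_def, mul_comm]

theorem evPt_eq_act [HopfAlgebra k A] [HopfRep.Comod k A B] (φ : A →ₐ[k] k) (f : B) :
    evPt φ (HopfRep.Comod.coact (k := k) (A := A) f) = HopfRep.Comod.act k A B φ f := by
  simp only [HopfRep.Comod.act, LinearMap.comp_apply]
  induction HopfRep.Comod.coact (k := k) (A := A) f using TensorProduct.induction_on with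
  | zero => simp
  | add x y hx hy => simp only [map_add, hx, hy]
  | tmul b a => simp [evPt_tmul]

theorem evPt_counit [HopfAlgebra k A] [HopfRep.Comod k A B] (f : B) :
    evPt (Bialgebra.counitAlgHom k A) (HopfRep.Comod.coact (k := k) (A := A) f) = f := by
  have h := LinearMap.congr_fun (HopfRep.Comod.counit_comp (k := k) (A := A) (V := B)) f
  simp only [LinearMap.comp_apply, LinearMap.flip_apply, TensorProduct.mk_apply] at h
  rw [evPt_eq_act]
  simp only [HopfRep.Comod.act, LinearMap.comp_apply]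
  rw [show (Bialgebra.counitAlgHom k A).toLinearMap = CoalgebraStruct.counit from rfl, h]
  simp

variable [IsAlgClosed k] [Algebra k A] [Algebra.FiniteType k A]

theorem eq_zero_of_evPt [IsReduced A] (z : B ⊗[k] A) (h : ∀ φ : A →ₐ[k] k, evPt φ z = 0) :
    z = 0 := by
  let b := Module.Free.chooseBasis k B
  apply (TensorProduct.equivFinsuppOfBasisLeft b).injective
  rw [map_zero]
  ext i
  refine (Groth.GitQuot.isNilpotent_of_forall_point (k := k) _ fun φ => ?_).eq_zero
  have key : ∀ z : B ⊗[k] A,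
      φ (TensorProduct.equivFinsuppOfBasisLeft b z i) = b.repr (evPt φ z) i := by
    intro z
    induction z using TensorProduct.induction_on with
    | zero => simp
    | add x y hx hy => simp [hx, hy]
    | tmul x a => simp [evPt_tmul, mul_comm]
  rw [key, h φ, map_zero, Finsupp.zero_apply]

theorem isUnit_of_evPt [Algebra.FiniteType k B] (z : B ⊗[k] A)
    (h : ∀ φ : A →ₐ[k] k, IsUnit (evPt φ z)) : IsUnit z := by
  by_contra hz
  haveI : Algebra.FiniteType k (B ⊗[k] A) :=
    Algebra.FiniteType.trans (S := B) inferInstance inferInstance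
  obtain ⟨ψ, hψ⟩ := Groth.GitQuot.exists_point (k := k) (Ideal.span {z})
    (fun e => hz (Ideal.span_singleton_eq_top.1 e))
  have h0 : ψ z = 0 := hψ (Ideal.mem_span_singleton_self z)
  let x : B →ₐ[k] k := ψ.comp Algebra.TensorProduct.includeLeft
  let φ : A →ₐ[k] k := ψ.comp Algebra.TensorProduct.includeRight
  have heq : ψ = x.comp (evPt φ) := by
    apply Algebra.TensorProduct.ext'
    intro b a
    rw [AlgHom.comp_apply, evPt_tmul, map_smul, smul_eq_mul]
    show ψ (b ⊗ₜ a) = ψ (1 ⊗ₜ a) * ψ (b ⊗ₜ 1)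
    rw [← map_mul, Algebra.TensorProduct.tmul_mul_tmul, one_mul, mul_one]
  rw [heq, AlgHom.comp_apply] at h0
  exact ((h φ).map x).ne_zero h0

omit [IsAlgClosed k] [Algebra.FiniteType k A] in
theorem coef_mul {ι : Type*} [DecidableEq ι] (c : Module.Basis ι k A) (x : B) (z : B ⊗[k] A) (i : ι) :
    TensorProduct.equivFinsuppOfBasisRight c ((x ⊗ₜ[k] (1 : A)) * z) i =
      x * TensorProduct.equivFinsuppOfBasisRight c z i := by
  induction z using TensorProduct.induction_on with
  | zero => simp
  | add p q hp hq => simp [mul_add, hp, hq]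
  | tmul b a => simp

omit [IsAlgClosed k] [Algebra.FiniteType k A] in
theorem tmul_one_mul_inj [IsDomain B] {x : B} (hx : x ≠ 0) {z z' : B ⊗[k] A}
    (h : (x ⊗ₜ[k] (1 : A)) * z = (x ⊗ₜ[k] (1 : A)) * z') : z = z' := by
  classical
  let c := Module.Free.chooseBasis k A
  apply (TensorProduct.equivFinsuppOfBasisRight c).injective
  ext i
  have := congrArg (fun w => TensorProduct.equivFinsuppOfBasisRight c w i) h
  simp only [coef_mul] at this
  exact mul_left_cancel₀ hx this

omit [IsAlgClosed k] [Algebra.FiniteType k A] in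
theorem exists_eq_tmul_one_mul [IsDomain B] [UniqueFactorizationMonoid B] {f g : B}
    (hfg : IsRelPrime f g) {z w : B ⊗[k] A}
    (h : (g ⊗ₜ[k] (1 : A)) * z = (f ⊗ₜ[k] (1 : A)) * w) :
    ∃ u, z = (f ⊗ₜ[k] (1 : A)) * u := by
  classical
  let c := Module.Free.chooseBasis k A
  have hdvd : ∀ i, f ∣ TensorProduct.equivFinsuppOfBasisRight c z i := by
    intro i
    have := congrArg (fun w => TensorProduct.equivFinsuppOfBasisRight c w i) h
    simp only [coef_mul] at this
    exact hfg.dvd_of_dvd_mul_left ⟨_, this⟩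
  choose q hq using hdvd
  refine ⟨∑ i ∈ (TensorProduct.equivFinsuppOfBasisRight c z).support, q i ⊗ₜ[k] c i, ?_⟩
  conv_lhs => rw [← (TensorProduct.equivFinsuppOfBasisRight c).symm_apply_apply z,
    TensorProduct.equivFinsuppOfBasisRight_symm_apply]
  rw [Finsupp.sum, Finset.mul_sum]
  exact Finset.sum_congr rfl fun i _ => by rw [Algebra.TensorProduct.tmul_mul_tmul, one_mul, ← hq i]

end Groth.Calg7.SemiInv

namespace Groth.Calg7.SemiInv

variable {k : Type u} [Field k] [IsAlgClosed k] {A : Type u} [CommRing A] [HopfAlgebra k A]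
  [Algebra.FiniteType k A] [IsReduced A]
variable {B : Type u} [CommRing B] [Algebra k B] [Algebra.FiniteType k B] [IsDomain B]
  [UniqueFactorizationMonoid B] [HopfRep.Comod k A B] [GLin.IsCoactAlg k A B]

/-- numerator and denominator of a reduced invariant fraction are semi-invariant -/
theorem exists_multiplier {f g : B} (hf : f ≠ 0) (hfg : IsRelPrime f g)
    (hinv : ∀ φ : A →ₐ[k] k,
      HopfRep.Comod.act k A B φ f * g = f * HopfRep.Comod.act k A B φ g) :
    ∃ u : (B ⊗[k] A)ˣ,
      HopfRep.Comod.coact (k := k) (A := A) f = (f ⊗ₜ[k] (1 : A)) * u ∧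
      HopfRep.Comod.coact (k := k) (A := A) g = (g ⊗ₜ[k] (1 : A)) * u := by
  have hev1 : ∀ (φ : A →ₐ[k] k) (b : B), evPt φ (b ⊗ₜ[k] (1 : A)) = b := fun φ b => by
    simp [evPt_tmul]
  have hrel : (g ⊗ₜ[k] (1 : A)) * HopfRep.Comod.coact (k := k) (A := A) f =
      (f ⊗ₜ[k] (1 : A)) * HopfRep.Comod.coact (k := k) (A := A) g := by
    rw [← sub_eq_zero]
    refine eq_zero_of_evPt _ fun φ => ?_
    rw [map_sub, map_mul, map_mul, hev1, hev1, evPt_eq_act, evPt_eq_act, ← hinv φ, mul_comm,
      sub_self]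
  obtain ⟨u, hu⟩ := exists_eq_tmul_one_mul hfg hrel
  have hu_ev : ∀ φ : A →ₐ[k] k, HopfRep.Comod.act k A B φ f = f * evPt φ u := fun φ => by
    rw [← evPt_eq_act, hu, map_mul, hev1]
  have hunit : IsUnit u := by
    refine isUnit_of_evPt u fun φ => ?_
    have hmul : ∀ (φ : A →ₐ[k] k) (x y : B), HopfRep.Comod.act k A B φ (x * y) =
        HopfRep.Comod.act k A B φ x * HopfRep.Comod.act k A B φ y := fun φ x y => by
      rw [← evPt_eq_act, ← evPt_eq_act, ← evPt_eq_act, GLin.IsCoactAlg.coact_mul, map_mul]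
    have := Groth.GitQuot.act_pointInv (k := k) (A := A) (R := B) φ f
    rw [hu_ev, hmul, hu_ev, mul_assoc] at this
    exact IsUnit.of_mul_eq_one _ (mul_left_cancel₀ hf (this.trans (mul_one f).symm))
  refine ⟨hunit.unit, hu, tmul_one_mul_inj hf ?_⟩
  rw [← hrel, hu, IsUnit.unit_spec]
  ring

end Groth.Calg7.SemiInv
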