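import Mathlib
import Groth.Agent.Calg7.ValFlatFP

/-!
Admissible algebras over semi-valuation rings: flatness and finite presentation.
-/

set_option autoImplicit false

namespace Groth.Calg7.SemiValFlatFP

open TensorProduct

universe u

variable {O : Type u} [CommRing O] {C : Type u} [CommRing C] [Algebra O C]

theorem inj_baseChange (S : Type u) [CommRing S] [Algebra O S] [Module.Flat S (S ⊗[O] C)]
    {N' N : Type u} [AddCommGroup N'] [Module S N'] [Module O N'] [IsScalarTower O S N']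
    [AddCommGroup N] [Module S N] [Module O N] [IsScalarTower O S N]
    (j : N' →ₗ[S] N) (hj : Function.Injective j) : Function.Injective ((j.restrictScalars O).rTensor C) := by
  have h1 := Module.Flat.rTensor_preserves_injective_linearMap (M := S ⊗[O] C) j hj
  have h2 : ∀ w, (j.restrictScalars O).rTensor C ((AlgebraTensorModule.cancelBaseChange O S S N' C) w) =
      (AlgebraTensorModule.cancelBaseChange O S S N C) (j.rTensor (S ⊗[O] C) w) := by
    intro w
    induction w with
    | zero => simp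
    | add x y hx hy => simp only [map_add, hx, hy]
    | tmul a y =>
      induction y with
      | zero => simp
      | add x y hx hy => simp only [tmul_add, map_add, hx, hy]
      | tmul s c => simp
  intro x y hxy
  obtain ⟨x, rfl⟩ := (AlgebraTensorModule.cancelBaseChange O S S N' C).surjective x
  obtain ⟨y, rfl⟩ := (AlgebraTensorModule.cancelBaseChange O S S N' C).surjective y
  rw [h2, h2] at hxy
  rw [h1 ((AlgebraTensorModule.cancelBaseChange O S S N C).injective hxy)]

section

variable (A : Type u) [CommRing A] [Algebra O A]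

/-- `I ⊗ C → A ⊗ C`. -/
noncomputable def toA (I : Ideal O) : I ⊗[O] C →ₗ[O] A ⊗[O] C :=
  ((Algebra.linearMap O A) ∘ₗ I.subtype).rTensor C

theorem injective_toA_of_stable [Module.Flat A (A ⊗[O] C)] (hinj : Function.Injective (algebraMap O A))
    (L : Ideal O) (hL : ∀ a : A, ∀ x ∈ L, ∃ y ∈ L, a * algebraMap O A x = algebraMap O A y) :
    Function.Injective (toA (C := C) A L) := by
  let L' := L.map (algebraMap O A)
  have hmem : ∀ z, z ∈ L' → ∃ y ∈ L, algebraMap O A y = z := by
    intro z hz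
    induction hz using Submodule.span_induction with
    | mem z hz => obtain ⟨y, hy, rfl⟩ := hz; exact ⟨y, hy, rfl⟩
    | zero => exact ⟨0, L.zero_mem, map_zero _⟩
    | add a b _ _ ha hb =>
      obtain ⟨ya, hya, rfl⟩ := ha
      obtain ⟨yb, hyb, rfl⟩ := hb
      exact ⟨ya + yb, L.add_mem hya hyb, map_add _ _ _⟩
    | smul a b _ hb =>
      obtain ⟨y, hy, rfl⟩ := hb
      obtain ⟨y', hy', he⟩ := hL a y hy
      exact ⟨y', hy', he.symm⟩
  let e : L →ₗ[O] L' :=
    { toFun := fun x => ⟨algebraMap O A x, Ideal.mem_map_of_mem _ x.2⟩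
      map_add' := fun x y => Subtype.ext (map_add _ _ _)
      map_smul' := fun c x => Subtype.ext (by simp [Algebra.smul_def]) }
  have hbij : Function.Bijective e := ⟨fun x y h => Subtype.ext (hinj (congrArg Subtype.val h)), fun z => by
    obtain ⟨y, hy, hyz⟩ := hmem z.1 z.2
    exact ⟨⟨y, hy⟩, Subtype.ext hyz⟩⟩
  have h0 : toA (C := C) A L =
      ((L'.subtype.restrictScalars O).rTensor C) ∘ₗ ((LinearEquiv.ofBijective e hbij).rTensor C).toLinearMap :=
    TensorProduct.ext' fun x c => rfl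
  rw [h0]
  exact (inj_baseChange A L'.subtype Subtype.val_injective).comp (LinearEquiv.injective _)

theorem injective_toA_step (m : Ideal O) [Module.Flat (O ⧸ m) ((O ⧸ m) ⊗[O] C)] {L I J : Ideal O}
    (hLI : L ≤ I) (hIJ : I ≤ J) (hmJ : m * J ≤ L)
    (hL : Function.Injective (toA (C := C) A L)) (hJ : Function.Injective (toA (C := C) A J)) :
    Function.Injective (toA (C := C) A I) := by
  let L₁ : Submodule O I := Submodule.comap I.subtype L
  let L₂ : Submodule O J := Submodule.comap J.subtype L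
  let j : (I ⧸ L₁) →ₗ[O] (J ⧸ L₂) := L₁.mapQ L₂ (Submodule.inclusion hIJ) (fun x hx => hx)
  have hj : Function.Injective j := by
    rw [← LinearMap.ker_eq_bot, LinearMap.ker_eq_bot']
    intro x hx
    obtain ⟨x, rfl⟩ := L₁.mkQ_surjective x
    rw [Submodule.mkQ_apply] at hx ⊢
    have hx' : Submodule.Quotient.mk (p := L₂) (Submodule.inclusion hIJ x) = 0 := hx
    rw [Submodule.Quotient.mk_eq_zero] at hx'
    rw [Submodule.Quotient.mk_eq_zero]
    exact hx'
  have ht : ∀ (K : Ideal O) (L₀ : Submodule O K), L₀ = Submodule.comap K.subtype L → K ≤ J →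
      Module.IsTorsionBySet O (K ⧸ L₀) (m : Set O) := by
    rintro K L₀ rfl hK x ⟨a, ha⟩
    obtain ⟨x, rfl⟩ := (Submodule.comap K.subtype L).mkQ_surjective x
    rw [Submodule.mkQ_apply, ← Submodule.Quotient.mk_smul, Submodule.Quotient.mk_eq_zero]
    exact hmJ (Ideal.mul_mem_mul ha (hK x.2))
  letI := (ht I L₁ rfl hIJ).module
  letI := (ht J L₂ rfl le_rfl).module
  have hjinj : Function.Injective (j.rTensor C) := by
    let jS : (I ⧸ L₁) →ₗ[O ⧸ m] (J ⧸ L₂) :=
      { toFun := j
        map_add' := j.map_add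
        map_smul' := fun c x => by
          obtain ⟨c, rfl⟩ := Ideal.Quotient.mk_surjective c
          exact j.map_smul c x }
    exact inj_baseChange (O ⧸ m) jS hj
  rw [← LinearMap.ker_eq_bot, LinearMap.ker_eq_bot']
  intro z hz
  have h1 : (Submodule.inclusion hIJ).rTensor C z = 0 := hJ (by
    rw [map_zero, ← hz, toA, toA, ← LinearMap.rTensor_comp_apply]
    rfl)
  have h2 : j.rTensor C (L₁.mkQ.rTensor C z) = L₂.mkQ.rTensor C ((Submodule.inclusion hIJ).rTensor C z) := by
    rw [← LinearMap.rTensor_comp_apply, ← LinearMap.rTensor_comp_apply]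
    rfl
  rw [h1, map_zero] at h2
  have h3 : L₁.mkQ.rTensor C z = 0 := hjinj (h2.trans (map_zero _).symm)
  obtain ⟨w, hw⟩ := ((rTensor_exact C (LinearMap.exact_subtype_mkQ L₁) L₁.mkQ_surjective) z).1 h3
  let e : L₁ ≃ₗ[O] L := Submodule.comapSubtypeEquivOfLe hLI
  have h4 : toA (C := C) A L (e.toLinearMap.rTensor C w) = toA (C := C) A I z := by
    rw [← hw, toA, toA, ← LinearMap.rTensor_comp_apply, ← LinearMap.rTensor_comp_apply]
    rfl
  rw [hz] at h4
  have h5 : (e.rTensor C) w = 0 := hL (h4.trans (map_zero _).symm)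
  rw [(e.rTensor C).map_eq_zero_iff] at h5
  rw [← hw, h5, map_zero]

variable {A}

theorem flat_of_semival (m : Ideal O) (hinj : Function.Injective (algebraMap O A))
    (hm : ∀ a : A, ∀ x ∈ m, ∃ y ∈ m, a * algebraMap O A x = algebraMap O A y)
    (hS : ∀ f ∉ m, ∃ v : A, algebraMap O A f * v = 1)
    (hadm : Function.Injective (Algebra.TensorProduct.includeRight : C →ₐ[O] A ⊗[O] C))
    [Module.Flat A (A ⊗[O] C)] [Module.Flat (O ⧸ m) ((O ⧸ m) ⊗[O] C)] : Module.Flat O C := by
  have htop : Function.Injective (toA (C := C) A (⊤ : Ideal O)) := by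
    have h : toA (C := C) A (⊤ : Ideal O) = (Algebra.TensorProduct.includeRight : C →ₐ[O] A ⊗[O] C).toLinearMap ∘ₗ
        ((TensorProduct.lid O C).toLinearMap ∘ₗ ((⊤ : Ideal O).subtype).rTensor C) := by
      refine TensorProduct.ext' fun x c => ?_
      show algebraMap O A (x : O) ⊗ₜ[O] c = (1 : A) ⊗ₜ[O] ((x : O) • c)
      rw [TensorProduct.tmul_smul, TensorProduct.smul_tmul', Algebra.algebraMap_eq_smul_one]
    rw [h]
    exact hadm.comp ((TensorProduct.lid O C).injective.comp
      (Submodule.topEquiv.rTensor C).injective)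
  rw [Module.Flat.iff_rTensor_injective']
  intro I
  suffices h : Function.Injective (toA (C := C) A I) by
    have h0 : toA (C := C) A I = (Algebra.linearMap O A).rTensor C ∘ₗ I.subtype.rTensor C :=
      LinearMap.rTensor_comp _ _ _
    rw [h0, LinearMap.coe_comp] at h
    exact h.of_comp
  by_cases hI : I ≤ m
  · let J : Ideal O := (I.map (algebraMap O A)).comap (algebraMap O A)
    have hJm : ∀ z ∈ I.map (algebraMap O A), ∃ y ∈ m, algebraMap O A y = z := by
      intro z hz
      induction hz using Submodule.span_induction with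
      | mem z hz => obtain ⟨y, hy, rfl⟩ := hz; exact ⟨y, hI hy, rfl⟩
      | zero => exact ⟨0, m.zero_mem, map_zero _⟩
      | add a b _ _ ha hb =>
        obtain ⟨ya, hya, rfl⟩ := ha
        obtain ⟨yb, hyb, rfl⟩ := hb
        exact ⟨ya + yb, m.add_mem hya hyb, map_add _ _ _⟩
      | smul a b _ hb =>
        obtain ⟨y, hy, rfl⟩ := hb
        obtain ⟨y', hy', he⟩ := hm a y hy
        exact ⟨y', hy', he.symm⟩
    have hmJ : m * J ≤ I := by
      have key : ∀ z ∈ I.map (algebraMap O A), ∀ x ∈ m, ∃ i ∈ I, algebraMap O A x * z = algebraMap O A i := by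
        intro z hz
        induction hz using Submodule.span_induction with
        | mem z hz =>
          obtain ⟨y, hy, rfl⟩ := hz
          exact fun x _ => ⟨x * y, I.mul_mem_left x hy, (map_mul _ _ _).symm⟩
        | zero => exact fun x _ => ⟨0, I.zero_mem, by simp⟩
        | add a b _ _ ha hb =>
          intro x hx
          obtain ⟨i, hi, h1⟩ := ha x hx
          obtain ⟨i', hi', h2⟩ := hb x hx
          exact ⟨i + i', I.add_mem hi hi', by rw [mul_add, h1, h2, map_add]⟩
        | smul a b _ hb =>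
          intro x hx
          obtain ⟨y, hy, hxy⟩ := hm a x hx
          obtain ⟨i, hi, h1⟩ := hb y hy
          refine ⟨i, hi, ?_⟩
          rw [← h1, ← hxy, smul_eq_mul]; ring
      rw [Ideal.mul_le]
      intro x hx y hy
      obtain ⟨i, hi, h1⟩ := key _ hy x hx
      rw [← map_mul] at h1
      rwa [hinj h1]
    have hstab : ∀ a : A, ∀ x ∈ m * J, ∃ y ∈ m * J, a * algebraMap O A x = algebraMap O A y := by
      intro a x hx
      refine Submodule.mul_induction_on hx (fun y hy z hz => ?_) (fun y z hy hz => ?_)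
      · obtain ⟨y', hy', he⟩ := hm a y hy
        exact ⟨y' * z, Ideal.mul_mem_mul hy' hz, by rw [map_mul, ← mul_assoc, he, map_mul]⟩
      · obtain ⟨y', hy', h1⟩ := hy
        obtain ⟨z', hz', h2⟩ := hz
        exact ⟨y' + z', add_mem hy' hz', by rw [map_add, mul_add, h1, h2, map_add]⟩
    have hJ : ∀ a : A, ∀ x ∈ J, ∃ y ∈ J, a * algebraMap O A x = algebraMap O A y := by
      intro a x hx
      obtain ⟨y, -, hy⟩ := hJm _ (Ideal.mul_mem_left _ a hx)
      exact ⟨y, show algebraMap O A y ∈ I.map (algebraMap O A) from hy ▸ Ideal.mul_mem_left _ a hx, hy.symm⟩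
    exact injective_toA_step A m hmJ Ideal.le_comap_map le_rfl
      (injective_toA_of_stable A hinj _ hstab) (injective_toA_of_stable A hinj _ hJ)
  · obtain ⟨f, hfI, hfm⟩ := Set.not_subset.1 hI
    obtain ⟨v, hv⟩ := hS f hfm
    have hmI : m ≤ I := by
      intro x hx
      obtain ⟨y, -, hy⟩ := hm v x hx
      have : x = f * y := hinj (by rw [map_mul, ← hy, ← mul_assoc, hv, one_mul])
      exact this ▸ I.mul_mem_right y hfI
    exact injective_toA_step A m hmI le_top (by simp) (injective_toA_of_stable A hinj m hm) htop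

theorem flat_quotient (m : Ideal O) [IsDomain (O ⧸ m)] [ValuationRing (O ⧸ m)]
    (hm : ∀ a : A, ∀ x ∈ m, ∃ y ∈ m, a * algebraMap O A x = algebraMap O A y)
    (hS : ∀ f ∉ m, ∃ v : A, algebraMap O A f * v = 1)
    (hadm : Function.Injective (Algebra.TensorProduct.includeRight : C →ₐ[O] A ⊗[O] C)) :
    Module.IsTorsionFree (O ⧸ m) ((O ⧸ m) ⊗[O] C) ∧ Module.Flat (O ⧸ m) ((O ⧸ m) ⊗[O] C) := by
  have key : Module.IsTorsionFree (O ⧸ m) ((O ⧸ m) ⊗[O] C) := .of_smul_eq_zero fun r x hx => by
    obtain ⟨r, rfl⟩ := Ideal.Quotient.mk_surjective r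
    refine or_iff_not_imp_left.2 fun hr => ?_
    rw [Ideal.Quotient.eq_zero_iff_mem] at hr
    let e := TensorProduct.quotTensorEquivQuotSMul C m
    obtain ⟨c, hc⟩ := Submodule.Quotient.mk_surjective _ (e x)
    have h1 : r • c ∈ (m • ⊤ : Submodule O C) := by
      rw [← Submodule.Quotient.mk_eq_zero, Submodule.Quotient.mk_smul, hc, ← e.map_smul]
      have h2 : r • x = 0 := by
        rw [← hx, ← Ideal.Quotient.algebraMap_eq, algebraMap_smul]
      rw [h2, map_zero]
    obtain ⟨v, hv⟩ := hS r hr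
    have h2 : ∀ z ∈ (m • ⊤ : Submodule O C), ∃ w ∈ (m • ⊤ : Submodule O C),
        v • ((1 : A) ⊗ₜ[O] z) = (1 : A) ⊗ₜ[O] w := by
      intro z hz
      refine Submodule.smul_induction_on hz (fun a ha y _ => ?_) (fun y z hy hz => ?_)
      · obtain ⟨b, hb, he⟩ := hm v a ha
        refine ⟨b • y, Submodule.smul_mem_smul hb trivial, ?_⟩
        rw [tmul_smul, tmul_smul, smul_tmul', smul_tmul', smul_tmul', Algebra.smul_def a, smul_eq_mul, mul_one, he,
          Algebra.smul_def, mul_one]
      · obtain ⟨y', hy', h3⟩ := hy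
        obtain ⟨z', hz', h4⟩ := hz
        exact ⟨y' + z', add_mem hy' hz', by rw [tmul_add, smul_add, h3, h4, tmul_add]⟩
    obtain ⟨w, hw, he⟩ := h2 _ h1
    rw [tmul_smul, smul_tmul', smul_tmul', smul_eq_mul, Algebra.smul_def, mul_one, mul_comm, hv] at he
    have h3 : c = w := hadm he
    rw [← e.map_eq_zero_iff, ← hc, Submodule.Quotient.mk_eq_zero]
    exact h3 ▸ hw
  exact ⟨key, Module.Flat.flat_iff_torsion_eq_bot_of_isBezout.2 (Submodule.isTorsionFree_iff_torsion_eq_bot.1 key)⟩

set_option maxHeartbeats 400000 in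
theorem exists_span_smul_mem {n : ℕ} (π : MvPolynomial (Fin n) O →ₐ[O] C) (hπ : Function.Surjective π)
    (m : Ideal O) (hinj : Function.Injective (algebraMap O A))
    (hm : ∀ a : A, ∀ x ∈ m, ∃ y ∈ m, a * algebraMap O A x = algebraMap O A y)
    (hfp : Algebra.FinitePresentation A (A ⊗[O] C)) :
    ∃ T : Finset (MvPolynomial (Fin n) O), (T : Set (MvPolynomial (Fin n) O)) ⊆ RingHom.ker π ∧
      ∀ x ∈ m, ∀ i ∈ RingHom.ker π, x • i ∈ Ideal.span (T : Set (MvPolynomial (Fin n) O)) := by
  classical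
  let P := MvPolynomial (Fin n) O
  let I : Ideal P := RingHom.ker π
  let πA : A ⊗[O] P →ₐ[A] A ⊗[O] C := Algebra.TensorProduct.map (AlgHom.id A A) π
  have hπA : Function.Surjective πA := by
    intro w
    induction w with
    | zero => exact ⟨0, map_zero _⟩
    | tmul a c =>
      obtain ⟨p, hp⟩ := hπ c
      exact ⟨a ⊗ₜ p, by simp only [πA, Algebra.TensorProduct.map_tmul, AlgHom.id_apply, hp]⟩
    | add x y hx hy =>
      obtain ⟨a, ha⟩ := hx
      obtain ⟨b, hb⟩ := hy
      exact ⟨a + b, by rw [map_add, ha, hb]⟩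
  haveI : Algebra.FinitePresentation A (A ⊗[O] P) :=
    Algebra.FinitePresentation.equiv (MvPolynomial.algebraTensorAlgEquiv O A).symm
  have hker : RingHom.ker πA = I.map (Algebra.TensorProduct.includeRight : P →ₐ[O] A ⊗[O] P) :=
    Algebra.TensorProduct.lTensor_ker π hπ
  obtain ⟨T, hT0⟩ : ∃ T : Finset P, (T : Set P) ⊆ I ∧ ∀ z ∈ I, ((1 : A) ⊗ₜ[O] z) ∈
      Ideal.span ((fun t => (1 : A) ⊗ₜ[O] t) '' (T : Set P)) := by
    have hfg : (RingHom.ker πA).FG := Algebra.FinitePresentation.ker_fG_of_surjective πA hπA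
    rw [hker, Ideal.map] at hfg
    obtain ⟨T₀, hT₀, hspan⟩ := (Submodule.fg_span_iff_fg_span_finset_subset _).1 hfg
    choose g hg hg' using fun t : T₀ => hT₀ t.2
    refine ⟨Finset.univ.image g, fun x hx => ?_, fun z hz => ?_⟩
    · obtain ⟨t, -, rfl⟩ := Finset.mem_image.1 (Finset.mem_coe.1 hx)
      exact hg t
    · have h1 : ((1 : A) ⊗ₜ[O] z) ∈ Submodule.span (A ⊗[O] P) (T₀ : Set (A ⊗[O] P)) :=
        hspan ▸ Submodule.subset_span ⟨z, hz, rfl⟩
      refine Submodule.span_mono (fun t ht => ?_) h1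
      exact ⟨g ⟨t, ht⟩, Finset.mem_coe.2 (Finset.mem_image_of_mem g (Finset.mem_univ _)), hg' ⟨t, ht⟩⟩
  -- `m I` lies in the span of `T`
  have hincl : Function.Injective fun p : P => (1 : A) ⊗ₜ[O] p := by
    have h1 := Module.Flat.rTensor_preserves_injective_linearMap (M := P) (Algebra.linearMap O A) hinj
    have h2 : (fun p : P => (1 : A) ⊗ₜ[O] p) = (Algebra.linearMap O A).rTensor P ∘ (TensorProduct.lid O P).symm := by
      funext p; simp
    rw [h2]
    exact h1.comp (TensorProduct.lid O P).symm.injective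
  have hcl : ∀ (w : A ⊗[O] P) (x : O), x ∈ m → ∃ p : P, x • w = (1 : A) ⊗ₜ[O] p := by
    intro w
    induction w with
    | zero => exact fun x _ => ⟨0, by simp⟩
    | add a b ha hb =>
      intro x hx
      obtain ⟨p, hp⟩ := ha x hx
      obtain ⟨p', hp'⟩ := hb x hx
      exact ⟨p + p', by rw [smul_add, hp, hp', tmul_add]⟩
    | tmul a p =>
      intro x hx
      obtain ⟨y, -, hy⟩ := hm a x hx
      refine ⟨y • p, ?_⟩
      rw [tmul_smul, smul_tmul', smul_tmul', Algebra.smul_def, Algebra.smul_def, mul_one, mul_comm, hy]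
  have hmI : ∀ x ∈ m, ∀ i ∈ I, x • i ∈ Ideal.span (T : Set P) := by
    intro x hx i hi
    obtain ⟨h, hh⟩ := Submodule.mem_span_range_iff_exists_fun (A ⊗[O] P) (v := fun t : T => (1 : A) ⊗ₜ[O] t.1) |>.1
      (by
        convert hT0.2 i hi using 2
        ext; simp)
    choose p hp using fun t : T => hcl (h t) x hx
    have : x • i = ∑ t : T, p t * t.1 := hincl (by
      show (1 : A) ⊗ₜ[O] (x • i) = (1 : A) ⊗ₜ[O] ∑ t : T, p t * t.1
      rw [tmul_smul, ← hh, Finset.smul_sum, tmul_sum]
      refine Finset.sum_congr rfl fun t _ => ?_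
      rw [smul_eq_mul, ← smul_mul_assoc, hp, Algebra.TensorProduct.tmul_mul_tmul, one_mul])
    rw [this]
    exact Ideal.sum_mem _ fun t _ => Ideal.mul_mem_left _ _ (Ideal.subset_span t.2)
  exact ⟨T, hT0.1, hmI⟩

theorem exists_lifts {n : ℕ} (π : MvPolynomial (Fin n) O →ₐ[O] C) (hπ : Function.Surjective π) (m : Ideal O)
    [IsDomain (O ⧸ m)] [ValuationRing (O ⧸ m)] (hT : Module.IsTorsionFree (O ⧸ m) ((O ⧸ m) ⊗[O] C)) :
    ∃ G : Finset (MvPolynomial (Fin n) O), (G : Set (MvPolynomial (Fin n) O)) ⊆ RingHom.ker π ∧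
      ∀ z ∈ RingHom.ker π, ∃ y ∈ Ideal.span (G : Set (MvPolynomial (Fin n) O)), z - y ∈ m.map (MvPolynomial.C (σ := Fin n)) := by
  classical
  let P := MvPolynomial (Fin n) O
  let I : Ideal P := RingHom.ker π
  let mC : Ideal C := m.map (algebraMap O C)
  let PR := MvPolynomial (Fin n) (O ⧸ m)
  let red : P →+* PR := MvPolynomial.map (Ideal.Quotient.mk m)
  have hred : Function.Surjective red := MvPolynomial.map_surjective _ Ideal.Quotient.mk_surjective
  letI : Algebra (O ⧸ m) (C ⧸ mC) := Ideal.Quotient.algebraQuotientMapQuotient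
  let θ : PR →ₐ[O ⧸ m] C ⧸ mC := MvPolynomial.aeval fun i => Ideal.Quotient.mk mC (π (MvPolynomial.X i))
  have hθ : ∀ p, θ (red p) = Ideal.Quotient.mk mC (π p) := by
    intro p
    have : θ.toRingHom.comp red = (Ideal.Quotient.mk mC).comp π.toRingHom := by
      refine MvPolynomial.ringHom_ext (fun c => ?_) fun i => ?_
      · show θ (red (MvPolynomial.C c)) = Ideal.Quotient.mk mC (π (MvPolynomial.C c))
        rw [show red (MvPolynomial.C c) = MvPolynomial.C (Ideal.Quotient.mk m c) from MvPolynomial.map_C _ _,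
          ← MvPolynomial.algebraMap_eq, ← MvPolynomial.algebraMap_eq, θ.commutes, π.commutes]
        rfl
      · show θ (red (MvPolynomial.X i)) = Ideal.Quotient.mk mC (π (MvPolynomial.X i))
        rw [show red (MvPolynomial.X i) = MvPolynomial.X i from MvPolynomial.map_X _ _]
        exact MvPolynomial.aeval_X _ _
    exact RingHom.congr_fun this p
  haveI : Module.IsTorsionFree (O ⧸ m) (C ⧸ mC) := by
    let e : ((O ⧸ m) ⊗[O] C) ≃ₗ[O ⧸ m] C ⧸ mC :=
      ((Algebra.TensorProduct.quotIdealMapEquivQuotTensor C m).symm).toLinearEquiv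
    exact Function.Injective.moduleIsTorsionFree _ e.symm.injective fun _ _ => map_smul e.symm _ _
  let Ib : Ideal PR := RingHom.ker θ
  have hIb : Ib.FG := by
    haveI : Module.IsTorsionFree (O ⧸ m) (PR ⧸ Ib) := by
      let ψ : (PR ⧸ Ib) →ₐ[O ⧸ m] C ⧸ mC := Ideal.Quotient.liftₐ Ib θ fun a ha => ha
      exact Function.Injective.moduleIsTorsionFree ψ
        (by rw [injective_iff_map_eq_zero]; intro a ha
            obtain ⟨a, rfl⟩ := Ideal.Quotient.mk_surjective a
            exact Ideal.Quotient.eq_zero_iff_mem.2 (show θ a = 0 from ha))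
        fun _ _ => map_smul ψ _ _
    haveI : Module.FinitePresentation PR (PR ⧸ Ib) := Groth.Calg7.ValFlatFP.finitePresentation (O ⧸ m) PR (PR ⧸ Ib)
    have := Module.FinitePresentation.fg_ker (Submodule.mkQ Ib) (Submodule.mkQ_surjective _)
    rwa [Submodule.ker_mkQ] at this
  have hkerred : RingHom.ker red = m.map (MvPolynomial.C (σ := Fin n)) := by
    rw [MvPolynomial.ker_map, Ideal.mk_ker]
  have hlift : ∀ g ∈ Ib, ∃ p ∈ I, red p = g := by
    intro g hg
    obtain ⟨p, rfl⟩ := hred g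
    have h1 : π p ∈ mC := by
      rw [← Ideal.Quotient.eq_zero_iff_mem, ← hθ]; exact hg
    have h2 : mC = (m.map (MvPolynomial.C (σ := Fin n))).map π := by
      refine Eq.trans ?_ (Ideal.map_map (MvPolynomial.C (σ := Fin n)) π.toRingHom).symm
      refine congrArg (fun f : O →+* C => Ideal.map f m) ?_
      exact RingHom.ext fun c => (π.commutes c).symm
    rw [h2, Ideal.mem_map_iff_of_surjective π hπ] at h1
    obtain ⟨q, hq, hqp⟩ := h1
    refine ⟨p - q, by simp [I, hqp], ?_⟩
    rw [← hkerred] at hq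
    rw [map_sub, RingHom.mem_ker.1 hq, sub_zero]
  obtain ⟨G₀, hG₀⟩ := hIb
  choose lift hliftI hliftred using fun g : G₀ => hlift g.1 (hG₀ ▸ Ideal.subset_span g.2)
  let G : Finset P := Finset.univ.image lift
  refine ⟨G, fun t ht => ?_, fun z hz => ?_⟩
  · obtain ⟨g, -, rfl⟩ := Finset.mem_image.1 (Finset.mem_coe.1 ht)
    exact hliftI g
  · have hspanG : red z ∈ (Ideal.span (G : Set P)).map red := by
      rw [Ideal.map_span]
      have h1 : red z ∈ Ib := by
        show θ (red z) = 0
        rw [hθ, show π z = 0 from hz, map_zero]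
      rw [← hG₀] at h1
      refine Ideal.span_mono (fun g hg => ?_) h1
      exact ⟨lift ⟨g, hg⟩, Finset.mem_coe.2 (Finset.mem_image_of_mem lift (Finset.mem_univ _)), hliftred ⟨g, hg⟩⟩
    rw [Ideal.mem_map_iff_of_surjective red hred] at hspanG
    obtain ⟨y, hy, hyz⟩ := hspanG
    exact ⟨y, hy, by rw [← hkerred, RingHom.mem_ker, map_sub, hyz, sub_self]⟩

theorem mem_span_of_mem {n : ℕ} [Module.Flat O C] (π : MvPolynomial (Fin n) O →ₐ[O] C) (hπ : Function.Surjective π)
    (m : Ideal O) (S : Ideal (MvPolynomial (Fin n) O)) (hmI : ∀ x ∈ m, ∀ i ∈ RingHom.ker π, x • i ∈ S)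
    (z : (MvPolynomial (Fin n) O)) (hzI : z ∈ RingHom.ker π) (hz : z ∈ m.map (MvPolynomial.C (σ := Fin n))) : z ∈ S := by
  let P := MvPolynomial (Fin n) O
  let μ : ∀ (N : Type u) [AddCommGroup N] [Module O N], m ⊗[O] N →ₗ[O] N := fun N _ _ =>
    (TensorProduct.lid O N).toLinearMap ∘ₗ m.subtype.rTensor N
  have hz' : z ∈ (m • ⊤ : Submodule O P) := by
    rw [Ideal.smul_top_eq_map]; exact hz
  obtain ⟨w, rfl⟩ : ∃ w, μ P w = z := by
    refine Submodule.smul_induction_on hz' (fun x hx p _ => ⟨⟨x, hx⟩ ⊗ₜ p, rfl⟩) fun a b ⟨wa, ha⟩ ⟨wb, hb⟩ => ?_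
    exact ⟨wa + wb, by rw [map_add, ha, hb]⟩
  have h1 : μ C (π.toLinearMap.lTensor m w) = 0 := by
    have : μ C ∘ₗ π.toLinearMap.lTensor m = π.toLinearMap ∘ₗ μ P := TensorProduct.ext' fun x p => by simp [μ]
    rw [← LinearMap.comp_apply, this]
    exact hzI
  have h2 : Function.Injective (μ C) :=
    (TensorProduct.lid O C).injective.comp (Module.Flat.rTensor_preserves_injective_linearMap _ Subtype.val_injective)
  have h3 : π.toLinearMap.lTensor m w = 0 := h2 (h1.trans (map_zero _).symm)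
  obtain ⟨v, rfl⟩ := ((lTensor_exact m (LinearMap.exact_subtype_ker_map π.toLinearMap) hπ) w).1 h3
  clear h1 h3 hz hz' hzI
  induction v with
  | zero => simp
  | add a b ha hb => simp only [map_add]; exact add_mem ha hb
  | tmul x i =>
    have : μ P ((LinearMap.ker π.toLinearMap).subtype.lTensor m (x ⊗ₜ i)) = (x : O) • (i : P) := by simp [μ]
    rw [this]
    exact hmI x x.2 i.1 i.2

theorem finitePresentation_of_semival [Algebra.FiniteType O C] [Module.Flat O C] (m : Ideal O)
    [IsDomain (O ⧸ m)] [ValuationRing (O ⧸ m)] (hinj : Function.Injective (algebraMap O A))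
    (hm : ∀ a : A, ∀ x ∈ m, ∃ y ∈ m, a * algebraMap O A x = algebraMap O A y)
    (hT : Module.IsTorsionFree (O ⧸ m) ((O ⧸ m) ⊗[O] C))
    (hfp : Algebra.FinitePresentation A (A ⊗[O] C)) : Algebra.FinitePresentation O C := by
  classical
  obtain ⟨n, π, hπ⟩ := Algebra.FiniteType.iff_quotient_mvPolynomial''.1 ‹Algebra.FiniteType O C›
  obtain ⟨T, hTI, hmI⟩ := exists_span_smul_mem π hπ m hinj hm hfp
  obtain ⟨G, hGI, hG⟩ := exists_lifts π hπ m hT
  refine Algebra.FinitePresentation.of_surjective hπ ⟨T ∪ G, le_antisymm (Ideal.span_le.2 ?_) fun z hz => ?_⟩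
  · rw [Finset.coe_union]
    exact Set.union_subset hTI hGI
  · obtain ⟨y, hy, hyz⟩ := hG z hz
    have h2 := mem_span_of_mem π hπ m _ hmI (z - y) (sub_mem hz ((Ideal.span_le.2 hGI) hy)) hyz
    rw [Finset.coe_union, Ideal.span_union, ← sub_add_cancel z y]
    exact Submodule.add_mem_sup h2 hy

end

end Groth.Calg7.SemiValFlatFP
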