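import Groth.Agent.Ega4Algebra1.StrictCatenary
import Groth.Agent.Ega4Algebra1.StrictlyEquidimCM
import Groth.Agent.Ega4Algebra1.EquidimEssFinite
import Groth.Agent.Ega4Algebra1.CMTensor
import Groth.Agent.Ega4Algebra2.CompletedFibres
import Groth.Agent.Hensel1.FormallyCatenary
import Groth.Agent.GrMod.Hilbert
import Groth.Agent.Calg6.CMSop
import Groth.Agent.Calg1.AssTensor

/-!
Local rings essentially of finite type over formally strictly catenary local rings.

The point beyond formal catenarity is that no embedded primes appear in the completions.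
-/

set_option autoImplicit false

universe u

open IsLocalRing TensorProduct

namespace Groth.Calg7.StrictCatenaryEssFT

/-- In an equidimensional sense, a prime of full dimension is minimal. -/
theorem mem_minimalPrimes_of_dim {R : Type u} [CommRing R] [IsLocalRing R] [IsNoetherianRing R] {P : Ideal R}
    [P.IsPrime] (h : ringKrullDim (R ⧸ P) = ringKrullDim R) : P ∈ minimalPrimes R := by
  refine ⟨⟨inferInstance, bot_le⟩, fun P' hP' hle => ?_⟩
  have := hP'.1
  by_contra hne
  obtain ⟨x, hxP, hxP'⟩ := SetLike.not_le_iff_exists.mp hne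
  have hx : Ideal.Quotient.mk P' x ≠ 0 := fun e => hxP' (Ideal.Quotient.eq_zero_iff_mem.mp e)
  have h1 := ringKrullDim_quotient_succ_le_of_nonZeroDivisor (mem_nonZeroDivisors_of_ne_zero hx)
  have h2 : ringKrullDim (R ⧸ P) ≤ ringKrullDim ((R ⧸ P') ⧸ Ideal.span {Ideal.Quotient.mk P' x}) :=
    ringKrullDim_le_of_surjective (Ideal.Quotient.lift (Ideal.span {Ideal.Quotient.mk P' x})
      (Ideal.Quotient.factor hle) fun z hz => by
        obtain ⟨c, rfl⟩ := Ideal.mem_span_singleton'.mp hz
        rw [map_mul, Ideal.Quotient.factor_mk, Ideal.Quotient.eq_zero_iff_mem.mpr hxP, mul_zero])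
      (Ideal.Quotient.lift_surjective_of_surjective _ _ (Ideal.Quotient.factor_surjective hle))
  have h3 : ringKrullDim (R ⧸ P) + 1 ≤ ringKrullDim (R ⧸ P') := le_trans (add_le_add h2 le_rfl) h1
  have h4 := h3.trans (ringKrullDim_quotient_le P')
  rw [h] at h4
  obtain ⟨d, hd⟩ : ∃ d : ℕ, ringKrullDim R = d := Groth.LocCohTransform.DimCd.exists_nat_ringKrullDim
  rw [hd] at h4
  have h5 : d + 1 ≤ d := by exact_mod_cast h4
  omega

/-- Strictly equidimensional rings have no embedded primes. -/
theorem noEmb_of_isStrictlyEquidim {R : Type u} [CommRing R] [IsLocalRing R] [IsNoetherianRing R]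
    (h : EGA4.IsStrictlyEquidim R) : ∀ P ∈ associatedPrimes R R, P ∈ minimalPrimes R := fun P hP => by
  have := hP.isPrime
  exact mem_minimalPrimes_of_dim (h P hP)

/-- No embedded primes descends along faithfully flat maps. -/
theorem noEmb_descend (C C' : Type u) [CommRing C] [CommRing C'] [IsNoetherianRing C] [IsNoetherianRing C']
    [Algebra C C'] [Module.FaithfullyFlat C C'] (h : ∀ Q ∈ associatedPrimes C' C', Q ∈ minimalPrimes C') :
    ∀ P ∈ associatedPrimes C C, P ∈ minimalPrimes C := by
  intro P hP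
  have := hP.isPrime
  obtain ⟨Q, hQ⟩ := Ideal.nonempty_minimalPrimes (I := P.map (algebraMap C C')) (fun e => by
    have := Ideal.comap_map_eq_self_of_faithfullyFlat (B := C') P
    rw [e, Ideal.comap_top] at this
    exact (Ideal.IsPrime.ne_top inferInstance) this.symm)
  have := hQ.1.1
  have hass : Q ∈ associatedPrimes C' C' := by
    have h1 : Q ∈ associatedPrimes C' (C' ⊗[C] (C ⧸ P)) := by
      rw [LinearEquiv.AssociatedPrimes.eq
        ((Algebra.TensorProduct.quotIdealMapEquivTensorQuot C' P).symm.toLinearEquiv)]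
      exact Module.associatedPrimes.minimalPrimes_annihilator_subset_associatedPrimes C' _
        (by rwa [Ideal.annihilator_quotient])
    obtain ⟨-, f, hf⟩ := (isAssociatedPrime_iff_exists_injective_linearMap _ _).mp hP
    have h2 := associatedPrimes.subset_of_injective
      (f := (TensorProduct.AlgebraTensorModule.rid C C' C').toLinearMap.comp
        (AlgebraTensorModule.lTensor C' C' f))
      ((TensorProduct.AlgebraTensorModule.rid C C' C').injective.comp
        (Module.Flat.lTensor_preserves_injective_linearMap f hf)) h1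
    exact h2
  have hu : Q.under C = P := Groth.Ega4Algebra1.under_eq_of_mem_minimalPrimes_map hQ
  refine ⟨⟨inferInstance, bot_le⟩, fun P' hP' hle => ?_⟩
  have := hP'.1
  have : Q.LiesOver P := ⟨hu.symm⟩
  obtain ⟨Q', hQ'le, hQ', hQ'o⟩ := Ideal.exists_ideal_le_liesOver_of_le (p := P') Q (q := P) hle
  have hQQ : Q ≤ Q' := (h Q hass).2 ⟨hQ', bot_le⟩ hQ'le
  calc P = Q.under C := hu.symm
    _ ≤ Q'.under C := Ideal.comap_mono hQQ
    _ = P' := hQ'o.over.symm

/-- No embedded primes is invariant under isomorphisms. -/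
theorem noEmb_of_ringEquiv {C E : Type u} [CommRing C] [CommRing E] [IsNoetherianRing C] [IsNoetherianRing E]
    (e : C ≃+* E) (h : ∀ Q ∈ associatedPrimes C C, Q ∈ minimalPrimes C) :
    ∀ P ∈ associatedPrimes E E, P ∈ minimalPrimes E := by
  letI : Algebra E C := e.symm.toRingHom.toAlgebra
  have : Module.FaithfullyFlat E C :=
    Module.FaithfullyFlat.of_linearEquiv E E
      ((AlgEquiv.ofRingEquiv (f := e.symm) fun _ => rfl : E ≃ₐ[E] C).toLinearEquiv.symm)
  exact noEmb_descend E C h

/-- No embedded primes in a localization, when all associated primes survive. -/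
theorem noEmb_of_localization {U V : Type u} [CommRing U] [CommRing V] [IsNoetherianRing U] [Algebra U V]
    (S : Submonoid U) [IsLocalization S V] (hS : ∀ Q ∈ associatedPrimes U U, ∀ s ∈ S, s ∉ Q)
    (h : ∀ Q ∈ associatedPrimes V V, Q ∈ minimalPrimes V) : ∀ Q ∈ associatedPrimes U U, Q ∈ minimalPrimes U := by
  intro Q hQ
  have := hQ.isPrime
  have hdis : Disjoint (S : Set U) (Q : Set U) := Set.disjoint_left.mpr fun s hs hsQ => hS Q hQ s hs hsQ
  have hu : (Q.map (algebraMap U V)).under U = Q :=
    IsLocalization.under_map_of_isPrime_disjoint S V inferInstance hdis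
  have hV : Q.map (algebraMap U V) ∈ associatedPrimes V V :=
    Module.associatedPrimes.mem_associatedPrimes_of_comap_mem_associatedPrimes_of_isLocalizedModule S
      (Algebra.linearMap U V) _ (by rw [show (Q.map (algebraMap U V)).comap (algebraMap U V) = Q from hu]; exact hQ)
  have hmin := h _ hV
  refine ⟨⟨inferInstance, bot_le⟩, fun P hP hle => ?_⟩
  have := hP.1
  have hdP : Disjoint (S : Set U) (P : Set U) := hdis.mono_right hle
  have := IsLocalization.isPrime_of_isPrime_disjoint S V P inferInstance hdP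
  have h1 := hmin.2 ⟨this, bot_le⟩ (Ideal.map_mono hle)
  calc Q = (Q.map (algebraMap U V)).under U := hu.symm
    _ ≤ (P.map (algebraMap U V)).under U := Ideal.comap_mono h1
    _ = P := IsLocalization.under_map_of_isPrime_disjoint S V inferInstance hdP

/-- No embedded primes localizes. -/
theorem noEmb_localization {U V : Type u} [CommRing U] [CommRing V] [IsNoetherianRing U] [Algebra U V]
    (S : Submonoid U) [IsLocalization S V]
    (h : ∀ Q ∈ associatedPrimes U U, Q ∈ minimalPrimes U) : ∀ Q ∈ associatedPrimes V V, Q ∈ minimalPrimes V := by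
  intro Q hQ
  have := hQ.isPrime
  have hQ' : Q.comap (algebraMap U V) ∈ associatedPrimes U U :=
    Module.associatedPrimes.comap_mem_associatedPrimes_of_mem_associatedPrimes_of_isLocalizedModule_of_fg S
      (Algebra.linearMap U V) Q hQ (IsNoetherian.noetherian _)
  refine ⟨⟨inferInstance, bot_le⟩, fun P hP hle => ?_⟩
  have := hP.1
  have h1 : Q.comap (algebraMap U V) ≤ P.comap (algebraMap U V) :=
    (h _ hQ').2 ⟨Ideal.IsPrime.comap _, bot_le⟩ (Ideal.comap_mono hle)
  rw [← IsLocalization.map_under S V Q, ← IsLocalization.map_under S V P]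
  exact Ideal.map_mono h1

/-- No embedded primes ascends along flat maps whose fibre rings over the minimal primes have none. -/
theorem noEmb_of_flat (C T : Type u) [CommRing C] [CommRing T] [IsNoetherianRing C] [IsNoetherianRing T]
    [Algebra C T] [Module.Flat C T] (hC : ∀ q ∈ associatedPrimes C C, q ∈ minimalPrimes C)
    (hfib : ∀ q ∈ minimalPrimes C, ∀ P ∈ associatedPrimes (T ⧸ q.map (algebraMap C T)) (T ⧸ q.map (algebraMap C T)),
      P ∈ minimalPrimes (T ⧸ q.map (algebraMap C T))) :
    ∀ Q ∈ associatedPrimes T T, Q ∈ minimalPrimes T := by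
  intro Q hQ
  have := hQ.isPrime
  have hQ' : Q ∈ associatedPrimes T (T ⊗[C] C) := by
    rwa [LinearEquiv.AssociatedPrimes.eq (TensorProduct.AlgebraTensorModule.rid C T T)]
  rw [Groth.Calg1.associatedPrimes_tensor] at hQ'
  obtain ⟨q, hq, hQq⟩ := Set.mem_iUnion₂.mp hQ'
  have := hq.isPrime
  set I := q.map (algebraMap C T) with hI
  have hQI : Q ∈ associatedPrimes T (T ⧸ I) := by
    rwa [LinearEquiv.AssociatedPrimes.eq (Submodule.quotEquivOfEq (I • (⊤ : Submodule T T)) I
      (by rw [smul_eq_mul, Ideal.mul_top]))] at hQq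
  obtain ⟨hass, -⟩ := Groth.Ega4Algebra1.map_mem_associatedPrimes_of_surjective (Ideal.Quotient.mk I)
    Ideal.Quotient.mk_surjective Ideal.mk_ker hQI
  have hmin := hfib q (hC q hq) _ hass
  have hle : I ≤ Q := by
    have := IsAssociatedPrime.annihilator_le hQI
    rwa [Submodule.annihilator_top, Ideal.annihilator_quotient] at this
  have hQq' : Q.under C = q := by
    refine le_antisymm (fun s hs => ?_) (Ideal.map_le_iff_le_comap.mp hle)
    by_contra hsq
    have : Module.Flat (C ⧸ q) (T ⧸ I) := Groth.Ega4Algebra1.flat_quotient_map q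
    refine Groth.Ega4Algebra1.algebraMap_notMem_of_mem_associatedPrimes hass (a := Ideal.Quotient.mk q s)
      (fun e => hsq (Ideal.Quotient.eq_zero_iff_mem.mp e)) ?_
    rw [Ideal.Quotient.algebraMap_quotient_map_quotient]
    exact Ideal.mem_map_of_mem _ hs
  refine ⟨⟨inferInstance, bot_le⟩, fun P hP hPQ => ?_⟩
  have := hP.1
  have hqP : q ≤ P.under C := (hC q hq).2 ⟨Ideal.IsPrime.comap _, bot_le⟩ ((Ideal.comap_mono hPQ).trans hQq'.le)
  have hIP : I ≤ P := Ideal.map_le_iff_le_comap.mpr hqP
  have hPmap : (P.map (Ideal.Quotient.mk I)).IsPrime :=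
    Ideal.map_isPrime_of_surjective Ideal.Quotient.mk_surjective (by rwa [Ideal.mk_ker])
  have h1 := hmin.2 ⟨hPmap, bot_le⟩ (Ideal.map_mono hPQ)
  calc Q ≤ (Q.map (Ideal.Quotient.mk I)).comap (Ideal.Quotient.mk I) := Ideal.le_comap_map
    _ ≤ (P.map (Ideal.Quotient.mk I)).comap (Ideal.Quotient.mk I) := Ideal.comap_mono h1
    _ = P := by rw [Ideal.comap_map_quotientMk, sup_eq_right.mpr hIP]

/-- Quotients of formally strictly catenary rings are formally strictly catenary. -/
theorem isFormallyStrictlyCatenary_of_surjective {R D : Type u} [CommRing R] [CommRing D] [IsLocalRing R]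
    [IsLocalRing D] [IsNoetherianRing R] [IsNoetherianRing D] (f : R →+* D) (hf : Function.Surjective f)
    (h : EGA4.IsFormallyStrictlyCatenary R) : EGA4.IsFormallyStrictlyCatenary D := by
  intro p _
  let e : (R ⧸ p.comap f) ≃+* D ⧸ p :=
    (Ideal.quotEquivOfEq (show p.comap f = RingHom.ker ((Ideal.Quotient.mk p).comp f) by
      rw [← RingHom.comap_ker, Ideal.mk_ker])).trans
      (RingHom.quotientKerEquivOfSurjective (f := (Ideal.Quotient.mk p).comp f)
        (Ideal.Quotient.mk_surjective.comp hf))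
  obtain ⟨e'⟩ := Groth.Hensel1.nonempty_cpl_ringEquiv e
  have := Groth.Ega4b.isNoetherianRing_cpl (R ⧸ p.comap f)
  have := Groth.Ega4b.isNoetherianRing_cpl (D ⧸ p)
  have := Groth.Hensel1.nontrivial_cpl (D ⧸ p)
  exact Groth.Hensel1.isStrictlyEquidim_of_ringEquiv e' (h (p.comap f))

/-- Local rings essentially of finite type over a regular local ring are formally strictly catenary. -/
theorem isFormallyStrictlyCatenary_of_regular (R : Type u) [CommRing R] [IsRegularLocalRing R] (D : Type u)
    [CommRing D] [IsLocalRing D] [IsNoetherianRing D] [Algebra R D] [Algebra.EssFiniteType R D] :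
    EGA4.IsFormallyStrictlyCatenary D := by
  set S := Algebra.EssFiniteType.subalgebra R D
  obtain ⟨n, f, hf⟩ := Algebra.FiniteType.iff_quotient_mvPolynomial''.mp
    (inferInstance : Algebra.FiniteType R S)
  set F := MvPolynomial (Fin n) R
  set φ : F →+* D := (S.val.comp f).toRingHom
  set N := (maximalIdeal D).comap φ
  have : N.IsPrime := Ideal.IsPrime.comap φ
  have hunit : ∀ y : N.primeCompl, IsUnit (φ y) := fun y => notMem_maximalIdeal.mp y.2
  let ψ : Localization.AtPrime N →+* D := IsLocalization.lift hunit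
  have hψ : Function.Surjective ψ := fun b => by
    obtain ⟨s, t, rfl⟩ := IsLocalization.exists_mk'_eq (Algebra.EssFiniteType.submonoid R D) b
    obtain ⟨x, rfl⟩ := hf s
    obtain ⟨y, hy⟩ := hf t
    have hyu : IsUnit (φ y) := by
      show IsUnit ((f y : S) : D)
      rw [hy]
      exact t.2
    refine ⟨IsLocalization.mk' _ x (⟨y, notMem_maximalIdeal.mpr hyu⟩ : N.primeCompl), ?_⟩
    rw [IsLocalization.lift_mk'_spec, mul_comm]
    show ((f x : S) : D) = _ * ((f y : S) : D)
    rw [hy]
    exact (IsLocalization.mk'_spec D (f x) t).symm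
  have : IsRegularRing R :=
    { isRegularLocalRing_localization := fun p _ =>
        Groth.Ega4Algebra1.isRegularLocalRing_localization_atPrime R p }
  have : IsRegularLocalRing (Localization.AtPrime N) := IsRegularRing.isRegularLocalRing_localization N
  refine isFormallyStrictlyCatenary_of_surjective ψ hψ ?_
  exact Groth.Ega4Algebra1.isFormallyStrictlyCatenary_of_CM_module _ (Localization.AtPrime N)
    (Groth.Calg6.isCohenMacaulayModule_of_isRegularLocalRing _) (by rw [Module.support_eq_zeroLocus, Module.annihilator_eq_bot.mpr inferInstance]; exact PrimeSpectrum.zeroLocus_bot)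

/-- The completion of a Noetherian local ring without embedded primes that is formally strictly catenary has
none. -/
theorem noEmb_cpl (D : Type u) [CommRing D] [IsLocalRing D] [IsNoetherianRing D]
    (hD : EGA4.IsFormallyStrictlyCatenary D) (h : ∀ Q ∈ associatedPrimes D D, Q ∈ minimalPrimes D) :
    ∀ Q ∈ associatedPrimes (EGA4.Cpl D) (EGA4.Cpl D), Q ∈ minimalPrimes (EGA4.Cpl D) := by
  have := Groth.Ega4b.isNoetherianRing_cpl D
  have : Module.Flat D (EGA4.Cpl D) := AdicCompletion.flat_of_isNoetherian _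
  refine noEmb_of_flat D (EGA4.Cpl D) h fun q hq => ?_
  have := Ideal.minimalPrimes_isPrime hq
  have : Nontrivial (D ⧸ q) := Ideal.Quotient.nontrivial_iff.mpr (Ideal.IsPrime.ne_top inferInstance)
  have := Groth.Ega4b.isNoetherianRing_cpl (D ⧸ q)
  let e : EGA4.Cpl (D ⧸ q) ≃+* EGA4.Cpl D ⧸ q.map (algebraMap D (EGA4.Cpl D)) :=
    ((Ideal.quotEquivOfEq (Groth.Ega4b.ker_cplQuot D q).symm).trans
      (RingHom.quotientKerEquivOfSurjective (Groth.Ega4b.cplQuot_surjective D q))).symm
  exact noEmb_of_ringEquiv e (noEmb_of_isStrictlyEquidim (hD q))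

/-- The generic fibre of a base change of a finitely generated field extension has no embedded primes. -/
theorem noEmb_field_tensor (A : Type u) [CommRing A] [IsDomain A] (L : Type u) [Field L] [Algebra A L]
    [FaithfulSMul A L] [Algebra.EssFiniteType A L] (Q : Type u) [CommRing Q] [IsDomain Q] [IsNoetherianRing Q]
    [Algebra A Q] [FaithfulSMul A Q] :
    ∀ P ∈ associatedPrimes (Q ⊗[A] L) (Q ⊗[A] L), P ∈ minimalPrimes (Q ⊗[A] L) := by
  let K := FractionRing A
  let κ := FractionRing Q
  have : FaithfulSMul A κ := (faithfulSMul_iff_algebraMap_injective A κ).mpr (by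
    rw [IsScalarTower.algebraMap_eq A Q κ]
    exact (IsFractionRing.injective Q κ).comp (FaithfulSMul.algebraMap_injective A Q))
  letI : Algebra K L := FractionRing.liftAlgebra A L
  letI : Algebra K κ := FractionRing.liftAlgebra A κ
  have : Module.Flat A K := IsLocalization.flat K (nonZeroDivisors A)
  have : Module.Flat A L := Module.Flat.trans A K L
  have : Algebra.EssFiniteType K L := Algebra.EssFiniteType.of_comp A K L
  have : IsNoetherianRing (Q ⊗[A] L) := Algebra.EssFiniteType.isNoetherianRing Q (Q ⊗[A] L)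
  -- the generic fibre
  letI : Algebra (Q ⊗[A] L) (κ ⊗[A] L) :=
    (Algebra.TensorProduct.map (IsScalarTower.toAlgHom A Q κ) (AlgHom.id A L)).toRingHom.toAlgebra
  have : IsScalarTower Q (Q ⊗[A] L) (κ ⊗[A] L) := IsScalarTower.of_algebraMap_eq fun x => by
    show (algebraMap Q κ x) ⊗ₜ[A] (1 : L) = Algebra.TensorProduct.map _ _ (x ⊗ₜ[A] (1 : L))
    rw [Algebra.TensorProduct.map_tmul, map_one]
    rfl
  have : IsLocalization (Algebra.algebraMapSubmonoid (Q ⊗[A] L) (nonZeroDivisors Q)) (κ ⊗[A] L) :=
    IsLocalization.tensorProduct_tensorProduct A L (nonZeroDivisors Q) κ (RingHom.ext fun l => by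
      show Algebra.TensorProduct.map (IsScalarTower.toAlgHom A Q κ) (AlgHom.id A L) ((1 : Q) ⊗ₜ[A] l) = _
      rw [Algebra.TensorProduct.map_tmul, map_one]
      rfl)
  refine noEmb_of_localization (Algebra.algebraMapSubmonoid (Q ⊗[A] L) (nonZeroDivisors Q)) ?_ ?_ (V := κ ⊗[A] L)
  · rintro P hP _ ⟨s, hs, rfl⟩
    exact Groth.Ega4Algebra1.algebraMap_notMem_of_mem_associatedPrimes hP (nonZeroDivisors.ne_zero hs)
  have : IsNoetherianRing (κ ⊗[A] L) := Algebra.EssFiniteType.isNoetherianRing κ (κ ⊗[A] L)
  have : IsNoetherianRing (κ ⊗[K] L) := Algebra.EssFiniteType.isNoetherianRing κ (κ ⊗[K] L)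
  have : TensorProduct.CompatibleSMul A K κ L := IsLocalization.tensorProduct_compatibleSMul (nonZeroDivisors A) K κ L
  refine noEmb_of_ringEquiv (Algebra.TensorProduct.equivOfCompatibleSMul A K K κ L).toRingEquiv
    fun P hP => ?_
  have := Groth.Ega4Algebra1.isCohenMacaulayRing_tensor_field K L κ (Groth.Ega4Algebra1.isCohenMacaulayRing_field κ)
  have := Groth.Ega4b.isCohenMacaulayRing_of_ringEquiv (Algebra.TensorProduct.comm K L κ).toRingEquiv this
  exact GrothGr.mem_minimalPrimes_of_mem_associatedPrimes_of_isCM hP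

/-- The main step: completions of local domains essentially of finite type have no embedded primes. -/
theorem noEmb_cpl_of_essFiniteType (A : Type u) [CommRing A] [IsDomain A] [IsNoetherianRing A] [IsLocalRing A]
    (hA : ∀ q ∈ associatedPrimes (EGA4.Cpl A) (EGA4.Cpl A), q ∈ minimalPrimes (EGA4.Cpl A))
    (B : Type u) [CommRing B] [IsDomain B] [IsNoetherianRing B] [IsLocalRing B] [Algebra A B]
    [Algebra.EssFiniteType A B] (hinj : Function.Injective (algebraMap A B)) :
    ∀ Q ∈ associatedPrimes (EGA4.Cpl B) (EGA4.Cpl B), Q ∈ minimalPrimes (EGA4.Cpl B) := by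
  let C := EGA4.Cpl A
  have : IsNoetherianRing C := Groth.Ega4b.isNoetherianRing_cpl A
  have : IsAdicComplete (maximalIdeal C) C := Groth.Ega4Algebra1.isLocalRing_cpl_complete A
  have : Module.Flat A C := AdicCompletion.flat_of_isNoetherian _
  have : IsLocalHom (algebraMap A C) :=
    AdicCompletion.algebraMap_isLocalHom_of_fg (maximalIdeal A).fg_of_isNoetherianRing
  have : Module.FaithfullyFlat A C := Module.FaithfullyFlat.of_flat_of_isLocalHom
  let L := FractionRing B
  have : FaithfulSMul A B := (faithfulSMul_iff_algebraMap_injective A B).mpr hinj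
  have : FaithfulSMul A L := (faithfulSMul_iff_algebraMap_injective A L).mpr (by
    rw [IsScalarTower.algebraMap_eq A B L]
    exact (IsFractionRing.injective B L).comp hinj)
  have : Algebra.EssFiniteType B L := Algebra.EssFiniteType.of_isLocalization L (nonZeroDivisors B)
  have : Algebra.EssFiniteType A L := Algebra.EssFiniteType.comp A B L
  have : IsNoetherianRing (C ⊗[A] B) := Algebra.EssFiniteType.isNoetherianRing C (C ⊗[A] B)
  have : IsNoetherianRing (C ⊗[A] L) := Algebra.EssFiniteType.isNoetherianRing C (C ⊗[A] L)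
  let K' := FractionRing A
  letI : Algebra K' L := FractionRing.liftAlgebra A L
  have : Module.Flat A K' := IsLocalization.flat K' (nonZeroDivisors A)
  have : Module.Flat A L := Module.Flat.trans A K' L
  -- the generic fibre of `B → C ⊗ B` has no embedded primes
  have hT : ∀ Q ∈ associatedPrimes (C ⊗[A] L) (C ⊗[A] L), Q ∈ minimalPrimes (C ⊗[A] L) := by
    refine noEmb_of_flat C (C ⊗[A] L) hA fun q hq => ?_
    have := Ideal.minimalPrimes_isPrime hq
    have hq0 : ∀ a : A, algebraMap A C a ∈ q → a = 0 := fun a ha => by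
      by_contra h0
      refine Groth.Ega4Algebra1.algebraMap_notMem_of_mem_associatedPrimes ?_ h0 ha
      exact Module.associatedPrimes.minimalPrimes_annihilator_subset_associatedPrimes C C
        (by rwa [Module.annihilator_eq_bot.mpr inferInstance])
    have : FaithfulSMul A (C ⧸ q) := (faithfulSMul_iff_algebraMap_injective A (C ⧸ q)).mpr
      ((injective_iff_map_eq_zero _).mpr fun a ha => hq0 a (Ideal.Quotient.eq_zero_iff_mem.mp ha))
    have : IsNoetherianRing ((C ⧸ q) ⊗[A] L) := Algebra.EssFiniteType.isNoetherianRing (C ⧸ q) ((C ⧸ q) ⊗[A] L)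
    let e₁ := (Algebra.TensorProduct.quotIdealMapEquivTensorQuot (C ⊗[A] L) q).toRingEquiv
    let e₂ := (Algebra.TensorProduct.comm C (C ⊗[A] L) (C ⧸ q)).toRingEquiv
    let e₃ := (Algebra.TensorProduct.cancelBaseChange A C (C ⧸ q) (C ⧸ q) L).toRingEquiv
    exact noEmb_of_ringEquiv ((e₁.trans e₂).trans e₃).symm (noEmb_field_tensor A L (C ⧸ q))
  letI : Algebra B (C ⊗[A] B) := Algebra.TensorProduct.rightAlgebra
  let e₄ : (C ⊗[A] B) ≃ₐ[B] (B ⊗[A] C) :=
    AlgEquiv.ofRingEquiv (f := (Algebra.TensorProduct.comm A C B).toRingEquiv) fun _ => rfl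
  have hflat : Module.Flat B (C ⊗[A] B) := Module.Flat.of_linearEquiv e₄.toLinearEquiv
  have hff : Module.FaithfullyFlat B (C ⊗[A] B) := Module.FaithfullyFlat.of_linearEquiv B _ e₄.toLinearEquiv
  have hU : ∀ Q ∈ associatedPrimes (C ⊗[A] B) (C ⊗[A] B), Q ∈ minimalPrimes (C ⊗[A] B) := by
    letI : Algebra (C ⊗[A] B) (C ⊗[A] L) :=
      (Algebra.TensorProduct.map (AlgHom.id A C) (IsScalarTower.toAlgHom A B L)).toRingHom.toAlgebra
    have : IsScalarTower C (C ⊗[A] B) (C ⊗[A] L) := IsScalarTower.of_algebraMap_eq (R := C) (S := C ⊗[A] B) (A := C ⊗[A] L) fun x => by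
      show x ⊗ₜ[A] (1 : L) = Algebra.TensorProduct.map _ _ (x ⊗ₜ[A] (1 : B))
      rw [Algebra.TensorProduct.map_tmul, map_one]
      rfl
    have : IsLocalization ((nonZeroDivisors B).map (Algebra.TensorProduct.includeRight (R := A) (A := C)))
        (C ⊗[A] L) :=
      IsLocalization.tensorProduct_tensorProduct_right A C (nonZeroDivisors B) L (RingHom.ext fun b => by
        show Algebra.TensorProduct.map (AlgHom.id A C) (IsScalarTower.toAlgHom A B L) ((1 : C) ⊗ₜ[A] b) = _
        rw [Algebra.TensorProduct.map_tmul, map_one]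
        rfl)
    refine noEmb_of_localization ((nonZeroDivisors B).map (Algebra.TensorProduct.includeRight (R := A) (A := C)))
      ?_ hT
    rintro Q hQ _ ⟨s, hs, rfl⟩
    exact Groth.Ega4Algebra1.algebraMap_notMem_of_mem_associatedPrimes hQ (nonZeroDivisors.ne_zero hs)
  -- localize over the maximal ideal of `B`
  obtain ⟨M, hM, hMo⟩ : ∃ M : Ideal (C ⊗[A] B), M.IsPrime ∧ M.LiesOver (maximalIdeal B) :=
    (maximalIdeal B).exists_isPrime_liesOver_of_faithfullyFlat
  let D := Localization.AtPrime M
  have hlocD : IsLocalHom (algebraMap B D) := by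
    refine ((IsLocalRing.local_hom_TFAE (algebraMap B D)).out 2 0).mp ?_
    rw [IsScalarTower.algebraMap_eq B (C ⊗[A] B) D, ← Ideal.map_map,
      ← Localization.AtPrime.map_eq_maximalIdeal (I := M)]
    exact Ideal.map_mono (Ideal.map_le_iff_le_comap.mpr hMo.over.le)
  have : Module.Flat B D := Module.Flat.trans B (C ⊗[A] B) D
  have hDne : ∀ Q ∈ associatedPrimes D D, Q ∈ minimalPrimes D := noEmb_localization (V := D) M.primeCompl hU
  -- `D` is essentially of finite type over a regular local ring
  obtain ⟨R, _, _, _, π, hπ⟩ := Groth.Ega4Algebra1.exists_regularLocal_surjective C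
  letI : Algebra R C := π.toAlgebra
  have : Algebra.FiniteType R C := by
    have : Module.Finite R C := Module.Finite.of_surjective (Algebra.linearMap R C) hπ
    infer_instance
  have : Algebra.EssFiniteType R (C ⊗[A] B) := Algebra.EssFiniteType.comp R C (C ⊗[A] B)
  have : Algebra.EssFiniteType R D := inferInstance
  have : IsRegularLocalRing R := IsRegularLocalRing.of_isRegularRing_of_isLocalRing R
  have hDfsc : EGA4.IsFormallyStrictlyCatenary D := isFormallyStrictlyCatenary_of_regular R D
  have hDhat := noEmb_cpl D hDfsc hDne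
  have := Groth.Ega4b.isNoetherianRing_cpl B
  have := Groth.Ega4b.isNoetherianRing_cpl D
  letI : Algebra (EGA4.Cpl B) (EGA4.Cpl D) := (Groth.Ega4b.cplHom B D).toAlgebra
  have : IsScalarTower B (EGA4.Cpl B) (EGA4.Cpl D) :=
    IsScalarTower.of_algebraMap_eq fun a => (Groth.Ega4b.cplHom_algebraMap B D a).symm
  have := Groth.Ega4b.flat_cplHom B D
  exact noEmb_descend (EGA4.Cpl B) (EGA4.Cpl D) hDhat

/-- Formal strict catenarity ascends along essentially finite type local algebras. -/
theorem isFormallyStrictlyCatenary_of_essFiniteType (A : Type u) [CommRing A] [IsNoetherianRing A] [IsLocalRing A]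
    (hA : EGA4.IsFormallyStrictlyCatenary A) (B : Type u) [CommRing B] [IsNoetherianRing B] [IsLocalRing B]
    [Algebra A B] [Algebra.EssFiniteType A B] : EGA4.IsFormallyStrictlyCatenary B := by
  intro q _
  have hfc : EGA4.IsFormallyCatenary A := fun p _ => by
    have := Groth.Ega4b.isNoetherianRing_cpl (A ⧸ p)
    exact Groth.Ega4Algebra1.isEquidim_of_isStrictlyEquidim (hA p)
  have heq : EGA4.IsFormallyEquidim (B ⧸ q) :=
    Groth.Ega4Algebra1.isFormallyEquidim_of_essFiniteType_domain A hfc (B ⧸ q)
  set p := RingHom.ker (algebraMap A (B ⧸ q))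
  have : p.IsPrime := RingHom.ker_isPrime _
  letI : Algebra (A ⧸ p) (B ⧸ q) := (RingHom.kerLift (algebraMap A (B ⧸ q))).toAlgebra
  have : IsScalarTower A (A ⧸ p) (B ⧸ q) :=
    IsScalarTower.of_algebraMap_eq (R := A) (S := A ⧸ p) (A := B ⧸ q) fun _ => rfl
  have : Algebra.EssFiniteType (A ⧸ p) (B ⧸ q) := Algebra.EssFiniteType.of_comp A (A ⧸ p) (B ⧸ q)
  have := Groth.Ega4b.isNoetherianRing_cpl (A ⧸ p)
  have hne := noEmb_cpl_of_essFiniteType (A ⧸ p) (noEmb_of_isStrictlyEquidim (hA p)) (B ⧸ q)
    (RingHom.kerLift_injective _)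
  exact fun P hP => heq P (hne P hP)

end Groth.Calg7.StrictCatenaryEssFT
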