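import Mathlib

/-! Direct summands lifting a given summand along a square-zero quotient, for split exact sequences. -/

namespace Groth.Calg7.SummandLift

open TensorProduct

universe u v

variable {R : Type u} [CommRing R]

theorem exists_proj {H : Type v} [AddCommGroup H] [Module R H] (F : Submodule R H) [Module.Projective R (H ⧸ F)] :
    ∃ π : H →ₗ[R] F, ∀ x : F, π x = x := by
  obtain ⟨s, hs⟩ := Module.projective_lifting_property F.mkQ LinearMap.id F.mkQ_surjective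
  have h : ∀ x, (LinearMap.id - s ∘ₗ F.mkQ : H →ₗ[R] H) x ∈ F := fun x => by
    rw [← Submodule.Quotient.mk_eq_zero]
    show F.mkQ (x - s (F.mkQ x)) = 0
    rw [map_sub, show F.mkQ (s (F.mkQ x)) = F.mkQ x from LinearMap.congr_fun hs _, sub_self]
  refine ⟨(LinearMap.id - s ∘ₗ F.mkQ : H →ₗ[R] H).codRestrict F h, fun x => Subtype.ext ?_⟩
  · show (x : H) - s (F.mkQ x) = x
    rw [show F.mkQ (x : H) = 0 from (Submodule.Quotient.mk_eq_zero F).2 x.2, map_zero, sub_zero]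

theorem tmul_eq_zero_iff {M : Type v} [AddCommGroup M] [Module R M] (𝔫 : Ideal R) (x : M) :
    (1 : R ⧸ 𝔫) ⊗ₜ[R] x = 0 ↔ x ∈ 𝔫 • (⊤ : Submodule R M) := by
  rw [← (TensorProduct.quotTensorEquivQuotSMul M 𝔫).map_eq_zero_iff,
    ← map_one (Ideal.Quotient.mk 𝔫)]
  erw [TensorProduct.quotTensorEquivQuotSMul_mk_tmul, one_smul, Submodule.Quotient.mk_eq_zero]

variable {H₁ H H₂ : Type v} [AddCommGroup H₁] [Module R H₁] [AddCommGroup H] [Module R H]
  [AddCommGroup H₂] [Module R H₂]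
variable (f : H₁ →ₗ[R] H) (g : H →ₗ[R] H₂) (F₁ : Submodule R H₁) (F₂ : Submodule R H₂)

/-- The shear by `u`. -/
def shear (u : H₂ →ₗ[R] H₁) : H →ₗ[R] H := LinearMap.id + f ∘ₗ u ∘ₗ g

variable {f g F₁ F₂}

theorem g_f (hfg : Function.Exact f g) (a : H₁) : g (f a) = 0 := (hfg _).2 ⟨a, rfl⟩

theorem shear_inter (hfg : Function.Exact f g) (u : H₂ →ₗ[R] H₁) (F : Submodule R H)
    (hF : F ⊓ LinearMap.range f = Submodule.map f F₁) :
    Submodule.map (shear f g u) F ⊓ LinearMap.range f = Submodule.map f F₁ := by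
  have hfix : ∀ a : H₁, shear f g u (f a) = f a := fun a => by simp [shear, g_f hfg]
  refine le_antisymm ?_ ?_
  · rintro _ ⟨⟨x, hx, rfl⟩, a, ha⟩
    have hgx : g x = 0 := by
      have := congrArg g ha
      simpa [shear, g_f hfg] using this.symm
    obtain ⟨b, rfl⟩ := (hfg x).1 hgx
    rw [hfix]
    rw [← hF]; exact ⟨hx, b, rfl⟩
  · rintro _ ⟨a, ha, rfl⟩
    have : f a ∈ F := (hF.ge ⟨a, ha, rfl⟩).1
    exact ⟨⟨f a, this, hfix a⟩, a, rfl⟩

theorem shear_map (hfg : Function.Exact f g) (u : H₂ →ₗ[R] H₁) (F : Submodule R H) (hF : Submodule.map g F = F₂) :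
    Submodule.map g (Submodule.map (shear f g u) F) = F₂ := by
  rw [← Submodule.map_comp, ← hF]
  congr 1
  ext x; simp [shear, g_f hfg]

theorem shear_isCompl (hfg : Function.Exact f g) (u : H₂ →ₗ[R] H₁) (F : Submodule R H)
    (hF : ∃ C, IsCompl F C) : ∃ C, IsCompl (Submodule.map (shear f g u) F) C := by
  obtain ⟨C, hC⟩ := hF
  let e : H ≃ₗ[R] H := LinearEquiv.ofLinearMap (shear f g u) (shear f g (-u))
    (by ext x; simp [shear, g_f hfg]) (by ext x; simp [shear, g_f hfg])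
  exact ⟨Submodule.map (e : H →ₗ[R] H) C, hC.map (Submodule.orderIsoMapComap e)⟩

theorem exists_shear (hf : Function.Injective f) (hfg : Function.Exact f g) [Module.Projective R F₂]
    [Module.Projective R (H₂ ⧸ F₂)] {F F' : Submodule R H}
    (hF : F ⊓ LinearMap.range f = Submodule.map f F₁ ∧ Submodule.map g F = F₂)
    (hF' : F' ⊓ LinearMap.range f = Submodule.map f F₁ ∧ Submodule.map g F' = F₂) :
    ∃ σ σ' : F₂ →ₗ[R] H, ∃ δ : H₂ →ₗ[R] H₁, (∀ y, σ y ∈ F ∧ g (σ y) = y) ∧ (∀ y, σ' y ∈ F' ∧ g (σ' y) = y) ∧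
      (∀ y : F₂, f (δ y) = σ' y - σ y) ∧
      ∀ u : H₂ →ₗ[R] H₁, (∀ y ∈ F₂, u y - δ y ∈ F₁) → Submodule.map (shear f g u) F = F' := by
  have lift : ∀ G : Submodule R H, Submodule.map g G = F₂ → ∃ σ : F₂ →ₗ[R] H, ∀ y, σ y ∈ G ∧ g (σ y) = y := by
    intro G hG
    let q : G →ₗ[R] F₂ := g.restrict fun x hx => hG ▸ ⟨x, hx, rfl⟩
    have hq : Function.Surjective q := fun ⟨y, hy⟩ => by
      obtain ⟨x, hx, hxy⟩ := hG.ge hy; exact ⟨⟨x, hx⟩, Subtype.ext hxy⟩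
    obtain ⟨s, hs⟩ := Module.projective_lifting_property q LinearMap.id hq
    exact ⟨G.subtype ∘ₗ s, fun y => ⟨(s y).2, congrArg Subtype.val (LinearMap.congr_fun hs y)⟩⟩
  obtain ⟨σ, hσ⟩ := lift F hF.2
  obtain ⟨σ', hσ'⟩ := lift F' hF'.2
  have hmem : ∀ y, (σ' - σ) y ∈ LinearMap.range f := fun y => by
    refine (hfg _).1 ?_
    simp [(hσ y).2, (hσ' y).2]
  obtain ⟨π, hπ⟩ := exists_proj F₂
  let δ₀ : F₂ →ₗ[R] H₁ := (LinearEquiv.ofInjective f hf).symm.toLinearMap ∘ₗ (σ' - σ).codRestrict _ hmem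
  let δ : H₂ →ₗ[R] H₁ := δ₀ ∘ₗ π
  have hδ : ∀ y : F₂, f (δ y) = σ' y - σ y := fun y => by
    show f (δ₀ (π y)) = _
    rw [hπ]
    exact congrArg Subtype.val ((LinearEquiv.ofInjective f hf).apply_symm_apply ((σ' - σ).codRestrict _ hmem y))
  refine ⟨σ, σ', δ, hσ, hσ', hδ, fun u hu => le_antisymm ?_ fun z hz => ?_⟩
  · rintro _ ⟨x, hx, rfl⟩
    have hy : g x ∈ F₂ := hF.2 ▸ ⟨x, hx, rfl⟩
    have h1 : x - σ ⟨g x, hy⟩ ∈ Submodule.map f F₁ := by
      rw [← hF.1]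
      exact ⟨sub_mem hx (hσ _).1, (hfg _).1 (by simp [(hσ ⟨g x, hy⟩).2])⟩
    have h2 : f (u (g x) - δ (g x)) ∈ Submodule.map f F₁ := ⟨_, hu _ hy, rfl⟩
    have h3 := hδ ⟨g x, hy⟩
    have : shear f g u x = (x - σ ⟨g x, hy⟩) + f (u (g x) - δ (g x)) + σ' ⟨g x, hy⟩ := by
      simp only [shear, LinearMap.add_apply, LinearMap.id_apply, LinearMap.comp_apply, map_sub, h3]
      abel
    rw [this]
    exact add_mem ((hF'.1.ge (add_mem h1 h2)).1) (hσ' _).1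
  · have hy : g z ∈ F₂ := hF'.2 ▸ ⟨z, hz, rfl⟩
    have h1 : z - σ' ⟨g z, hy⟩ ∈ Submodule.map f F₁ := by
      rw [← hF'.1]
      exact ⟨sub_mem hz (hσ' _).1, (hfg _).1 (by simp [(hσ' ⟨g z, hy⟩).2])⟩
    have h2 : f (u (g z) - δ (g z)) ∈ Submodule.map f F₁ := ⟨_, hu _ hy, rfl⟩
    have h3 := hδ ⟨g z, hy⟩
    refine ⟨(z - σ' ⟨g z, hy⟩) - f (u (g z) - δ (g z)) + σ ⟨g z, hy⟩, add_mem ((hF.1.ge (sub_mem h1 h2)).1) (hσ _).1, ?_⟩
    simp only [shear, LinearMap.add_apply, LinearMap.id_apply, LinearMap.comp_apply, map_add, map_sub, g_f hfg,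
      (hσ ⟨g z, hy⟩).2, (hσ' ⟨g z, hy⟩).2, h3, sub_self, sub_zero, zero_add, map_zero]
    abel

theorem shear_baseChange (𝔫 : Ideal R) (u : H₂ →ₗ[R] H₁) (hu : ∀ y, u y ∈ 𝔫 • (⊤ : Submodule R H₁))
    (F : Submodule R H) : Submodule.baseChange (R ⧸ 𝔫) (Submodule.map (shear f g u) F) = Submodule.baseChange (R ⧸ 𝔫) F := by
  rw [Submodule.baseChange_eq_span, Submodule.baseChange_eq_span, ← Submodule.map_comp]
  congr 3
  ext x
  have h0 : (1 : R ⧸ 𝔫) ⊗ₜ[R] f (u (g x)) = 0 := by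
    rw [tmul_eq_zero_iff]
    have := Submodule.mem_map_of_mem (f := f) (hu (g x))
    rw [Submodule.map_smul''] at this
    exact Submodule.smul_mono le_rfl le_top this
  simp [shear, TensorProduct.tmul_add, h0]

theorem proj_mem_smul {𝔫 : Ideal R} {π : H₁ →ₗ[R] F₁} {a : H₁} (h : a ∈ 𝔫 • (⊤ : Submodule R H₁)) :
    (π a : H₁) ∈ 𝔫 • F₁ := by
  have := Submodule.mem_map_of_mem (f := F₁.subtype ∘ₗ π) h
  rw [Submodule.map_smul''] at this
  refine Submodule.smul_mono le_rfl ?_ this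
  rintro _ ⟨x, -, rfl⟩
  exact (π x).2

theorem baseChange_inj {f : H₁ →ₗ[R] H} (hf : Function.Injective f) [Module.Projective R (H ⧸ LinearMap.range f)]
    (A : Type*) [CommRing A] [Algebra R A] : Function.Injective (f.baseChange A) := by
  obtain ⟨π, hπ⟩ := exists_proj (LinearMap.range f)
  let r : H →ₗ[R] H₁ := (LinearEquiv.ofInjective f hf).symm.toLinearMap ∘ₗ π
  have hr : r ∘ₗ f = LinearMap.id := LinearMap.ext fun a => by
    show (LinearEquiv.ofInjective f hf).symm (π (f a)) = a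
    rw [hπ ⟨f a, a, rfl⟩]
    exact (LinearEquiv.ofInjective f hf).symm_apply_apply a
  refine Function.LeftInverse.injective (g := r.baseChange A) fun z => ?_
  rw [← LinearMap.comp_apply, ← LinearMap.baseChange_comp, hr, LinearMap.baseChange_id, LinearMap.id_apply]

/-- Existence. -/
theorem exists_summand (hg : Function.Surjective g) (hfg : Function.Exact f g)
    (hf : Function.Injective f) [Module.Projective R H₂]
    [Module.Projective R F₂] [Module.Projective R (H₁ ⧸ F₁)] [Module.Projective R (H₂ ⧸ F₂)]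
    (𝔫 : Ideal R) (Fb : Submodule (R ⧸ 𝔫) ((R ⧸ 𝔫) ⊗[R] H))
    (h1 : Fb ⊓ LinearMap.range (f.baseChange (R ⧸ 𝔫)) =
      Submodule.map (f.baseChange (R ⧸ 𝔫)) (F₁.baseChange (R ⧸ 𝔫)))
    (h2 : Submodule.map (g.baseChange (R ⧸ 𝔫)) Fb = F₂.baseChange (R ⧸ 𝔫)) :
    ∃ F : Submodule R H, (∃ C : Submodule R H, IsCompl F C) ∧
      F ⊓ LinearMap.range f = Submodule.map f F₁ ∧
      F.baseChange (R ⧸ 𝔫) = Fb ∧ Submodule.map g F = F₂ := by
  obtain ⟨s, hs⟩ := Module.projective_lifting_property g LinearMap.id hg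
  have hs' : ∀ y, g (s y) = y := LinearMap.congr_fun hs
  obtain ⟨π₁, hπ₁⟩ := exists_proj F₁
  obtain ⟨π₂, hπ₂⟩ := exists_proj F₂
  -- lift `y ↦ 1 ⊗ y` to `Fb`
  let gb : Fb →ₗ[R] F₂.baseChange (R ⧸ 𝔫) :=
    ((g.baseChange (R ⧸ 𝔫)).restrict fun x hx => h2 ▸ ⟨x, hx, rfl⟩).restrictScalars R
  have hgb : Function.Surjective gb := fun ⟨y, hy⟩ => by
    obtain ⟨x, hx, hxy⟩ := h2.ge hy; exact ⟨⟨x, hx⟩, Subtype.ext hxy⟩
  let emb : F₂ →ₗ[R] F₂.baseChange (R ⧸ 𝔫) :=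
    LinearMap.codRestrict ((F₂.baseChange (R ⧸ 𝔫)).restrictScalars R)
      ((TensorProduct.mk R (R ⧸ 𝔫) H₂ 1) ∘ₗ F₂.subtype) fun y => Submodule.tmul_mem_baseChange_of_mem 1 y.2
  obtain ⟨τ, hτ⟩ := Module.projective_lifting_property gb emb hgb
  obtain ⟨σ₀, hσ₀⟩ := Module.projective_lifting_property (TensorProduct.mk R (R ⧸ 𝔫) H 1)
    ((Fb.subtype.restrictScalars R) ∘ₗ τ) (TensorProduct.mk_surjective R H (R ⧸ 𝔫) Ideal.Quotient.mk_surjective)
  let σ : F₂ →ₗ[R] H := σ₀ + s ∘ₗ (F₂.subtype - g ∘ₗ σ₀)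
  have hgσ : ∀ y : F₂, g (σ y) = y := fun y => by simp [σ, map_add, hs']
  have hbσ : ∀ y : F₂, (1 : R ⧸ 𝔫) ⊗ₜ[R] σ y ∈ Fb := fun y => by
    have h3 : (1 : R ⧸ 𝔫) ⊗ₜ[R] σ₀ y = (τ y : (R ⧸ 𝔫) ⊗[R] H) := LinearMap.congr_fun hσ₀ y
    have h4 : g.baseChange (R ⧸ 𝔫) (τ y : (R ⧸ 𝔫) ⊗[R] H) = (1 : R ⧸ 𝔫) ⊗ₜ[R] (y : H₂) :=
      congrArg Subtype.val (LinearMap.congr_fun hτ y)
    rw [← h3, LinearMap.baseChange_tmul] at h4
    have h5 : (1 : R ⧸ 𝔫) ⊗ₜ[R] ((y : H₂) - g (σ₀ y)) = 0 := by rw [TensorProduct.tmul_sub, h4, sub_self]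
    have h6 : (1 : R ⧸ 𝔫) ⊗ₜ[R] s ((y : H₂) - g (σ₀ y)) = 0 := by
      rw [← LinearMap.baseChange_tmul (f := s), h5, map_zero]
    simp only [σ, LinearMap.add_apply, LinearMap.comp_apply, LinearMap.sub_apply, Submodule.subtype_apply, TensorProduct.tmul_add]
    rw [h6, add_zero, h3]
    exact (τ y).2
  let F : Submodule R H := Submodule.map f F₁ ⊔ LinearMap.range σ
  have hFg : Submodule.map g F = F₂ := by
    rw [Submodule.map_sup, ← Submodule.map_comp, ← LinearMap.range_comp]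
    have e1 : g ∘ₗ f = 0 := LinearMap.ext fun a => g_f hfg a
    have e2 : g ∘ₗ σ = F₂.subtype := LinearMap.ext hgσ
    rw [e1, e2, Submodule.map_zero, bot_sup_eq, Submodule.range_subtype]
  have hFi : F ⊓ LinearMap.range f = Submodule.map f F₁ := by
    refine le_antisymm ?_ (le_inf le_sup_left LinearMap.map_le_range)
    rintro z ⟨hz, a, rfl⟩
    obtain ⟨x, hx, w, ⟨y, rfl⟩, hxw⟩ := Submodule.mem_sup.1 hz
    obtain ⟨b, hb, rfl⟩ := hx
    have : (y : H₂) = 0 := by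
      have := congrArg g hxw
      rwa [map_add, g_f hfg, g_f hfg, hgσ, zero_add] at this
    obtain rfl : y = 0 := Subtype.ext this
    rw [map_zero, add_zero] at hxw
    exact ⟨b, hb, hxw⟩
  refine ⟨F, ?_, hFi, ?_, hFg⟩
  · -- projection with image `F`
    let a : H →ₗ[R] H₁ := (LinearEquiv.ofInjective f hf).symm.toLinearMap ∘ₗ
      (LinearMap.id - s ∘ₗ g).codRestrict (LinearMap.range f) fun h => (hfg _).1 (by simp [hs'])
    have ha : ∀ h, f (a h) = h - s (g h) := fun h =>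
      congrArg Subtype.val ((LinearEquiv.ofInjective f hf).apply_symm_apply _)
    let σ' := σ ∘ₗ π₂
    let P : H →ₗ[R] H := f ∘ₗ (F₁.subtype ∘ₗ π₁) ∘ₗ a ∘ₗ (LinearMap.id - σ' ∘ₗ g) + σ' ∘ₗ g
    have hP : ∀ h, P h ∈ F := fun h =>
      add_mem (Submodule.mem_sup_left ⟨_, (π₁ _).2, rfl⟩) (Submodule.mem_sup_right ⟨_, rfl⟩)
    refine ⟨LinearMap.ker (P.codRestrict F hP), LinearMap.isCompl_of_proj fun x => Subtype.ext ?_⟩
    obtain ⟨x, hx⟩ := x
    show P x = x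
    have hgx : g x ∈ F₂ := hFg ▸ ⟨x, hx, rfl⟩
    have e1 : σ' (g x) = σ ⟨g x, hgx⟩ := congrArg σ (hπ₂ ⟨g x, hgx⟩)
    have e2 : x - σ ⟨g x, hgx⟩ ∈ Submodule.map f F₁ := by
      rw [← hFi]
      exact ⟨sub_mem hx (Submodule.mem_sup_right ⟨_, rfl⟩), (hfg _).1 (by simp [hgσ])⟩
    obtain ⟨b, hb, hbx⟩ := e2
    have e3 : a (f b) = b := hf (by rw [ha, g_f hfg, map_zero, sub_zero])
    show f (π₁ (a (x - σ' (g x))) : H₁) + σ' (g x) = x
    rw [e1, ← hbx, e3, hπ₁ ⟨b, hb⟩]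
    show f b + _ = x
    rw [hbx, sub_add_cancel]
  · refine le_antisymm ?_ fun z hz => ?_
    · rw [Submodule.baseChange_eq_span, Submodule.span_le]
      rintro _ ⟨x, hx, rfl⟩
      obtain ⟨_, ⟨b, hb, rfl⟩, _, ⟨y, rfl⟩, rfl⟩ := Submodule.mem_sup.1 hx
      show (1 : R ⧸ 𝔫) ⊗ₜ[R] (f b + σ y) ∈ Fb
      rw [TensorProduct.tmul_add]
      refine add_mem ((h1.ge ⟨_, Submodule.tmul_mem_baseChange_of_mem 1 hb, ?_⟩).1) (hbσ y)
      rfl
    · have hgz : g.baseChange (R ⧸ 𝔫) z ∈ F₂.baseChange (R ⧸ 𝔫) := h2 ▸ ⟨z, hz, rfl⟩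
      obtain ⟨t, ht⟩ := hgz
      set w := σ.baseChange (R ⧸ 𝔫) t
      have hw' : ∀ t, σ.baseChange (R ⧸ 𝔫) t ∈ Fb ∧ σ.baseChange (R ⧸ 𝔫) t ∈ F.baseChange (R ⧸ 𝔫) := by
        intro t
        induction t using TensorProduct.induction_on with
        | zero => exact ⟨by simp, by simp⟩
        | tmul c y =>
          refine ⟨?_, Submodule.tmul_mem_baseChange_of_mem _ (Submodule.mem_sup_right ⟨y, rfl⟩)⟩
          rw [LinearMap.baseChange_tmul, show c ⊗ₜ[R] σ y = c • ((1 : R ⧸ 𝔫) ⊗ₜ[R] σ y) by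
            rw [TensorProduct.smul_tmul', smul_eq_mul, mul_one]]
          exact Fb.smul_mem _ (hbσ y)
        | add t t' h h' => rw [map_add]; exact ⟨add_mem h.1 h'.1, add_mem h.2 h'.2⟩
      have hw : w ∈ Fb ∧ w ∈ F.baseChange (R ⧸ 𝔫) := hw' t
      have h3 : z - w ∈ LinearMap.range (f.baseChange (R ⧸ 𝔫)) := by
        have hex : Function.Exact (f.lTensor (R ⧸ 𝔫)) (g.lTensor (R ⧸ 𝔫)) := lTensor_exact _ hfg hg
        refine (hex (z - w)).1 ?_
        show g.baseChange (R ⧸ 𝔫) (z - σ.baseChange (R ⧸ 𝔫) t) = 0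
        rw [map_sub, ← LinearMap.comp_apply (g := σ.baseChange _), ← LinearMap.baseChange_comp,
          show g ∘ₗ σ = F₂.subtype from LinearMap.ext hgσ, ht, sub_self]
      have h4 := h1.le ⟨sub_mem hz hw.1, h3⟩
      rw [← sub_add_cancel z w]
      refine add_mem ?_ hw.2
      obtain ⟨t', ⟨t'', rfl⟩, ht'⟩ := h4
      rw [← ht', ← LinearMap.comp_apply, ← LinearMap.baseChange_comp]
      clear ht'
      induction t'' using TensorProduct.induction_on with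
      | zero => simp
      | tmul c y => exact Submodule.tmul_mem_baseChange_of_mem _ (Submodule.mem_sup_left ⟨y, y.2, rfl⟩)
      | add t t' ih ih' => rw [map_add]; exact add_mem ih ih'

end Groth.Calg7.SummandLift
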