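import Mathlib

/-! Roots of units, roots of unity and roots of a uniformizer over a henselian local ring with
algebraically closed residue field. -/

set_option autoImplicit false

namespace Groth.Calg7.TameDVR

open Polynomial IsLocalRing

universe u

section
variable {O : Type u} [CommRing O] [HenselianLocalRing O]

theorem exists_root_of_residue {n : ℕ} (hn : n ≠ 0) (hnu : IsUnit (n : O)) (u : O) (c : O)
    (hc : IsUnit c) (h : c ^ n - u ∈ maximalIdeal O) : ∃ a : O, a ^ n = u ∧ a - c ∈ maximalIdeal O := by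
  obtain ⟨a, ha, hac⟩ := HenselianLocalRing.is_henselian (X ^ n - C u) (monic_X_pow_sub_C u hn) c
    (by simpa using h) (by simpa [derivative_X_pow] using hnu.mul (hc.pow (n - 1)))
  exact ⟨a, sub_eq_zero.1 (by simpa [IsRoot] using ha), hac⟩

variable [IsAlgClosed (ResidueField O)]

theorem exists_root_unit {n : ℕ} (hn : n ≠ 0) (hnu : IsUnit (n : O)) (u : O) (hu : IsUnit u) :
    ∃ a : O, a ^ n = u := by
  obtain ⟨c, hc⟩ := IsAlgClosed.exists_pow_nat_eq (residue O u) (Nat.pos_of_ne_zero hn)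
  obtain ⟨c, rfl⟩ := residue_surjective c
  have hcu : IsUnit c := by
    rw [← residue_ne_zero_iff_isUnit]
    intro h
    rw [h, zero_pow hn, eq_comm] at hc
    exact (residue_ne_zero_iff_isUnit u).2 hu hc
  obtain ⟨a, ha, -⟩ := exists_root_of_residue hn hnu u c hcu
    (by rw [← residue_eq_zero_iff]; simp [hc])
  exact ⟨a, ha⟩

theorem exists_primitiveRoot {n : ℕ} (hn : n ≠ 0) (hnu : IsUnit (n : O)) :
    ∃ ζ : O, IsPrimitiveRoot ζ n := by
  haveI : NeZero (n : ResidueField O) := ⟨by
    rw [← map_natCast (residue O)]; exact (residue_ne_zero_iff_isUnit _).2 hnu⟩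
  haveI : NeZero n := ⟨hn⟩
  obtain ⟨z, hz⟩ := HasEnoughRootsOfUnity.exists_primitiveRoot (ResidueField O) n
  obtain ⟨c, rfl⟩ := residue_surjective z
  have hcu : IsUnit c := (residue_ne_zero_iff_isUnit c).1 (hz.ne_zero hn)
  obtain ⟨a, ha, hac⟩ := exists_root_of_residue hn hnu 1 c hcu
    (by rw [← residue_eq_zero_iff]; simp [hz.pow_eq_one])
  refine ⟨a, ha, fun l hl => hz.dvd_of_pow_eq_one l ?_⟩
  have hres : residue O a = residue O c := sub_eq_zero.1 (by
    rw [← map_sub]; exact (residue_eq_zero_iff _).2 hac)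
  rw [← hres, ← map_pow, hl, map_one]

variable [IsDomain O] (K : Type u) [Field K] [Algebra O K] [FaithfulSMul O K]

theorem primitiveRoots_nonempty {n : ℕ} (hn : n ≠ 0) (hnu : IsUnit (n : O)) :
    (primitiveRoots n K).Nonempty := by
  obtain ⟨ζ, hζ⟩ := exists_primitiveRoot hn hnu
  exact ⟨algebraMap O K ζ, (mem_primitiveRoots (Nat.pos_of_ne_zero hn)).2
    (hζ.map_of_injective (FaithfulSMul.algebraMap_injective O K))⟩

end

theorem natCast_isUnit {O : Type u} [CommRing O] [IsLocalRing O] (p : ℕ) [CharP (ResidueField O) p]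
    {n : ℕ} (h : ¬ p ∣ n) : IsUnit (n : O) := by
  rw [← residue_ne_zero_iff_isUnit, map_natCast, Ne, CharP.cast_eq_zero_iff (ResidueField O) p]
  exact h

theorem irreducible_X_pow_sub_uniformizer {O : Type u} [CommRing O] [IsDomain O]
    [IsDiscreteValuationRing O] {ϖ : O} (hϖ : Irreducible ϖ) {n : ℕ} (hn : n ≠ 0)
    (K : Type u) [Field K] [Algebra O K] [IsFractionRing O K] :
    Irreducible ((X : K[X]) ^ n - C (algebraMap O K ϖ)) := by
  have hm : maximalIdeal O = Ideal.span {ϖ} := hϖ.maximalIdeal_eq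
  have hmon : ((X : O[X]) ^ n - C ϖ).Monic := monic_X_pow_sub_C ϖ hn
  have hE : ((X : O[X]) ^ n - C ϖ).IsEisensteinAt (maximalIdeal O) := by
    refine hmon.isEisensteinAt_of_mem_of_notMem (maximalIdeal.isMaximal O).ne_top (fun {i} hi => ?_) ?_
    · rw [natDegree_X_pow_sub_C] at hi
      rw [coeff_sub, coeff_X_pow, if_neg hi.ne, coeff_C, zero_sub, neg_mem_iff]
      split_ifs
      · rw [hm]; exact Ideal.mem_span_singleton_self ϖ
      · exact zero_mem _
    · rw [coeff_sub, coeff_X_pow, if_neg (Ne.symm hn), coeff_C_zero, zero_sub, neg_mem_iff, hm,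
        Ideal.span_singleton_pow, Ideal.mem_span_singleton]
      intro h
      obtain ⟨c, hc⟩ := h
      have h1 : ϖ * 1 = ϖ * (ϖ * c) := by rw [mul_one, ← mul_assoc, ← sq, ← hc]
      exact hϖ.not_isUnit (IsUnit.of_mul_eq_one _ (mul_left_cancel₀ hϖ.ne_zero h1).symm)
  have hirr : Irreducible ((X : O[X]) ^ n - C ϖ) :=
    hE.irreducible (maximalIdeal.isMaximal O).isPrime hmon.isPrimitive
      (by rw [natDegree_X_pow_sub_C]; exact Nat.pos_of_ne_zero hn)
  simpa using (Monic.irreducible_iff_irreducible_map_fraction_map (K := K) hmon).1 hirr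

end Groth.Calg7.TameDVR
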