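/-
An element of `S ⊗[k] A` with a unit coordinate is a non-zero-divisor with flat cokernel over `S`,
when `k` is algebraically closed and `A` is a domain.
-/
import Mathlib
import Groth.Agent.VarietyBC.TensorAlgClosed
import Groth.Agent.Calg2.MLRestrict

open TensorProduct

namespace Groth.Calg7.UnitContent

universe u

variable {k : Type u} [Field k] {A : Type u} [CommRing A] [Algebra k A] {ι : Type u}
  (b : Module.Basis ι k A)

theorem repr_map {S T : Type u} [CommRing S] [Algebra k S] [CommRing T] [Algebra k T]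
    (φ : S →ₐ[k] T) (x : S ⊗[k] A) (i : ι) :
    (b.baseChange T).repr (Algebra.TensorProduct.map φ (AlgHom.id k A) x) i =
      φ ((b.baseChange S).repr x i) := by
  induction x using TensorProduct.induction_on with
  | zero => simp
  | tmul a y => simp [Algebra.smul_def, mul_comm]
  | add x y hx hy => simp [hx, hy]

/-- multiplication by `1 ⊗ e` in `T ⊗[S] (S ⊗[k] A)` read in `T ⊗[k] A` -/
theorem lTensor_mulLeft_injective {S T : Type u} [CommRing S] [Algebra k S] [CommRing T]
    [Algebra k T] [Algebra S T] [IsScalarTower k S T] (e : S ⊗[k] A)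
    (h : ∀ x : T ⊗[k] A,
      Algebra.TensorProduct.map (IsScalarTower.toAlgHom k S T) (AlgHom.id k A) e * x = 0 → x = 0) :
    Function.Injective (LinearMap.lTensor T (LinearMap.mulLeft S e)) := by
  let Φ := Algebra.TensorProduct.cancelBaseChange k S T T A
  have hΦ1 : ∀ z : S ⊗[k] A, Φ ((1 : T) ⊗ₜ[S] z) =
      Algebra.TensorProduct.map (IsScalarTower.toAlgHom k S T) (AlgHom.id k A) z := by
    intro z
    induction z using TensorProduct.induction_on with
    | zero => simp
    | tmul s a => simp [Φ, Algebra.algebraMap_eq_smul_one]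
    | add x y hx hy => simp only [tmul_add, map_add, hx, hy]
  have hmul : ∀ y : T ⊗[S] (S ⊗[k] A),
      LinearMap.lTensor T (LinearMap.mulLeft S e) y = ((1 : T) ⊗ₜ[S] e) * y := by
    intro y
    induction y using TensorProduct.induction_on with
    | zero => simp
    | tmul t z => simp
    | add x y hx hy => rw [map_add, hx, hy, mul_add]
  rw [injective_iff_map_eq_zero]
  intro y hy
  rw [hmul] at hy
  have := congrArg Φ hy
  rw [map_mul, map_zero, hΦ1] at this
  exact Φ.injective (by rw [map_zero]; exact h _ this)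

theorem field_case [IsAlgClosed k] [IsDomain A] {L : Type u} [Field L] [Algebra k L]
    {e : L ⊗[k] A} {j : ι} (hj : (b.baseChange L).repr e j ≠ 0) (x : L ⊗[k] A)
    (hx : e * x = 0) : x = 0 := by
  have := Groth.VarietyBC.isDomain_tensor (k := k) (A := L) (B := A)
  rcases mul_eq_zero.mp hx with h | h
  · simp [h] at hj
  · exact h

theorem noetherian_case [IsAlgClosed k] [IsDomain A] {S : Type u} [CommRing S] [Algebra k S]
    [IsNoetherianRing S] {e : S ⊗[k] A} {j : ι} (hj : IsUnit ((b.baseChange S).repr e j))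
    (M : Type u) [AddCommGroup M] [Module S M] [hM : Module.Finite S M] :
    Function.Injective (LinearMap.lTensor M (LinearMap.mulLeft S e)) := by
  induction hM using IsNoetherianRing.induction_on_isQuotientEquivQuotientPrime S with
  | subsingleton N => exact Function.injective_of_subsingleton _
  | quotient N p g =>
    let L := FractionRing (S ⧸ p.asIdeal)
    let i : (S ⧸ p.asIdeal) →ₗ[S] L := (IsScalarTower.toAlgHom S (S ⧸ p.asIdeal) L).toLinearMap
    have hi : Function.Injective i := IsFractionRing.injective (S ⧸ p.asIdeal) L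
    have hig : Function.Injective (i.comp g.toLinearMap) := hi.comp g.injective
    have hL : Function.Injective (LinearMap.lTensor L (LinearMap.mulLeft S e)) :=
      lTensor_mulLeft_injective e fun x hx => field_case b (j := j) (by
        rw [repr_map]; exact (hj.map (IsScalarTower.toAlgHom k S L)).ne_zero) x hx
    rw [injective_iff_map_eq_zero]
    intro y hy
    apply Module.Flat.rTensor_preserves_injective_linearMap (M := S ⊗[k] A) _ hig
    rw [map_zero]
    apply hL
    rw [map_zero]
    have := LinearMap.congr_fun ((LinearMap.lTensor_comp_rTensor _ (i.comp g.toLinearMap)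
      (LinearMap.mulLeft S e)).trans
      (LinearMap.rTensor_comp_lTensor _ (i.comp g.toLinearMap) (LinearMap.mulLeft S e)).symm) y
    simp only [LinearMap.comp_apply, hy, map_zero] at this
    exact this
  | exact N₁ N₂ N₃ f g hf hg hfg h₁ h₃ =>
    rw [injective_iff_map_eq_zero]
    intro x hx
    have hcomm : ∀ {P Q : Type u} [AddCommGroup P] [Module S P] [AddCommGroup Q] [Module S Q]
        (φ : P →ₗ[S] Q) (y : P ⊗[S] (S ⊗[k] A)),
        LinearMap.lTensor Q (LinearMap.mulLeft S e) (LinearMap.rTensor _ φ y) =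
          LinearMap.rTensor _ φ (LinearMap.lTensor P (LinearMap.mulLeft S e) y) := fun φ y =>
      LinearMap.congr_fun ((LinearMap.lTensor_comp_rTensor _ φ (LinearMap.mulLeft S e)).trans
        (LinearMap.rTensor_comp_lTensor _ φ (LinearMap.mulLeft S e)).symm) y
    have h3 : LinearMap.rTensor _ g x = 0 := h₃ (by rw [hcomm, hx, map_zero, map_zero])
    obtain ⟨y, rfl⟩ := (rTensor_exact (S ⊗[k] A) hfg hg x).mp h3
    rw [hcomm] at hx
    have := Module.Flat.rTensor_preserves_injective_linearMap (M := S ⊗[k] A) f hf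
      (hx.trans (map_zero _).symm)
    rw [h₁ (this.trans (map_zero _).symm), map_zero]

theorem regular_of_isUnit_repr [IsAlgClosed k] [IsDomain A] {S : Type u} [CommRing S] [Algebra k S]
    {e : S ⊗[k] A} {j : ι} (hj : IsUnit ((b.baseChange S).repr e j)) (x : S ⊗[k] A)
    (hx : e * x = 0) : x = 0 := by
  classical
  obtain ⟨v, hv⟩ := hj.exists_left_inv
  let ce := (b.baseChange S).repr e
  let cx := (b.baseChange S).repr x
  let S₀ : Subalgebra k S := Algebra.adjoin k
    (↑(ce.support.image ce ∪ cx.support.image cx ∪ {v}) : Set S)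
  have : Algebra.FiniteType k S₀ :=
    (Subalgebra.fg_iff_finiteType S₀).mp (Subalgebra.fg_adjoin_finset _)
  have : IsNoetherianRing S₀ := Algebra.FiniteType.isNoetherianRing k S₀
  let φ := Algebra.TensorProduct.map S₀.val (AlgHom.id k A)
  have hφ : Function.Injective φ :=
    Module.Flat.rTensor_preserves_injective_linearMap (M := A) S₀.val.toLinearMap
      Subtype.val_injective
  have lift : ∀ z : S ⊗[k] A, (∀ i, (b.baseChange S).repr z i ∈ S₀) → ∃ z₀, φ z₀ = z := by
    intro z hz
    refine ⟨∑ i ∈ ((b.baseChange S).repr z).support,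
      (⟨_, hz i⟩ : S₀) ⊗ₜ[k] b i, ?_⟩
    conv_rhs => rw [← (b.baseChange S).linearCombination_repr z, Finsupp.linearCombination_apply,
      Finsupp.sum]
    simp [φ, TensorProduct.smul_tmul']
  have hmem : ∀ i, ce i ∈ S₀ := fun i => by
    by_cases h : i ∈ ce.support
    · exact Algebra.subset_adjoin (by
        simp only [Finset.coe_union, Finset.coe_image, Set.mem_union, Set.mem_image, Finset.mem_coe]
        exact Or.inl (Or.inl ⟨i, h, rfl⟩))
    · rw [Finsupp.notMem_support_iff.mp h]; exact zero_mem _
  have hmem' : ∀ i, cx i ∈ S₀ := fun i => by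
    by_cases h : i ∈ cx.support
    · exact Algebra.subset_adjoin (by
        simp only [Finset.coe_union, Finset.coe_image, Set.mem_union, Set.mem_image, Finset.mem_coe]
        exact Or.inl (Or.inr ⟨i, h, rfl⟩))
    · rw [Finsupp.notMem_support_iff.mp h]; exact zero_mem _
  obtain ⟨e₀, he₀⟩ := lift e hmem
  obtain ⟨x₀, hx₀⟩ := lift x hmem'
  have hu : IsUnit ((b.baseChange S₀).repr e₀ j) := by
    refine IsUnit.of_mul_eq_one ⟨v, Algebra.subset_adjoin (by simp)⟩ (Subtype.ext ?_)
    have h := repr_map b S₀.val e₀ j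
    change (b.baseChange S).repr (φ e₀) j = _ at h
    rw [he₀] at h
    change S₀.val _ * v = 1
    rw [← h, mul_comm, hv]
  have h0 : e₀ * x₀ = 0 := hφ (by rw [map_mul, he₀, hx₀, hx, map_zero])
  have hinj := noetherian_case b hu S₀
  have : (1 : S₀) ⊗ₜ[S₀] x₀ = 0 := hinj (by simp [h0])
  have h1 := congrArg (TensorProduct.lid S₀ (S₀ ⊗[k] A)) this
  rw [TensorProduct.lid_tmul, one_smul, LinearEquiv.map_zero] at h1
  rw [← hx₀, h1, map_zero]

theorem flat_quotient_of_isUnit_repr [IsAlgClosed k] [IsDomain A] {S : Type u} [CommRing S]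
    [Algebra k S] {e : S ⊗[k] A} {j : ι} (hj : IsUnit ((b.baseChange S).repr e j)) :
    Module.Flat S ((S ⊗[k] A) ⧸ Ideal.span {e}) := by
  refine Groth.Calg2.flat_coker (LinearMap.mulLeft S e)
    ((Ideal.Quotient.mkₐ S (Ideal.span {e})).toLinearMap) ?_ (Ideal.Quotient.mkₐ_surjective S _)
    fun I _ => ?_
  · intro x
    change Ideal.Quotient.mk _ x = 0 ↔ _
    rw [Ideal.Quotient.eq_zero_iff_mem, Ideal.mem_span_singleton]
    exact ⟨fun ⟨c, hc⟩ => ⟨c, hc.symm⟩, fun ⟨c, hc⟩ => ⟨c, hc.symm⟩⟩
  · rw [← LinearMap.lTensor_inj_iff_rTensor_inj]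
    exact lTensor_mulLeft_injective e fun x hx => regular_of_isUnit_repr b (j := j) (by
      rw [repr_map]; exact hj.map (IsScalarTower.toAlgHom k S (S ⧸ I))) x hx

end Groth.Calg7.UnitContent
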