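import Mathlib

/-! Divisibility and inversion of the ghost map of Witt vectors over rings without `p`-torsion. -/

namespace Groth.Calg7.Ghost

open Finset

universe u

variable {p : ℕ} [hp : Fact p.Prime] {S : Type u} [CommRing S]

theorem ghost_eq (n : ℕ) (x : WittVector p S) :
    WittVector.ghostComponent n x = ∑ i ∈ range (n + 1), (p : S) ^ i * x.coeff i ^ p ^ (n - i) := by
  rw [WittVector.ghostComponent_apply, wittPolynomial_eq_sum_C_mul_X_pow]
  simp

omit hp in
theorem cancel_pow (hS : ∀ y : S, (p : S) * y = 0 → y = 0) (n : ℕ) {a b : S}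
    (h : (p : S) ^ n * a = (p : S) ^ n * b) : a = b := by
  induction n generalizing a b with
  | zero => simpa using h
  | succ n ih =>
    rw [pow_succ, mul_assoc, mul_assoc] at h
    have := ih h
    exact sub_eq_zero.1 (hS _ (by rw [mul_sub, this, sub_self]))

theorem exponent_le (n i s : ℕ) (hi : i ≤ n) (hs : 1 ≤ s) : n + s ≤ i + s * p ^ (n - i) := by
  have h1 : n - i + 1 ≤ p ^ (n - i) := Nat.lt_pow_self hp.out.one_lt
  have h2 := Nat.mul_le_mul (le_refl s) h1
  have h3 : n - i ≤ s * (n - i) := Nat.le_mul_of_pos_left _ hs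
  rw [Nat.mul_add, Nat.mul_one] at h2
  omega

theorem term_dvd (n i s : ℕ) (hi : i ≤ n) (hs : 1 ≤ s) {a : S} (ha : (p : S) ^ s ∣ a) :
    (p : S) ^ (n + s) ∣ (p : S) ^ i * a ^ p ^ (n - i) := by
  refine (pow_dvd_pow _ (exponent_le (p := p) n i s hi hs)).trans ?_
  rw [pow_add, pow_mul]
  exact mul_dvd_mul dvd_rfl (pow_dvd_pow_of_dvd ha _)

theorem dvd_ghost_of_dvd_coeff (x : WittVector p S) (n s : ℕ) (hs : 1 ≤ s)
    (h : ∀ i ≤ n, (p : S) ^ s ∣ x.coeff i) : (p : S) ^ (n + s) ∣ WittVector.ghostComponent n x := by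
  rw [ghost_eq]
  refine dvd_sum fun i hi => ?_
  have hi' := Nat.lt_succ_iff.1 (mem_range.1 hi)
  exact term_dvd n i s hi' hs (h i hi')

theorem dvd_coeff_of_dvd_ghost (hS : ∀ y : S, (p : S) * y = 0 → y = 0) (x : WittVector p S)
    (m s : ℕ) (hs : 1 ≤ s) (h : ∀ n ≤ m, (p : S) ^ (n + s) ∣ WittVector.ghostComponent n x) :
    ∀ i ≤ m, (p : S) ^ s ∣ x.coeff i := by
  intro i
  induction i using Nat.strong_induction_on with
  | _ i ih =>
    intro hi
    have h1 := h i hi
    rw [ghost_eq, sum_range_succ, Nat.sub_self, pow_zero, pow_one] at h1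
    have h2 : (p : S) ^ (i + s) ∣ ∑ j ∈ range i, (p : S) ^ j * x.coeff j ^ p ^ (i - j) :=
      dvd_sum fun j hj => term_dvd i j s (mem_range.1 hj).le hs (ih j (mem_range.1 hj) (by have := mem_range.1 hj; omega))
    obtain ⟨t, ht⟩ := (dvd_add_right h2).1 h1
    rw [pow_add, mul_assoc] at ht
    exact ⟨t, cancel_pow hS i ht⟩

theorem ghost_injective (hS : ∀ y : S, (p : S) * y = 0 → y = 0) {x y : WittVector p S}
    (h : ∀ n, WittVector.ghostComponent n x = WittVector.ghostComponent n y) : x = y := by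
  refine WittVector.ext fun n => ?_
  induction n using Nat.strong_induction_on with
  | _ n ih =>
    have h1 := h n
    rw [ghost_eq, ghost_eq, sum_range_succ, sum_range_succ] at h1
    rw [sum_congr rfl (fun j hj => by rw [ih j (mem_range.1 hj)])] at h1
    have h2 := add_left_cancel h1
    simp only [Nat.sub_self, pow_zero, pow_one] at h2
    exact cancel_pow hS n h2

/-- A family divisible enough is the ghost family of a Witt vector divisible by `p ^ s`. -/
theorem exists_of_ghost (hS : ∀ y : S, (p : S) * y = 0 → y = 0) (s : ℕ) (hs : 1 ≤ s) (g : ℕ → S)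
    (hg : ∀ n, (p : S) ^ (n + s) ∣ g n) :
    ∃ x : WittVector p S, (∀ i, (p : S) ^ s ∣ x.coeff i) ∧ ∀ n, WittVector.ghostComponent n x = g n := by
  classical
  choose t ht using hg
  let sol : ∀ n, (∀ j, j < n → S) → S := fun n prev =>
    if h : ∃ a, (p : S) ^ n * a = g n - ∑ j : Fin n, (p : S) ^ (j : ℕ) * prev j j.2 ^ p ^ (n - (j : ℕ)) then
      h.choose else 0
  let c : ℕ → S := fun n => Nat.strongRecOn (motive := fun _ => S) n fun n prev => sol n prev
  have hc : ∀ n, c n = sol n (fun j _ => c j) := fun n => Nat.strongRecOn_eq _ _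
  have key : ∀ n, (p : S) ^ s ∣ c n ∧ (p : S) ^ n * c n =
      g n - ∑ j : Fin n, (p : S) ^ (j : ℕ) * c j ^ p ^ (n - (j : ℕ)) := by
    intro n
    induction n using Nat.strong_induction_on with
    | _ n ih =>
      have h1 : (p : S) ^ (n + s) ∣ g n - ∑ j : Fin n, (p : S) ^ (j : ℕ) * c j ^ p ^ (n - (j : ℕ)) :=
        dvd_sub ⟨t n, ht n⟩ (dvd_sum fun j _ => term_dvd n j s j.2.le hs (ih j j.2).1)
      obtain ⟨a, ha⟩ := h1
      have h2 : ∃ b, (p : S) ^ n * b = g n - ∑ j : Fin n, (p : S) ^ (j : ℕ) * c j ^ p ^ (n - (j : ℕ)) :=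
        ⟨(p : S) ^ s * a, by rw [ha, pow_add, mul_assoc]⟩
      have h3 : c n = h2.choose := by rw [hc]; simp only [sol]; exact dif_pos h2
      have h4 := h2.choose_spec
      refine ⟨⟨a, ?_⟩, by rw [h3]; exact h4⟩
      apply cancel_pow hS n
      rw [h3, h4, ha, pow_add, mul_assoc]
  refine ⟨WittVector.mk p c, fun i => (key i).1, fun n => ?_⟩
  rw [ghost_eq, sum_range_succ, Nat.sub_self, pow_zero, pow_one]
  show (∑ i ∈ range n, (p : S) ^ i * c i ^ p ^ (n - i)) + (p : S) ^ n * c n = g n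
  rw [(key n).2, ← Fin.sum_univ_eq_sum_range (fun i => (p : S) ^ i * c i ^ p ^ (n - i)) n]
  ring

end Groth.Calg7.Ghost
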