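import Mathlib
import Groth.Agent.Calg7.WittGhost

/-! Closedness of `p^u W` in Witt vectors over `p`-adically complete rings without torsion. -/

set_option autoImplicit false

namespace Groth.Calg7.WittDiv

open WittVector Groth.Calg7.Ghost

universe u

variable {p : ℕ} [hp : Fact p.Prime] {S : Type u} [CommRing S]

/-- first `m` coefficients divisible by `p ^ s` -/
def Small (m s : ℕ) (x : WittVector p S) : Prop :=
  ∀ i < m, x.coeff i ∈ Ideal.span {(p : S) ^ s}

theorem small_iff (m s : ℕ) (x : WittVector p S) :
    Small m s x ↔ WittVector.truncate m (WittVector.map (Ideal.Quotient.mk (Ideal.span {(p : S) ^ s})) x) = 0 := by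
  rw [← RingHom.mem_ker, WittVector.mem_ker_truncate]
  simp [Small, Ideal.Quotient.eq_zero_iff_mem, WittVector.map_coeff]

theorem small_sub_of_congr (m s : ℕ) (x y : WittVector p S)
    (h : ∀ i < m, x.coeff i - y.coeff i ∈ Ideal.span {(p : S) ^ s}) : Small m s (x - y) := by
  rw [small_iff, map_sub, map_sub, sub_eq_zero]
  ext i
  simp only [WittVector.coeff_truncate, WittVector.map_coeff]
  exact Ideal.Quotient.eq.2 (h i i.2)

theorem congr_of_small_sub (m s : ℕ) (x y : WittVector p S) (h : Small m s (x - y)) :
    ∀ i < m, x.coeff i - y.coeff i ∈ Ideal.span {(p : S) ^ s} := by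
  rw [small_iff, map_sub, map_sub, sub_eq_zero] at h
  intro i hi
  have := congrArg (fun z => TruncatedWittVector.coeff ⟨i, hi⟩ z) h
  simp only [WittVector.coeff_truncate, WittVector.map_coeff] at this
  exact Ideal.Quotient.eq.1 this

theorem ghost_dvd {m s : ℕ} (hs : 1 ≤ s) {x : WittVector p S} (h : Small m s x) {n : ℕ} (hn : n < m) :
    (p : S) ^ (n + s) ∣ WittVector.ghostComponent n x :=
  dvd_ghost_of_dvd_coeff x n s hs fun i hi => Ideal.mem_span_singleton.1 (h i (by omega))

theorem small_of_ghost_dvd (hS : ∀ y : S, (p : S) * y = 0 → y = 0) {m s : ℕ} (hs : 1 ≤ s)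
    {x : WittVector p S} (h : ∀ n < m, (p : S) ^ (n + s) ∣ WittVector.ghostComponent n x) : Small m s x := by
  intro i hi
  exact Ideal.mem_span_singleton.2
    (dvd_coeff_of_dvd_ghost hS x i s hs (fun n hn => h n (by omega)) i le_rfl)

theorem small_mono {m s t : ℕ} (h : t ≤ s) {x : WittVector p S} (hx : Small m s x) : Small m t x :=
  fun i hi => Ideal.span_singleton_le_span_singleton.2 (pow_dvd_pow _ h) (hx i hi)

/-- dividing by `p ^ u` costs `u` in precision -/
theorem small_of_mul (hS : ∀ y : S, (p : S) * y = 0 → y = 0) {m s u : ℕ} (hs : u < s)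
    {x : WittVector p S} (h : Small m s ((p : WittVector p S) ^ u * x)) : Small m (s - u) x := by
  refine small_of_ghost_dvd hS (by omega) fun n hn => ?_
  obtain ⟨c, hc⟩ := ghost_dvd (by omega) h hn
  rw [map_mul, map_pow, map_natCast, show n + s = u + (n + (s - u)) by omega, pow_add, mul_assoc] at hc
  exact ⟨c, cancel_pow hS u hc⟩

theorem eq_zero_of_forall_small [IsHausdorff (Ideal.span {(p : S)}) S] {m : ℕ} {x : WittVector p S}
    (h : ∀ s, 1 ≤ s → Small m s x) : ∀ i < m, x.coeff i = 0 := by
  intro i hi
  refine IsHausdorff.haus ‹_› _ fun s => ?_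
  rw [SModEq.zero, smul_eq_mul, Ideal.mul_top, Ideal.span_singleton_pow]
  exact small_mono (Nat.le_succ s) (h (s + 1) (by omega)) i hi

/-- the equation `p ^ u * x = a` is solvable in `W_m` if it is modulo every `p ^ s` -/
theorem exists_solution (hS : ∀ y : S, (p : S) * y = 0 → y = 0) [IsAdicComplete (Ideal.span {(p : S)}) S]
    (a : WittVector p S) (m u : ℕ)
    (h : ∀ s : ℕ, ∃ z, Small m s ((p : WittVector p S) ^ u * z - a)) :
    ∃ x : WittVector p S, ∀ i < m, ((p : WittVector p S) ^ u * x - a).coeff i = 0 := by
  classical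
  choose z hz using fun s => h (s + u + 1)
  have hd : ∀ s t, s ≤ t → Small m (s + 1) (z s - z t) := by
    intro s t hst
    have e : (p : WittVector p S) ^ u * (z s - z t) =
        ((p : WittVector p S) ^ u * z s - a) - ((p : WittVector p S) ^ u * z t - a) := by ring
    have hsm : Small m (s + u + 1) ((p : WittVector p S) ^ u * (z s - z t)) := by
      rw [e, small_iff, map_sub, map_sub, (small_iff _ _ _).1 (hz s),
        (small_iff _ _ _).1 (small_mono (by omega) (hz t)), sub_zero]
    have := small_of_mul hS (by omega) hsm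
    rwa [show s + u + 1 - u = s + 1 by omega] at this
  have hcauchy : ∀ i < m, ∃ L : S, ∀ s, (z s).coeff i - L ∈ Ideal.span {(p : S) ^ s} := by
    intro i hi
    have hf : ∀ {a b : ℕ}, a ≤ b → (z a).coeff i ≡ (z b).coeff i
        [SMOD (Ideal.span {(p : S)}) ^ a • (⊤ : Submodule S S)] := by
      intro a b hab
      rw [SModEq.sub_mem, smul_eq_mul, Ideal.mul_top, Ideal.span_singleton_pow]
      exact congr_of_small_sub m a _ _ (small_mono (Nat.le_succ a) (hd a b hab)) i hi
    obtain ⟨L, hL⟩ := IsPrecomplete.prec inferInstance hf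
    refine ⟨L, fun s => ?_⟩
    have := SModEq.sub_mem.1 (hL s)
    rwa [smul_eq_mul, Ideal.mul_top, Ideal.span_singleton_pow] at this
  choose L hL using hcauchy
  refine ⟨WittVector.mk p fun i => if hi : i < m then L i hi else 0, eq_zero_of_forall_small fun s hs => ?_⟩
  set x := WittVector.mk p fun i => if hi : i < m then L i hi else 0
  have hx : Small m s (z s - x) := small_sub_of_congr m s _ _ fun i hi => by
    simpa [x, dif_pos hi] using hL i hi s
  have e : (p : WittVector p S) ^ u * x - a =
      ((p : WittVector p S) ^ u * z s - a) - (p : WittVector p S) ^ u * (z s - x) := by ring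
  rw [small_iff, e, map_sub, map_sub, (small_iff _ _ _).1 (small_mono (by omega) (hz s)),
    map_mul, map_mul, (small_iff _ _ _).1 hx, mul_zero, sub_zero]

/-- solvability in every `W_m` gives solvability in `W` -/
theorem exists_solution_all (hS : ∀ y : S, (p : S) * y = 0 → y = 0) [IsHausdorff (Ideal.span {(p : S)}) S]
    (a : WittVector p S) (u : ℕ)
    (h : ∀ m : ℕ, ∃ x : WittVector p S, ∀ i < m, ((p : WittVector p S) ^ u * x - a).coeff i = 0) :
    ∃ x : WittVector p S, (p : WittVector p S) ^ u * x = a := by
  choose y hy using h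
  have hu : ∀ m n, m ≤ n → ∀ i < m, (y m).coeff i = (y n).coeff i := by
    intro m n hmn
    have h0 : truncate m ((p : WittVector p S) ^ u * (y m - y n)) = 0 := by
      have e : (p : WittVector p S) ^ u * (y m - y n) =
        ((p : WittVector p S) ^ u * y m - a) - ((p : WittVector p S) ^ u * y n - a) := by ring
      have h1 : truncate m ((p : WittVector p S) ^ u * y m - a) = 0 := by
        rw [← RingHom.mem_ker, WittVector.mem_ker_truncate]; exact hy m
      have h2 : truncate m ((p : WittVector p S) ^ u * y n - a) = 0 := by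
        rw [← RingHom.mem_ker, WittVector.mem_ker_truncate]; exact fun i hi => hy n i (by omega)
      rw [e, map_sub, h1, h2, sub_zero]
    rw [← RingHom.mem_ker, WittVector.mem_ker_truncate] at h0
    have h1 : ∀ i < m, (y m - y n).coeff i = 0 := eq_zero_of_forall_small fun s hs => by
      have hsm : Small m (s + u) ((p : WittVector p S) ^ u * (y m - y n)) := fun i hi => by
        rw [h0 i hi]; exact Submodule.zero_mem _
      have := small_of_mul hS (by omega) hsm
      rwa [Nat.add_sub_cancel] at this
    intro i hi
    have h2 : truncate m (y m) = truncate m (y n) := by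
      rw [← sub_eq_zero, ← map_sub, ← RingHom.mem_ker, WittVector.mem_ker_truncate]; exact h1
    have := congrArg (fun z => TruncatedWittVector.coeff ⟨i, hi⟩ z) h2
    simpa [WittVector.coeff_truncate] using this
  refine ⟨WittVector.mk p fun i => (y (i + 1)).coeff i, WittVector.ext fun i => ?_⟩
  set x := WittVector.mk p fun i => (y (i + 1)).coeff i
  have h2 : truncate (i + 1) x = truncate (i + 1) (y (i + 1)) := by
    ext j
    simp only [WittVector.coeff_truncate]
    exact hu (j + 1) (i + 1) (by omega) j (by omega)
  have h3 : truncate (i + 1) ((p : WittVector p S) ^ u * x) = truncate (i + 1) a := by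
    rw [map_mul, h2, ← map_mul, ← sub_eq_zero, ← map_sub, ← RingHom.mem_ker,
      WittVector.mem_ker_truncate]
    exact hy (i + 1)
  have := congrArg (fun z => TruncatedWittVector.coeff ⟨i, Nat.lt_succ_self i⟩ z) h3
  rwa [WittVector.coeff_truncate, WittVector.coeff_truncate] at this

end Groth.Calg7.WittDiv
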