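import Mathlib

/-! Faithfully flat descent for the components of Witt vectors. -/

set_option autoImplicit false

namespace Groth.Calg7.WittEff

universe u

variable {R R' : Type u} [CommRing R] [CommRing R'] [Algebra R R'] [Module.FaithfullyFlat R R']

theorem mem_range_of_eq (b : R')
    (h : (Algebra.TensorProduct.includeLeftRingHom : R' →+* TensorProduct R R' R') b =
      ((Algebra.TensorProduct.includeRight : R' →ₐ[R] TensorProduct R R' R') : R' →+* TensorProduct R R' R') b) :
    b ∈ Set.range (algebraMap R R') := by
  refine ((Algebra.IsEffective.of_faithfullyFlat R R') b).1 ?_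
  rw [Algebra.TensorProduct.includeLeftSubRight_apply, sub_eq_zero]
  exact h

theorem algebraMap_injective : Function.Injective (algebraMap R R') :=
  FaithfulSMul.algebraMap_injective R R'

theorem includeLeft_algebraMap (r : R) :
    (Algebra.TensorProduct.includeLeftRingHom : R' →+* TensorProduct R R' R') (algebraMap R R' r) =
      ((Algebra.TensorProduct.includeRight : R' →ₐ[R] TensorProduct R R' R') : R' →+* TensorProduct R R' R')
        (algebraMap R R' r) := by
  have h := Algebra.TensorProduct.includeLeftSubRight_algebraMap_zero (R := R) (S := R') r
  rw [Algebra.TensorProduct.includeLeftSubRight_apply, sub_eq_zero] at h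
  exact h

end Groth.Calg7.WittEff
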